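import Cfsg.Agent.Lib.Sporadic.U62Centralizer.Counting
import Cfsg.Agent.Lib.Sporadic.MTwentyTwo.Unique
import Cfsg.Agent.Lib.Sporadic.MTwentyTwo.Semi
import Cfsg.Agent.Lib.Sporadic.MTwentyTwo.Reduce
import Cfsg.Agent.Lib.Sporadic.FiTransfer.Instance

/-!
# The class is of type M(22)

The common neighbours of a pair of members that do not commute generate a copy of the group
generated by one of three sets of transvections, equivalent under diagonal automorphisms. So does
the same group in Fi22, hence both are projective reflection groups in dimension six over three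
elements.
-/

set_option autoImplicit false
set_option linter.unusedSectionVars false
set_option maxRecDepth 100000

namespace CfsgLib.Sporadic.U62Centralizer

open Matrix CfsgLib.KnownC.AutPSU
open CfsgLib.Sporadic.FischerTransitivity
open CfsgLib.Sporadic.MTwentyTwo (K P TP Vec pts tp mk6 om two rep fullReps)

/-- The quotients by the centres of isomorphic groups. -/
theorem quotient_center_congr {A B : Type*} [Group A] [Group B] (e : A ≃* B) :
    Nonempty (A ⧸ Subgroup.center A ≃* B ⧸ Subgroup.center B) := by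
  refine ⟨QuotientGroup.congr _ _ e ?_⟩
  ext x
  rw [Subgroup.mem_map]
  simp only [Subgroup.mem_center_iff]
  constructor
  · rintro ⟨a, ha, rfl⟩ b
    obtain ⟨b, rfl⟩ := e.surjective b
    show e b * e a = e a * e b
    rw [← map_mul, ha, map_mul]
  · intro hx
    refine ⟨e.symm x, fun a => e.injective ?_, e.apply_symm_apply x⟩
    rw [map_mul, map_mul, e.apply_symm_apply, hx]

/-- A map injective on the subgroup generated by a set carries it onto the one generated by the image. -/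
theorem closure_iso {G : Type*} [Group G] {S : Set G} (f : G → P)
    (fm : ∀ a ∈ Subgroup.closure S, ∀ b ∈ Subgroup.closure S, f (a * b) = f a * f b)
    (fi : ∀ a ∈ Subgroup.closure S, f a = 1 → a = 1) :
    Nonempty (Subgroup.closure S ≃* Subgroup.closure (f '' S)) := by
  let φ : Subgroup.closure S →* P := MonoidHom.mk' (fun a => f a) fun a b => fm a a.2 b b.2
  have hφ : Function.Injective φ := by
    rw [← MonoidHom.ker_eq_bot_iff, eq_bot_iff]
    intro a ha
    rw [Subgroup.mem_bot]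
    exact Subtype.ext (fi a a.2 ha)
  have hr : φ.range = Subgroup.closure (f '' S) := by
    rw [MonoidHom.range_eq_map, ← Subgroup.closure_closure_coe_preimage, MonoidHom.map_closure]
    congr 1
    ext q
    constructor
    · rintro ⟨a, ha, rfl⟩
      exact ⟨a, ha, rfl⟩
    · rintro ⟨a, ha, rfl⟩
      exact ⟨⟨a, Subgroup.subset_closure ha⟩, ha, rfl⟩
  exact ⟨(MonoidHom.ofInjective hφ).trans (MulEquiv.subgroupCongr hr)⟩

/-- The points of one of the closed invariant sets. -/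
def shapeB (r v : Vec) : Bool := two v || MTwentyTwo.veq (rep v) r

/-- The transvections of one of the closed invariant sets. -/
def shapeTp (r : Vec) : Set P := tp '' {v | v ∈ pts ∧ shapeB r v = true}

theorem shapeB_iff {r v : Vec} : shapeB r v = true ↔ two v = true ∨ rep v = r := by
  rw [shapeB, Bool.or_eq_true, MTwentyTwo.veq_iff]

theorem shapeTp_of_shape {r : Vec} {S : Set Vec} (hsub : ∀ v ∈ S, v ∈ pts)
    (h : ∀ v ∈ pts, (v ∈ S ↔ two v = true ∨ rep v = r)) : tp '' S = shapeTp r := by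
  refine congrArg (tp '' ·) (Set.ext fun v => ?_)
  show v ∈ S ↔ v ∈ pts ∧ shapeB r v = true
  rw [shapeB_iff]
  exact ⟨fun hv => ⟨hsub v hv, (h v (hsub v hv)).1 hv⟩, fun ⟨hv, hh⟩ => (h v hv).2 hh⟩

theorem card_shapeTp {r : Vec} (hr : r ∈ fullReps) : (shapeTp r).ncard = 126 := by
  rw [shapeTp, Set.InjOn.ncard_image fun a ha b hb => MTwentyTwo.tp_inj ha.1 hb.1, MTwentyTwo.ncard_pts]
  have h := List.all_eq_true.1 MTwentyTwo.class_count r hr
  rw [beq_iff_eq] at h
  rw [← h]
  rfl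

theorem base_mem : mk6 1 1 1 1 1 1 ∈ fullReps := by
  have h : fullReps.any (fun r => MTwentyTwo.veq r (mk6 1 1 1 1 1 1)) = true := by decide +kernel
  obtain ⟨r, hr, e⟩ := List.any_eq_true.1 h
  exact MTwentyTwo.veq_iff.1 e ▸ hr

theorem diag_shapes : fullReps.all (fun r => [1, om, om + 1].any fun δ => pts.all fun v =>
    !shapeB (mk6 1 1 1 1 1 1) v || shapeB r (MTwentyTwo.dmul (mk6 δ 1 1 1 1 1) v)) = true := by
  decide +kernel

/-- The three sets of transvections generate isomorphic groups. -/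
theorem shape_iso {r : Vec} (hr : r ∈ fullReps) :
    Nonempty (Subgroup.closure (shapeTp (mk6 1 1 1 1 1 1)) ≃* Subgroup.closure (shapeTp r)) := by
  classical
  obtain ⟨δ, hδ, hall⟩ := List.any_eq_true.1 (List.all_eq_true.1 diag_shapes r hr)
  have hδ0 : δ ≠ 0 := by
    simp only [List.mem_cons, List.not_mem_nil, or_false] at hδ
    rcases hδ with rfl | rfl | rfl <;> decide
  obtain ⟨A, hA, -⟩ := MTwentyTwo.exists_diag_gu hδ0
  let α := semiAut A (RingEquiv.refl K)
  have hα : ∀ v ∈ pts, α (tp v) = tp (MTwentyTwo.dmul (mk6 δ 1 1 1 1 1) v) ∧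
      MTwentyTwo.dmul (mk6 δ 1 1 1 1 1) v ∈ pts := fun v hv => by
    have e : MTwentyTwo.phi A (RingEquiv.refl K) v = MTwentyTwo.dmul (mk6 δ 1 1 1 1 1) v := by
      rw [MTwentyTwo.phi, MTwentyTwo.semiVec_linear A (τ := RingEquiv.refl K) (fun _ => rfl), hA,
        MTwentyTwo.dmul_eq]
      congr 1
      funext i
      rw [Matrix.mulVec_diagonal]
    rw [← e]
    exact ⟨MTwentyTwo.semiAut_tp A _ hv, MTwentyTwo.phi_mem A _ hv⟩
  have himg : α '' shapeTp (mk6 1 1 1 1 1 1) = shapeTp r := by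
    refine Set.eq_of_subset_of_ncard_le ?_ ?_ (Set.toFinite _)
    · rintro _ ⟨_, ⟨v, ⟨hv, hs⟩, rfl⟩, rfl⟩
      have h := List.all_eq_true.1 hall v hv
      rw [hs, Bool.not_true, Bool.false_or] at h
      exact ⟨_, ⟨(hα v hv).2, h⟩, (hα v hv).1.symm⟩
    · rw [Set.ncard_image_of_injective _ (MulEquiv.injective α), card_shapeTp hr, card_shapeTp base_mem]
  refine ⟨(α.subgroupMap _).trans (MulEquiv.subgroupCongr ?_)⟩
  rw [MonoidHom.map_closure]
  exact congrArg Subgroup.closure himg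

variable {G : Type*} [Group G] [Finite G] {D : Set G}

/-- In a group of type M(22) the common neighbours generate one of the three groups. -/
theorem model_iso (ctx : MTwentyTwo.Ctx D) : ∃ d ∈ D, ∃ c ∈ D, ¬ Commute d c ∧
    (∃ c₃ : ZMod 3, c₃ ≠ 0 ∧ Cfsg.IsProjReflectionGroupModThree
      (↥(Subgroup.closure (Nb D d ∩ Nb D c)) ⧸ Subgroup.center ↥(Subgroup.closure (Nb D d ∩ Nb D c))) 6 1 c₃) ∧
    Nonempty (Subgroup.closure (Nb D d ∩ Nb D c) ≃* Subgroup.closure (shapeTp (mk6 1 1 1 1 1 1))) := by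
  obtain ⟨d, hd, c₀, hc₀, hn₀, -, hrefl⟩ := ctx.ht.2
  obtain ⟨π, hπ⟩ := ctx.exists_pi hd
  obtain ⟨c, hc, hdc, hinv⟩ := ctx.exists_csInv hd hπ
  refine ⟨d, hd, c, hc, hdc, ?_, ?_⟩
  · obtain ⟨c₃, hc₃, Q, hQ, hdet, ⟨e⟩⟩ := hrefl
    obtain ⟨g, hg1, hg2⟩ :=
      FischerRankThree.adj_transitive ctx.hD ctx.hclass ctx.hperf ctx.hsol hd hc hc₀ hdc hn₀
    have hmap : (Subgroup.closure (Nb D d ∩ Nb D c)).map (MulAut.conj g).toMonoidHom =
        Subgroup.closure (Nb D d ∩ Nb D c₀) := by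
      conv_rhs => rw [← hg1, ← hg2, ← FischerRankThree.nb_image ctx.hD, ← FischerRankThree.nb_image ctx.hD,
        ← Set.image_inter (fun a b h => mul_left_cancel (mul_right_cancel h))]
      rw [MonoidHom.map_closure]
      rfl
    obtain ⟨i⟩ := quotient_center_congr (((MulAut.conj g).subgroupMap _).trans (MulEquiv.subgroupCongr hmap))
    exact ⟨c₃, hc₃, Q, hQ, hdet, ⟨i.trans e⟩⟩
  · obtain ⟨r, hr, hS⟩ := ctx.cs_shape hd hπ hc hdc hinv
    have hL : Subgroup.closure (Nb D d ∩ Nb D c) ≤ MTwentyTwo.HG D d :=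
      Subgroup.closure_mono Set.inter_subset_left
    obtain ⟨e⟩ := closure_iso (S := Nb D d ∩ Nb D c) (MTwentyTwo.pf π)
      (fun a ha b hb => MTwentyTwo.pf_mul π (hL ha) (hL hb)) (fun a ha h => by
      rcases ctx.center_mem hd hπ (hL ha) h with h' | h'
      · exact h'
      · exact absurd (h' ▸ (MTwentyTwo.HG_commute
          (Subgroup.closure_mono (Set.inter_subset_right (s := Nb D d)) ha)).symm) hdc)
    have himg : MTwentyTwo.pf π '' (Nb D d ∩ Nb D c) = shapeTp r := by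
      rw [← shapeTp_of_shape (S := MTwentyTwo.cs π (Nb D d ∩ Nb D c)) (fun v hv => hv.1) (fun v hv => by
        rw [hS]; exact ⟨fun h => h.2, fun h => ⟨hv, h⟩⟩)]
      ext q
      constructor
      · rintro ⟨x, hx, rfl⟩
        obtain ⟨v, hv, ev⟩ := ctx.pf_mem hd hπ hx.1
        exact ⟨v, ⟨hv, x, hx, ev.symm⟩, ev⟩
      · rintro ⟨v, ⟨-, x, hx, ex⟩, rfl⟩
        exact ⟨x, hx, ex⟩
    obtain ⟨j⟩ := shape_iso hr
    exact ⟨e.trans ((MulEquiv.subgroupCongr (congrArg Subgroup.closure himg)).trans j.symm)⟩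

variable (ctx : Ctx D)
include ctx

/-- The group generated by the neighbours covers `PSU₆(2)`. -/
theorem nb_quotient {d : G} (hd : d ∈ D) :
    Nonempty (↥(Subgroup.closure (Nb D d)) ⧸ Subgroup.center ↥(Subgroup.closure (Nb D d)) ≃* P) := by
  obtain ⟨π, C⟩ := ctx.exists_chart hd
  set H := Subgroup.closure (Nb D d) with hH
  have hHc : ∀ h ∈ H, Commute h d := fun h hh => Subgroup.mem_centralizer_singleton_iff.1 <|
    (Subgroup.closure_le (K := Subgroup.centralizer ({d} : Set G))).2 (fun y hy =>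
      Subgroup.mem_centralizer_singleton_iff.2 hy.2.2.symm.eq) hh
  let φ : H →* P := MonoidHom.mk' (fun a => π a) fun a b => C.mul (hHc a a.2) (hHc b b.2)
  have hφ : Function.Surjective φ := fun q => by
    obtain ⟨k, hk, e⟩ := C.onto q
    exact ⟨⟨k, mem_closure_nb ctx hd hk⟩, e⟩
  have hker : Subgroup.center H = φ.ker := by
    refine le_antisymm (FiTransfer.Instance.center_le_ker φ hφ FiTransfer.Instance.center_PSU6) fun a ha => ?_
    rw [Subgroup.mem_center_iff]
    intro b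
    refine Subtype.ext ?_
    show (b : G) * a = a * b
    rcases (C.ker (hHc a a.2)).1 ha with h | h
    · rw [h, mul_one, one_mul]
    · rw [h]; exact (hHc b b.2).eq
  exact ⟨(QuotientGroup.quotientMulEquivOfEq hker).trans (QuotientGroup.quotientKerEquivOfSurjective φ hφ)⟩

theorem common_iso {d : G} (hd : d ∈ D) : ∃ c ∈ D, ¬ Commute d c ∧
    Nonempty (Subgroup.closure (Nb D d ∩ Nb D c) ≃* Subgroup.closure (shapeTp (mk6 1 1 1 1 1 1))) := by
  obtain ⟨π, C⟩ := ctx.exists_chart hd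
  obtain ⟨c, hc, hdc, hS⟩ := exists_invSet ctx hd C
  obtain ⟨r, hr, hrS⟩ := hS.shape
  refine ⟨c, hc, hdc, ?_⟩
  have hLd : ∀ a ∈ Subgroup.closure (Nb D d ∩ Nb D c), Commute a d ∧ Commute a c := fun a ha =>
    have h1 := (Subgroup.closure_le
      (K := Subgroup.centralizer ({d} : Set G) ⊓ Subgroup.centralizer ({c} : Set G))).2
      (fun y hy => ⟨mem_cent.2 hy.1.2.2.symm, mem_cent.2 hy.2.2.2.symm⟩) ha
    ⟨mem_cent.1 h1.1, mem_cent.1 h1.2⟩
  obtain ⟨e⟩ := closure_iso (S := Nb D d ∩ Nb D c) π (fun a ha b hb => C.mul (hLd a ha).1 (hLd b hb).1)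
    (fun a ha h => by
      rcases (C.ker (hLd a ha).1).1 h with h' | h'
      · exact h'
      · exact absurd (h' ▸ (hLd a ha).2) hdc)
  have himg : π '' (Nb D d ∩ Nb D c) = shapeTp r := by
    rw [← shapeTp_of_shape hS.sub hrS]
    ext q
    constructor
    · rintro ⟨x, hx, rfl⟩
      obtain ⟨v, hv, ev⟩ := C.exists_point hx.1
      exact ⟨v, ⟨hv, x, hx, ev⟩, ev.symm⟩
    · rintro ⟨v, ⟨-, x, hx, ex⟩, rfl⟩
      exact ⟨x, hx, ex⟩
  obtain ⟨j⟩ := shape_iso hr
  exact ⟨e.trans ((MulEquiv.subgroupCongr (congrArg Subgroup.closure himg)).trans j.symm)⟩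

/-- The class is of type M(22). -/
theorem isOfTypeM22 {d : G} (hd : d ∈ D) : Cfsg.IsOfTypeM22 G D := by
  obtain ⟨c, hc, hdc, ⟨e⟩⟩ := common_iso ctx hd
  have := CosetCert.FiP.finite
  obtain ⟨d₀, -, c₀, -, -, ⟨c₃, hc₃, Q, hQ, hdet, ⟨q⟩⟩, ⟨e₀⟩⟩ :=
    model_iso (G := Cfsg.Spor.Fi22) (D := FiTransfer.classTr)
      ⟨FiTransfer.Instance.isThreeTranspositionGroup, FiTransfer.Instance.isPrimitive,
        FiTransfer.Instance.isOfTypeM22⟩
  obtain ⟨i⟩ := quotient_center_congr (e.trans e₀.symm)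
  exact ⟨center_eq ctx hd, d, hd, c, hc, hdc,
    ⟨FieldFour, inferInstance, inferInstance, by decide, nb_quotient ctx hd⟩,
    c₃, hc₃, Q, hQ, hdet, ⟨i.trans q⟩⟩

end CfsgLib.Sporadic.U62Centralizer
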