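import Cfsg.Agent.Lib.Sporadic.U62Centralizer.Cover
import Cfsg.Agent.Lib.Sporadic.U62Centralizer.Reflection
import Mathlib.Algebra.Group.Shrink

/-!
# Involutions with centraliser a double cover of `PSU₆(2)`, not weakly closed

Their conjugates are a class of 3-transpositions of type M(22).
-/

set_option autoImplicit false
set_option linter.unusedSectionVars false
set_option maxRecDepth 100000

namespace CfsgLib.Sporadic.U62Centralizer

open CfsgLib.Sporadic.CosetCert CfsgLib.Sporadic.CosetCert.FiP CfsgLib.Sporadic.CosetCert.FiP.OutFi22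
open CfsgLib.Sporadic.FischerTransitivity (Nb)

variable {G : Type*} [Group G] [Finite G]

theorem invol_coe : (Schur.PSUSixTwo.invol : Cfsg.Spor.Fi22) = tr :=
  (ker_cases_tr (MonoidHom.mem_ker.1 Schur.PSUSixTwo.invol_spec.1)).resolve_left Schur.PSUSixTwo.invol_spec.2

/-- The centraliser is a copy of that of a transposition of Fi22. -/
theorem exists_model (d : G) (hd : orderOf d = 2)
    (hq : Cfsg.IsQuasisimple (Subgroup.centralizer ({d} : Set G)))
    [((Subgroup.zpowers d).subgroupOf (Subgroup.centralizer ({d} : Set G))).Normal]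
    (K : Type) [Field K] [Fintype K] (hK : Fintype.card K = 4)
    (e : (Subgroup.centralizer ({d} : Set G)) ⧸ (Subgroup.zpowers d).subgroupOf (Subgroup.centralizer ({d} : Set G))
      ≃* Cfsg.PSU 6 K 2) : Nonempty (Model d) := by
  set C := Subgroup.centralizer ({d} : Set G) with hC
  set N := (Subgroup.zpowers d).subgroupOf C
  have hdd : d * d = 1 := by rw [← pow_two, ← hd]; exact pow_orderOf_eq_one d
  have hd1 : d ≠ 1 := fun h => by rw [h, orderOf_one] at hd; norm_num at hd
  let ψ := Schur.PSUSixTwo.psuEquiv (FiniteField.ringEquivOfCardEq (K := Schur.PSUSixTwo.F4) (K' := K)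
    (FieldFour.card_eq.trans hK.symm))
  let m : Shrink.{0} C ≃* C := Shrink.mulEquiv
  haveI : Finite (Shrink.{0} C) := Finite.of_equiv C m.symm.toEquiv
  let π₀ : C →* Schur.PSUSixTwo.G := (e.trans ψ.symm).toMonoidHom.comp (QuotientGroup.mk' N)
  let π : Shrink.{0} C →* Schur.PSUSixTwo.G := π₀.comp m.toMonoidHom
  let d₀ : C := ⟨d, mem_cent.2 (Commute.refl d)⟩
  have hπ₀ : ∀ k, π₀ k = 1 ↔ k ∈ N := fun k => by
    show (e.trans ψ.symm) (QuotientGroup.mk k) = 1 ↔ _
    rw [MulEquiv.map_eq_one_iff, QuotientGroup.eq_one_iff]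
  have hperf : commutator (Shrink.{0} C) = ⊤ := by
    rw [_root_.commutator_def, ← Subgroup.map_top_of_surjective m.symm.toMonoidHom m.symm.surjective,
      ← Subgroup.map_commutator, ← _root_.commutator_def, Group.isPerfect_def.1 hq.1]
  obtain ⟨φ, hφ⟩ := exists_iso hperf (m.symm d₀)
    (fun h => hd1 (congrArg Subtype.val (m.symm.map_eq_one_iff.1 h)))
    (by rw [← map_mul, show d₀ * d₀ = 1 from Subtype.ext hdd, map_one])
    (fun c => m.injective (by
      rw [map_mul, map_mul, m.apply_symm_apply]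
      exact Subtype.ext (mem_cent.1 (m c).2).eq))
    π (fun q => by
      obtain ⟨x, hx⟩ := (e.trans ψ.symm).surjective q
      obtain ⟨k, rfl⟩ := QuotientGroup.mk_surjective x
      exact ⟨m.symm k, by show π₀ (m (m.symm k)) = q; rw [m.apply_symm_apply]; exact hx⟩)
    (by show π₀ (m (m.symm d₀)) = 1
        rw [m.apply_symm_apply, hπ₀]
        exact Subgroup.mem_zpowers d)
    (fun k hk => by
      have h : ((m k : C) : G) ∈ Subgroup.zpowers d := (hπ₀ (m k)).1 hk
      obtain ⟨i, hi⟩ := h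
      rcases Int.even_or_odd i with ⟨j, rfl⟩ | ⟨j, rfl⟩
      · left
        refine m.injective (Subtype.ext ?_)
        show ((m k : C) : G) = ((m 1 : C) : G)
        rw [map_one, ← hi]
        show d ^ (j + j) = 1
        rw [← two_mul, zpow_mul, zpow_two, hdd, one_zpow]
      · right
        refine m.injective (Subtype.ext ?_)
        show ((m k : C) : G) = ((m (m.symm d₀) : C) : G)
        rw [m.apply_symm_apply, ← hi]
        show d ^ (2 * j + 1) = d
        rw [zpow_add_one, zpow_mul, zpow_two, hdd, one_zpow, one_mul])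
  exact ⟨⟨m.symm.trans φ, fun h => by
    show (φ (m.symm ⟨d, h⟩) : Cfsg.Spor.Fi22) = tr
    rw [show (⟨d, h⟩ : C) = d₀ from rfl, hφ, invol_coe]⟩⟩

/-- The identification at a conjugate. -/
theorem model_conj {d : G} (M : Model d) (g : G) : Nonempty (Model (g * d * g⁻¹)) := by
  let f : Subgroup.centralizer ({g * d * g⁻¹} : Set G) ≃* Subgroup.centralizer ({d} : Set G) :=
    { toFun := fun x => ⟨g⁻¹ * x * g, mem_cent.2 (by
        have h := (Commute.conj_iff g⁻¹).2 (mem_cent.1 x.2)
        rwa [inv_inv, show g⁻¹ * (g * d * g⁻¹) * g = d by group] at h)⟩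
      invFun := fun x => ⟨g * x * g⁻¹, mem_cent.2 ((Commute.conj_iff g).2 (mem_cent.1 x.2))⟩
      left_inv := fun x => Subtype.ext (by simp [mul_assoc])
      right_inv := fun x => Subtype.ext (by simp [mul_assoc])
      map_mul' := fun x y => Subtype.ext (by simp [mul_assoc]) }
  refine ⟨⟨f.trans M.iso, fun h => ?_⟩⟩
  show (M.iso (f ⟨g * d * g⁻¹, h⟩) : Cfsg.Spor.Fi22) = tr
  rw [← M.map_self (mem_cent.2 (Commute.refl d))]
  congr 2
  exact Subtype.ext (show g⁻¹ * (g * d * g⁻¹) * g = d by group)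

/-- The conjugates of an involution form a class of transpositions. -/
theorem exists_ctx {d : G} (M : Model d) (hnwc : ∃ g : G, g * d * g⁻¹ ∈ Subgroup.centralizer ({d} : Set G) ∧ g * d * g⁻¹ ≠ d) :
    Ctx (conjugatesOf d) where
  cls a ha b hb := isConj_iff.1 ((IsConj.symm ha).trans hb)
  conj g a ha := IsConj.trans ha (isConj_iff.2 ⟨g, rfl⟩)
  nb := by
    intro x hx
    obtain ⟨h, rfl⟩ := isConj_iff.1 hx
    obtain ⟨Mx⟩ := model_conj M h
    refine ⟨Mx, fun y => ⟨fun ⟨hy, hne, hc⟩ => eType_of_conj Mx ((IsConj.symm hx).trans hy) hc.symm hne, ?_⟩⟩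
    rintro ⟨hc, e, he, hye⟩
    obtain ⟨g, hg, hgne⟩ := hnwc
    set y₀ := h * (g * d * g⁻¹) * h⁻¹
    have hy₀ : Commute y₀ (h * d * h⁻¹) := (Commute.conj_iff h).2 (mem_cent.1 hg)
    have hy₀D : y₀ ∈ conjugatesOf d := IsConj.trans (isConj_iff.2 ⟨g, rfl⟩) (isConj_iff.2 ⟨h, rfl⟩)
    obtain ⟨-, e₀, he₀, hye₀⟩ := eType_of_conj Mx ((IsConj.symm hx).trans hy₀D) hy₀
      fun e => hgne (mul_left_cancel (mul_right_cancel e))
    obtain ⟨k, -, ek⟩ := Mx.cj_pull hy₀ hc
      (by rw [hye₀, hye]; exact (exists_cj_154 he₀).trans (exists_cj_154 he).symm)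
    refine ⟨IsConj.trans hy₀D (isConj_iff.2 ⟨k, ek⟩), fun e' => img_ne_one he ?_, hc.symm⟩
    have h2 : dp e = tr := by rw [← hye, e', Mx.mo_self]
    exact (congrArg toPSU6 (Subtype.ext h2 : eH he = ⟨tr, tr_mem⟩)).trans toPSU6_tr

/-- The conjugates are a class of 3-transpositions of type M(22). -/
theorem type_m22 (d : G) (hd : orderOf d = 2)
    (hq : Cfsg.IsQuasisimple (Subgroup.centralizer ({d} : Set G)))
    [((Subgroup.zpowers d).subgroupOf (Subgroup.centralizer ({d} : Set G))).Normal]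
    (K : Type) [Field K] [Fintype K] (hK : Fintype.card K = 4)
    (e : (Subgroup.centralizer ({d} : Set G)) ⧸ (Subgroup.zpowers d).subgroupOf (Subgroup.centralizer ({d} : Set G))
      ≃* Cfsg.PSU 6 K 2)
    (hnwc : ∃ g : G, g * d * g⁻¹ ∈ Subgroup.centralizer ({d} : Set G) ∧ g * d * g⁻¹ ≠ d) :
    Cfsg.IsThreeTranspositionGroup (conjugatesOf d) ∧ Cfsg.IsPrimitiveUnderConj (conjugatesOf d) ∧
      Cfsg.IsOfTypeM22 G (conjugatesOf d) ∧ Cfsg.IsThreeTranspositionClass (conjugatesOf d) := by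
  obtain ⟨M⟩ := exists_model d hd hq K hK e
  have ctx := exists_ctx M hnwc
  have hmem : d ∈ conjugatesOf d := IsConj.refl d
  exact ⟨isGroup ctx hmem, isPrimitive ctx hmem, isOfTypeM22 ctx hmem,
    threeTransposition ctx, ⟨d, hmem, rfl⟩, gen_top ctx hmem⟩

end CfsgLib.Sporadic.U62Centralizer
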