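import Cfsg.Agent.Lib.Sporadic.FiUnitaryModel
import Cfsg.Agent.Lib.Sporadic.FiTransfer.PLocal.Tap
import Cfsg.Agent.Lib.Sporadic.MTwentyTwo.Count

/-!
# The 693 transpositions commuting with a transposition of Fi22 as unitary transvections

The points of the permutation representation of degree 3510 fixed by the transposition `tr`, other
than its own, correspond to the 693 transvections of `PSU₆(2)`.
-/

set_option autoImplicit false
set_option linter.unusedSectionVars false
set_option maxRecDepth 100000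

open Cfsg.Spor

namespace CfsgLib.Sporadic.U62Centralizer

open CfsgLib.Sporadic.CosetCert CfsgLib.Sporadic.CosetCert.FiP CfsgLib.Sporadic.CosetCert.FiP.OutFi22
open CfsgLib.Sporadic.FiTransfer CfsgLib.Sporadic.FiTransfer.PLocal
open CfsgLib.Sporadic.CosetCert.FiData (table)
open CfsgLib.Sporadic.MTwentyTwo (P Vec pts tp TP)

attribute [local irreducible] PTab.img CfsgLib.Sporadic.FiTransfer.PLocal.tap

/-- A point of the representation. -/
abbrev Pt : Type := Fin table.N

/-- The test for a neighbour of the first point. -/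
noncomputable def isE (q : ℕ) : Bool := !Nat.beq q 0 && rel 0 q

theorem count_isE : countK isE 3510 = 693 := by decide +kernel

/-- A neighbour of the base point. -/
def IsE (e : Pt) : Prop := e ≠ pt ∧ hom (dp pt) e = e

theorem isE_iff (e : Pt) : isE e = true ↔ IsE e := by
  have h0 : ((pt : Pt) : ℕ) = 0 := rfl
  rw [isE, Bool.and_eq_true, Bool.not_eq_true', Bool.eq_false_iff, Ne, Nat.beq_eq, ← h0, rel_iff]
  exact and_congr (not_congr (Fin.val_inj)) Iff.rfl

theorem tr_eq : tr = dp pt := by rw [dp_pt]; exact (coding.gen_code Fi22.Gen.a).symm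

theorem mem_grpH_iff {g : Fi22} : g ∈ grpH ↔ Commute g tr := by
  rw [← centralizer_tr, Subgroup.mem_centralizer_singleton_iff]
  rfl

theorem IsE.mem {e : Pt} (h : IsE e) : dp e ∈ grpH :=
  mem_grpH_iff.2 (tr_eq ▸ ((commute_dp_iff (dp pt) e).2 h.2).symm)

theorem tr_mem : tr ∈ grpH := mem_grpH_iff.2 (Commute.refl _)

/-- The centre of the double cover is generated by the transposition. -/
theorem toPSU6_tr : toPSU6 ⟨tr, tr_mem⟩ = 1 := by
  rw [← MonoidHom.mem_ker, ← centerU_eq, Subgroup.mem_center_iff]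
  exact fun g => Subtype.ext (mem_grpH_iff.1 g.2).eq

theorem ker_cases_tr {a : grpH} (ha : toPSU6 a = 1) : a = 1 ∨ (a : Fi22) = tr := by
  by_contra hc
  push Not at hc
  obtain ⟨w, -, hw⟩ := (Nat.card_eq_two_iff' (1 : toPSU6.ker)).1
    (by rw [toPSU6_ker]; exact card_ker_actU)
  have h := (hw ⟨a, MonoidHom.mem_ker.2 ha⟩ fun e => hc.1 (congrArg Subtype.val e)).trans
    (hw ⟨⟨tr, tr_mem⟩, toPSU6_tr⟩ fun e => tr_ne_one (congrArg (fun z : toPSU6.ker => ((z : grpH) : Fi22)) e)).symm
  exact hc.2 (congrArg (fun z : toPSU6.ker => ((z : grpH) : Fi22)) h)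

/-- The transposition of a neighbour, inside the centraliser. -/
noncomputable def eH {e : Pt} (h : IsE e) : grpH := ⟨dp e, h.mem⟩

theorem IsE.map {e : Pt} (he : IsE e) {g : Fi22} (hg : g ∈ grpH) : IsE (hom g e) := by
  refine ⟨fun h => he.1 ((hom g).injective (h.trans (hom_fix g hg).symm)), ?_⟩
  have hc : Commute g (dp pt) := tr_eq ▸ mem_grpH_iff.1 hg
  rw [← Equiv.Perm.mul_apply, ← map_mul, ← hc.eq, map_mul, Equiv.Perm.mul_apply, he.2]

theorem eH_conj {e : Pt} (he : IsE e) (g : grpH) :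
    g * eH he * g⁻¹ = eH (he.map g.2) := Subtype.ext (conj_dp _ e)

/-- The image in the simple group. -/
noncomputable def img {e : Pt} (h : IsE e) : P := toPSU6 (eH h)

theorem img_congr {e f : Pt} (h : IsE e) (h' : IsE f) (he : e = f) : img h = img h' := by
  subst he; rfl

theorem img_conj {e : Pt} (he : IsE e) (g : grpH) :
    toPSU6 g * img he * (toPSU6 g)⁻¹ = img (he.map g.2) := by
  rw [img, img, ← eH_conj he g, map_mul, map_mul, map_inv]

theorem img_ne_one {e : Pt} (he : IsE e) : img he ≠ 1 := fun h => by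
  rcases ker_cases_tr h with h1 | h1
  · exact dp_ne_one e (congrArg Subtype.val h1)
  · exact he.1 (dp_injective (h1.trans tr_eq))

/-- Two members of the class of transpositions have product of order at most three. -/
theorem prod_pow (p q : Pt) : (dp p * dp q) ^ 2 = 1 ∨ (dp p * dp q) ^ 3 = 1 := by
  obtain ⟨g, hg⟩ := transitive p
  obtain ⟨x, hx⟩ := transitive (hom g⁻¹ q)
  have hcj : ∀ n : ℕ, (tr * (x * tr * x⁻¹)) ^ n = 1 → (dp p * dp q) ^ n = 1 := fun n h => by
    have e1 : dp p = g * tr * g⁻¹ := by rw [tr_eq, conj_dp, hg]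
    have e2 : dp q = g * (x * tr * x⁻¹) * g⁻¹ := by
      rw [tr_eq, conj_dp, hx, conj_dp, ← Equiv.Perm.mul_apply, ← map_mul, mul_inv_cancel, map_one,
        Equiv.Perm.one_apply]
    rw [e1, e2, show g * tr * g⁻¹ * (g * (x * tr * x⁻¹) * g⁻¹) = g * (tr * (x * tr * x⁻¹)) * g⁻¹ by group,
      conj_pow, h, mul_one, mul_inv_cancel]
  have hfix : ∀ h ∈ grpH, ∀ (y : Fi22) (n : ℕ), (tr * y) ^ n = 1 → (tr * (h * y * h⁻¹)) ^ n = 1 :=
    fun h hh y n hy => by
      rw [show tr * (h * y * h⁻¹) = h * (tr * y) * h⁻¹ by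
        rw [← mul_assoc, ← mul_assoc, ← (mem_grpH_iff.1 hh).eq]
        group, conj_pow, hy, mul_one, mul_inv_cancel]
  rcases conj_cases x with ⟨h, -⟩ | ⟨h, hh, h' | h'⟩
  · exact Or.inl (hcj 2 (by rw [h, tr_mul_self, one_pow]))
  · refine Or.inl (hcj 2 ?_)
    rw [h']
    refine hfix h hh _ _ ?_
    have := wd_eq (r := (Fi22.a * Fi22.c) ^ 2) (s := 1) (by decide +kernel) (by decide +kernel)
      (by decide +kernel)
    simpa [wd, tr] using this
  · refine Or.inr (hcj 3 ?_)
    rw [h']
    refine hfix h hh _ _ ?_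
    have := wd_eq (r := (Fi22.a * Fi22.b) ^ 3) (s := 1) (by decide +kernel) (by decide +kernel)
      (by decide +kernel)
    simpa [wd, tr] using this

/-- The set of all images. -/
def ImgSet : Set P := {z | ∃ (e : Pt) (h : IsE e), img h = z}

theorem exists_isE : ∃ e : Pt, IsE e := by
  refine ⟨pnt 6, (isE_iff _).1 ?_⟩
  rw [pnt_val (by norm_num)]
  decide +kernel

theorem imgSet_invariant (g : P) {z : P} (hz : z ∈ ImgSet) : g * z * g⁻¹ ∈ ImgSet := by
  obtain ⟨e, he, rfl⟩ := hz
  obtain ⟨h, rfl⟩ := toPSU6_surjective g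
  exact ⟨_, he.map h.2, (img_conj he h).symm⟩

theorem img_order {a b : Pt} (ha : IsE a) (hb : IsE b) :
    (img ha * img hb) ^ 2 = 1 ∨ (img ha * img hb) ^ 3 = 1 := by
  have h : ∀ n : ℕ, (dp a * dp b) ^ n = 1 → (img ha * img hb) ^ n = 1 := fun n h => by
    rw [img, img, ← map_mul, ← map_pow, show (eH ha * eH hb) ^ n = 1 from Subtype.ext h, map_one]
  exact (prod_pow a b).imp (h 2) (h 3)

theorem img_mem_TP {e : Pt} (he : IsE e) : img he ∈ TP := by
  obtain ⟨v, hv, h⟩ := MTwentyTwo.exists_tp (E := ImgSet)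
    (by
      rintro _ ⟨f, hf, rfl⟩
      refine ⟨img_ne_one hf, ?_⟩
      rw [img, ← map_mul, show eH hf * eH hf = 1 from Subtype.ext (dp_sq f), map_one])
    (fun g z hz => imgSet_invariant g hz)
    (by
      rintro _ ⟨a, ha, rfl⟩ _ ⟨b, hb, rfl⟩
      exact img_order ha hb)
    ⟨e, he, rfl⟩
  exact h ▸ MTwentyTwo.mem_TP hv

theorem imgSet_eq : ImgSet = TP := by
  refine Set.Subset.antisymm (fun z ⟨e, he, h⟩ => h ▸ img_mem_TP he) fun z hz => ?_
  obtain ⟨e, he⟩ := exists_isE
  obtain ⟨g, hg⟩ := MTwentyTwo.TP_class _ (img_mem_TP he) z hz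
  exact hg ▸ imgSet_invariant g ⟨e, he, rfl⟩

theorem card_E : {e : Pt | IsE e}.ncard = 693 := by
  classical
  rw [← count_isE, countK_eq, ← Set.ncard_coe_finset]
  refine Set.ncard_congr (fun e _ => (e : ℕ)) (fun e he => ?_) (fun a b _ _ h => Fin.ext h) fun n hn => ?_
  · exact Finset.mem_coe.2 (Finset.mem_filter.2 ⟨Finset.mem_range.2 e.2, (isE_iff e).2 he⟩)
  · have hn' := Finset.mem_filter.1 (Finset.mem_coe.1 hn)
    exact ⟨⟨n, Finset.mem_range.1 hn'.1⟩, (isE_iff _).1 hn'.2, rfl⟩

/-- Different neighbours have different images. -/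
theorem img_inj {e f : Pt} (he : IsE e) (hf : IsE f) (h : img he = img hf) : e = f := by
  classical
  let F : Pt → P := fun x => if hx : IsE x then img hx else 1
  have hF : ∀ {x : Pt} (hx : IsE x), F x = img hx := fun {x} hx => dif_pos hx
  have himg : F '' {e : Pt | IsE e} = TP := by
    rw [← imgSet_eq]
    ext z
    exact ⟨fun ⟨x, hx, h⟩ => ⟨x, hx, (hF hx).symm.trans h⟩, fun ⟨x, hx, h⟩ => ⟨x, hx, (hF hx).trans h⟩⟩
  have hinj : Set.InjOn F {e : Pt | IsE e} := by
    refine Set.injOn_of_ncard_image_eq ?_ (Set.toFinite _)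
    rw [himg, MTwentyTwo.card_TP, card_E]
  exact hinj he hf ((hF he).trans (h.trans (hF hf).symm))

/-- Every transvection comes from exactly one neighbour. -/
theorem exists_of_tp {v : Vec} (hv : v ∈ pts) : ∃ (e : Pt) (h : IsE e), img h = tp v := by
  have : tp v ∈ ImgSet := imgSet_eq ▸ MTwentyTwo.mem_TP hv
  exact this

theorem exists_vec {e : Pt} (he : IsE e) : ∃ v ∈ pts, img he = tp v := by
  obtain ⟨v, hv, h⟩ := img_mem_TP he
  exact ⟨v, hv, h.symm⟩

/-- Commuting is decided in the simple group. -/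
theorem commute_img_iff {e f : Pt} (he : IsE e) (hf : IsE f) :
    Commute (img he) (img hf) ↔ Commute (dp e) (dp f) := by
  refine ⟨fun h => ?_, fun h => ?_⟩
  · by_cases hef : e = f
    · subst hef; exact Commute.refl _
    have sq : ∀ {a : Fi22} {b : Fi22}, a * a = 1 → b * b = 1 → (a * b) ^ 2 = 1 → Commute a b := by
      intro a b ha hb hab
      have : a * b = (a * b)⁻¹ := eq_inv_of_mul_eq_one_left (by rw [← pow_two, hab])
      show a * b = b * a
      rw [this, mul_inv_rev, inv_eq_of_mul_eq_one_right ha, inv_eq_of_mul_eq_one_right hb]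
    rcases prod_pow e f with h2 | h3
    · exact sq (dp_sq e) (dp_sq f) h2
    · exfalso
      have hsq : ∀ {x : Pt} (hx : IsE x), img hx * img hx = 1 := fun {x} hx => by
        rw [img, ← map_mul, show eH hx * eH hx = 1 from Subtype.ext (dp_sq x), map_one]
      have e3 : (img he * img hf) ^ 3 = 1 := by
        rw [img, img, ← map_mul, ← map_pow, show (eH he * eH hf) ^ 3 = 1 from Subtype.ext h3, map_one]
      have e2 : (img he * img hf) ^ 2 = 1 := by rw [h.mul_pow, pow_two, pow_two, hsq, hsq, one_mul]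
      rw [pow_succ, e2, one_mul] at e3
      exact hef (img_inj he hf (by
        calc img he = img he * (img hf * img hf) := by rw [hsq, mul_one]
          _ = img hf := by rw [← mul_assoc, e3, one_mul]))
  · show img he * img hf = img hf * img he
    rw [img, img, ← map_mul, ← map_mul, show eH he * eH hf = eH hf * eH he from Subtype.ext h.eq]

theorem rel_iff_commute (a b : Pt) : rel a b = true ↔ Commute (dp a) (dp b) := by
  rw [rel_iff, commute_dp_iff]
  rfl

end CfsgLib.Sporadic.U62Centralizer
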