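import Cfsg.Agent.Lib.Sporadic.U62Centralizer.Fusion
import Cfsg.Agent.Lib.Sporadic.FischerTransitivity

/-!
# Charts at the members of a class of transpositions

At each member `x` of the class the members commuting with it are the transvections of a `PSU₆(2)`.
-/

set_option autoImplicit false
set_option linter.unusedSectionVars false
set_option maxRecDepth 100000

open Cfsg.Spor

namespace CfsgLib.Sporadic.U62Centralizer

open CfsgLib.Sporadic.CosetCert CfsgLib.Sporadic.CosetCert.FiP CfsgLib.Sporadic.CosetCert.FiP.OutFi22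
open CfsgLib.Sporadic.FischerTransitivity
open CfsgLib.Sporadic.MTwentyTwo (P Vec pts tp TP)

attribute [local irreducible] CfsgLib.Sporadic.MTwentyTwo.pts PTab.img CfsgLib.Sporadic.FiTransfer.PLocal.tap

variable {G : Type*} [Group G]

/-- The braid relation of two involutions with product of order three. -/
theorem braid {a b : G} (ha : a * a = 1) (hb : b * b = 1) (h : (a * b) ^ 3 = 1) : a * b * a = b * a * b := by
  have h1 : a * b * a * (b * a * b) = 1 := by rw [← h, pow_succ, pow_two]; group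
  rw [eq_inv_of_mul_eq_one_left h1, mul_inv_rev, mul_inv_rev, inv_eq_of_mul_eq_one_right ha,
    inv_eq_of_mul_eq_one_right hb, mul_assoc]

/-- The class of a transposition: each centraliser is a copy of that of a transposition of Fi22 and
the members commuting with a member are its transpositions. -/
structure Ctx (D : Set G) : Prop where
  cls : ∀ a ∈ D, ∀ b ∈ D, ∃ g : G, g * a * g⁻¹ = b
  conj : ∀ g : G, ∀ a ∈ D, g * a * g⁻¹ ∈ D
  nb : ∀ x ∈ D, ∃ M : Model x, ∀ y, y ∈ Nb D x ↔ M.EType y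

/-- A map on the centraliser of `x` onto the simple group. -/
structure Chart (D : Set G) (x : G) (π : G → P) : Prop where
  mul : ∀ {k l}, Commute k x → Commute l x → π (k * l) = π k * π l
  ker : ∀ {k}, Commute k x → (π k = 1 ↔ k = 1 ∨ k = x)
  onto : ∀ q : P, ∃ k, Commute k x ∧ π k = q
  mem : ∀ {y}, y ∈ Nb D x → π y ∈ TP
  inj : ∀ {y z}, y ∈ Nb D x → z ∈ Nb D x → π y = π z → y = z
  surj : ∀ {q}, q ∈ TP → ∃ y ∈ Nb D x, π y = q
  comm : ∀ {y z}, y ∈ Nb D x → z ∈ Nb D x → (Commute (π y) (π z) ↔ Commute y z)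

namespace Chart

variable {D : Set G} {x : G} {π : G → P} (C : Chart D x π)
include C

theorem map_one : π 1 = 1 := (C.ker (Commute.one_left x)).2 (Or.inl rfl)

theorem map_inv {k : G} (hk : Commute k x) : π k⁻¹ = (π k)⁻¹ :=
  eq_inv_of_mul_eq_one_right (by rw [← C.mul hk hk.inv_left, mul_inv_cancel, C.map_one])

theorem map_conj {k y : G} (hk : Commute k x) (hy : Commute y x) : π (k * y * k⁻¹) = π k * π y * (π k)⁻¹ := by
  rw [C.mul (hk.mul_left hy) hk.inv_left, C.mul hk hy, C.map_inv hk]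

theorem recoord (q : P) : Chart D x fun y => q * π y * q⁻¹ where
  mul hk hl := by rw [C.mul hk hl]; group
  ker hk := by rw [conj_eq_one_iff]; exact C.ker hk
  onto r := by
    obtain ⟨k, hk, e⟩ := C.onto (q⁻¹ * r * q)
    exact ⟨k, hk, by rw [e]; group⟩
  mem hy := MTwentyTwo.TP_conj q (C.mem hy)
  inj hy hz e := C.inj hy hz (mul_left_cancel (mul_right_cancel e))
  surj {r} hr := by
    obtain ⟨y, hy, e⟩ := C.surj (show q⁻¹ * r * q ∈ TP by simpa using MTwentyTwo.TP_conj q⁻¹ hr)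
    exact ⟨y, hy, by rw [e]; group⟩
  comm hy hz := (Commute.conj_iff q).trans (C.comm hy hz)

theorem exists_point {y : G} (hy : y ∈ Nb D x) : ∃ v ∈ pts, π y = tp v := by
  obtain ⟨v, hv, e⟩ := C.mem hy
  exact ⟨v, hv, e.symm⟩

theorem exists_member {v : Vec} (hv : v ∈ pts) : ∃ y ∈ Nb D x, π y = tp v := C.surj (MTwentyTwo.mem_TP hv)

theorem orth_iff {y z : G} {v w : Vec} (hy : y ∈ Nb D x) (hz : z ∈ Nb D x) (hv : v ∈ pts) (hw : w ∈ pts)
    (ev : π y = tp v) (ew : π z = tp w) : MTwentyTwo.orth v w = true ↔ Commute y z := by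
  rw [← MTwentyTwo.tp_commute_iff hv hw, ← ev, ← ew, C.comm hy hz]

theorem image_eq : π '' Nb D x = TP :=
  Set.Subset.antisymm (fun _ ⟨_, hy, e⟩ => e ▸ C.mem hy) fun q hq => by
    obtain ⟨y, hy, e⟩ := C.surj hq
    exact ⟨y, hy, e⟩

theorem card_nb : (Nb D x).ncard = 693 := by
  rw [← MTwentyTwo.card_TP, ← C.image_eq, Set.InjOn.ncard_image fun y hy z hz e => C.inj hy hz e]

theorem card_nb_filter (p : P → Prop) :
    {y | y ∈ Nb D x ∧ p (π y)}.ncard = {q | q ∈ TP ∧ p q}.ncard := by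
  have h : π '' {y | y ∈ Nb D x ∧ p (π y)} = {q | q ∈ TP ∧ p q} := by
    ext q
    constructor
    · rintro ⟨y, ⟨hy, hp⟩, rfl⟩; exact ⟨C.mem hy, hp⟩
    · rintro ⟨hq, hp⟩
      obtain ⟨y, hy, rfl⟩ := C.surj hq
      exact ⟨y, ⟨hy, hp⟩, rfl⟩
  rw [← h, Set.InjOn.ncard_image fun y hy z hz e => C.inj hy.1 hz.1 e]

/-- A member other than `x` commuting with `x` commutes with 181 members commuting with `x`. -/
theorem card_comm {a : G} (ha : a ∈ Nb D x) : {y | y ∈ Nb D x ∧ Commute a y}.ncard = 181 := by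
  rw [← MTwentyTwo.card_perp (C.mem ha), ← C.card_nb_filter fun q => Commute (π a) q]
  congr 1
  ext y
  exact and_congr_right fun hy => (C.comm ha hy).symm

theorem card_noncomm [Finite G] {a : G} (ha : a ∈ Nb D x) : {y | y ∈ Nb D x ∧ ¬ Commute a y}.ncard = 512 := by
  have h := Set.ncard_inter_add_ncard_sdiff_eq_ncard (Nb D x) {y | Commute a y} (Set.toFinite _)
  rw [C.card_nb, show Nb D x ∩ {y | Commute a y} = {y | y ∈ Nb D x ∧ Commute a y} from rfl, C.card_comm ha] at h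
  rw [show {y | y ∈ Nb D x ∧ ¬ Commute a y} = Nb D x \ {y | Commute a y} from rfl]
  omega

end Chart

variable {D : Set G}

theorem Ctx.sq (ctx : Ctx D) {x : G} (hx : x ∈ D) : x * x = 1 := by
  obtain ⟨M, -⟩ := ctx.nb x hx
  exact M.sq_self

theorem Ctx.inv_eq (ctx : Ctx D) {x : G} (hx : x ∈ D) : x⁻¹ = x :=
  inv_eq_of_mul_eq_one_right (ctx.sq hx)

theorem Ctx.ne_one (ctx : Ctx D) {x : G} (hx : x ∈ D) : x ≠ 1 := fun h => by
  obtain ⟨M, -⟩ := ctx.nb x hx
  exact tr_ne_one (M.mo_self.symm.trans ((congrArg M.mo h).trans M.mo_one))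

theorem Ctx.exists_chart (ctx : Ctx D) {x : G} (hx : x ∈ D) : ∃ π, Chart D x π := by
  obtain ⟨M, hM⟩ := ctx.nb x hx
  classical
  let π : G → P := fun y => if h : Commute y x then toPSU6 (M.iso ⟨y, mem_cent.2 h⟩) else 1
  have hπ : ∀ {y : G} (h : Commute y x), π y = toPSU6 ⟨M.mo y, M.mo_mem h⟩ := fun {y} h => by
    show (if h : Commute y x then _ else _) = _
    rw [dif_pos h]
    exact congrArg toPSU6 (Subtype.ext (M.mo_eq h).symm)
  have hE : ∀ {y : G}, y ∈ Nb D x → ∃ (e : Pt) (he : IsE e), M.mo y = dp e ∧ π y = img he := fun {y} hy => by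
    obtain ⟨hc, e, he, hye⟩ := (hM y).1 hy
    exact ⟨e, he, hye, (hπ hc).trans (congrArg toPSU6 (Subtype.ext hye))⟩
  refine ⟨π, ⟨fun {k l} hk hl => ?_, fun {k} hk => ?_, fun q => ?_, fun {y} hy => ?_, fun {y z} hy hz e => ?_,
    fun {q} hq => ?_, fun {y z} hy hz => ?_⟩⟩
  · rw [hπ (hk.mul_left hl), hπ hk, hπ hl, ← map_mul]
    exact congrArg toPSU6 (Subtype.ext (M.mo_mul hk hl))
  · rw [hπ hk]
    constructor
    · intro h
      rcases ker_cases_tr h with h1 | h1
      · exact Or.inl (M.mo_inj hk (Commute.one_left x) ((congrArg Subtype.val h1).trans M.mo_one.symm))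
      · exact Or.inr (M.mo_inj hk (Commute.refl x) (h1.trans M.mo_self.symm))
    · intro h
      rcases h with h | h
      · exact (congrArg toPSU6 (Subtype.ext (h ▸ M.mo_one) : (⟨M.mo k, M.mo_mem hk⟩ : grpH) = 1)).trans (map_one _)
      · exact (congrArg toPSU6 (Subtype.ext (h ▸ M.mo_self) : (⟨M.mo k, M.mo_mem hk⟩ : grpH) = ⟨tr, tr_mem⟩)).trans
          toPSU6_tr
  · obtain ⟨a, rfl⟩ := toPSU6_surjective q
    obtain ⟨k, hk, e⟩ := M.exists_mo a.2
    exact ⟨k, hk, by rw [hπ hk]; exact congrArg toPSU6 (Subtype.ext e)⟩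
  · obtain ⟨e, he, -, e2⟩ := hE hy
    exact e2 ▸ img_mem_TP he
  · obtain ⟨a, ha, ea, ea'⟩ := hE hy
    obtain ⟨b, hb, eb, eb'⟩ := hE hz
    rw [ea', eb'] at e
    exact M.mo_inj hy.2.2.symm hz.2.2.symm (by rw [ea, eb, img_inj ha hb e])
  · obtain ⟨v, hv, rfl⟩ := hq
    obtain ⟨e, he, h⟩ := exists_of_tp hv
    obtain ⟨y, hy, ey⟩ := M.exists_mo he.mem
    refine ⟨y, (hM y).2 ⟨hy, e, he, ey⟩, ?_⟩
    rw [hπ hy, ← h]
    exact congrArg toPSU6 (Subtype.ext ey)
  · obtain ⟨a, ha, ea, ea'⟩ := hE hy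
    obtain ⟨b, hb, eb, eb'⟩ := hE hz
    rw [ea', eb', commute_img_iff ha hb, ← ea, ← eb, M.mo_commute hy.2.2.symm hz.2.2.symm]

theorem Ctx.nb_symm (ctx : Ctx D) {a b : G} (ha : a ∈ D) (h : b ∈ Nb D a) : a ∈ Nb D b :=
  ⟨ha, h.2.1.symm, h.2.2.symm⟩

/-- Two members commuting with a third generate a group of order at most six. -/
theorem Ctx.pow_three (ctx : Ctx D) {x y z : G} (hx : x ∈ D) (hy : y ∈ Nb D x) (hz : z ∈ Nb D x)
    (h : ¬ Commute y z) : (y * z) ^ 3 = 1 := by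
  obtain ⟨M, hM⟩ := ctx.nb x hx
  obtain ⟨hcy, a, ha, ea⟩ := (hM y).1 hy
  obtain ⟨hcz, b, hb, eb⟩ := (hM z).1 hz
  have hp : (dp a * dp b) ^ 3 = 1 := (prod_pow a b).resolve_left fun h2 => h ((M.mo_commute hcy hcz).1 (by
    rw [ea, eb]
    show dp a * dp b = dp b * dp a
    rw [eq_inv_of_mul_eq_one_left (show dp a * dp b * (dp a * dp b) = 1 by rw [← pow_two, h2]), mul_inv_rev,
      conj_inv_self, conj_inv_self]))
  have hc := hcy.mul_left hcz
  refine M.mo_inj (hc.pow_left 3) (Commute.one_left x) ?_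
  rw [pow_succ, pow_two, M.mo_mul (hc.mul_left hc) hc, M.mo_mul hc hc, M.mo_mul hcy hcz, ea, eb, ← pow_two,
    ← pow_succ, hp, M.mo_one]

end CfsgLib.Sporadic.U62Centralizer
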