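import Cfsg.Agent.Lib.Sporadic.U62Centralizer.Bridge
import Cfsg.Agent.Lib.Sporadic.U62Centralizer.Data
import Cfsg.Agent.Lib.Sporadic.U62Lift.Invol

/-!
# The involutions of the centraliser of a transposition of Fi22

An involution is conjugate into the group generated by one largest commuting set of transpositions;
there an element is `1`, the central transposition, another transposition, a square, or a
conjugate of one exceptional element.
-/

set_option autoImplicit false
set_option linter.unusedSectionVars false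
set_option maxRecDepth 100000

open Cfsg.Spor

namespace CfsgLib.Sporadic.U62Centralizer

open CfsgLib.Sporadic.CosetCert CfsgLib.Sporadic.CosetCert.FiP CfsgLib.Sporadic.CosetCert.FiP.OutFi22
open CfsgLib.Sporadic.FiTransfer CfsgLib.Sporadic.FiTransfer.PLocal
open CfsgLib.Sporadic.CosetCert.FiData (table)
open CfsgLib.Sporadic.MTwentyTwo (P Vec pts tp TP)

attribute [local irreducible] PTab.img CfsgLib.Sporadic.FiTransfer.PLocal.tap

/-! ### Moving commuting transpositions -/

theorem conj_inv_self (a : Pt) : (dp a)⁻¹ = dp a := inv_eq_of_mul_eq_one_right (dp_sq a)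

/-- Two transpositions that do not commute are exchanged by the third one. -/
theorem hom_third {a b : Pt} (h : ¬ Commute (dp a) (dp b)) : hom (dp (hom (dp a) b)) a = b := by
  have h3 : (dp a * dp b) ^ 3 = 1 := (prod_pow a b).resolve_left fun h2 => h (by
    have : dp a * dp b = (dp a * dp b)⁻¹ := eq_inv_of_mul_eq_one_left (by rw [← pow_two, h2])
    show dp a * dp b = dp b * dp a
    rw [this, mul_inv_rev, conj_inv_self, conj_inv_self])
  refine dp_injective ?_
  rw [← conj_dp, ← conj_dp (dp a) b, conj_inv_self a]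
  rw [pow_succ, pow_two] at h3
  calc dp a * dp b * dp a * dp a * (dp a * dp b * dp a)⁻¹
      = dp a * dp b * (dp a * dp a) * dp a * dp b * dp a := by
        rw [mul_inv_rev, mul_inv_rev, conj_inv_self, conj_inv_self]
        group
    _ = (dp a * dp b * (dp a * dp b) * (dp a * dp b)) * (dp b * dp b) * dp b := by
        rw [dp_sq a, dp_sq b]
        calc dp a * dp b * 1 * dp a * dp b * dp a
            = dp a * dp b * (dp a * dp b) * dp a * (dp b * dp b) := by rw [dp_sq b]; group
          _ = dp a * dp b * (dp a * dp b) * (dp a * dp b) * 1 * dp b := by group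
    _ = dp b := by rw [h3, dp_sq b, one_mul, one_mul]

theorem rel_false {a b : Pt} (h : rel a b = false) : ¬ Commute (dp a) (dp b) := fun hc => by
  rw [(rel_iff_commute a b).2 hc] at h
  exact Bool.noConfusion h

theorem fix_of_commute {g : Fi22} {c : Pt} (h : Commute g (dp c)) : hom g c = c :=
  (commute_dp_iff g c).1 h

/-- One step of a move. -/
theorem step {a b : Pt} (ha : IsE a) (hb : IsE b) (h : rel a b = false) :
    ∃ k ∈ grpH, hom k a = b ∧ ∀ c, Commute (dp a) (dp c) → Commute (dp b) (dp c) → hom k c = c := by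
  refine ⟨dp (hom (dp a) b), (hb.map ha.mem).mem, hom_third (rel_false h), fun c h1 h2 => ?_⟩
  refine fix_of_commute ?_
  rw [← conj_dp, conj_inv_self]
  exact (h1.mul_left h2).mul_left h1

/-- The test of a level of moves: every candidate has a witness joining it to the target. -/
noncomputable def levelK (fixed excl wit : List ℕ) (target : ℕ) : Bool :=
  (wit.all fun g => Nat.blt g 3510 && isE g && !rel g target && fixed.all fun f => rel f g) &&
    allBelow (fun q => !(isE q && (fixed.all fun f => rel f q) && !excl.any fun x => Nat.beq q x) ||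
      wit.any fun g => !rel q g) 3510

/-- The points of the line through the first two members of the clique. -/
def line : List ℕ := [154, 152, 243, 311, 504]

theorem level1 : levelK [] [] [28, 41, 219, 81, 45] 154 = true := by decide +kernel

theorem level2 : levelK [154] [154] [6, 16, 344] 152 = true := by decide +kernel

theorem level3 : levelK [154, 152] line [10, 18] 43 = true := by decide +kernel

theorem top_ok : allBelow (fun q => !(isE q && rel 154 q && rel 152 q && rel 43 q) ||
    clique.any fun x => Nat.beq q x) 3510 = true := by decide +kernel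

theorem line_sub : line.all (fun q => clique.any fun x => Nat.beq q x) = true := by decide

theorem fixed_isE : ([154, 152, 43] : List ℕ).all (fun q => Nat.blt q 3510 && isE q) = true := by decide +kernel

theorem level_move {fixed excl wit : List ℕ} {target : ℕ} (h : levelK fixed excl wit target = true)
    (htl : target < 3510) (ht : isE target = true) (hft : ∀ f ∈ fixed, f < 3510 ∧ rel f target = true) {q : Pt}
    (hq : IsE q) (hf : ∀ f ∈ fixed, rel f q = true) (hx : ∀ x ∈ excl, (q : ℕ) ≠ x) :
    ∃ k ∈ grpH, hom k q = pnt target ∧ ∀ f ∈ fixed, hom k (pnt f) = pnt f := by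
  simp only [levelK, Bool.and_eq_true, List.all_eq_true] at h
  obtain ⟨hw, hall⟩ := h
  have hqq := of_allBelow hall q q.2
  have hE : isE q = true := (isE_iff q).2 hq
  have hff : (fixed.all fun f => rel f q) = true := List.all_eq_true.2 hf
  have hex : (excl.any fun x => Nat.beq q x) = false := by
    rw [List.any_eq_false]
    exact fun x hx' e => hx x hx' (Nat.eq_of_beq_eq_true e)
  simp only [hE, hff, hex, Bool.and_self, Bool.not_false, Bool.not_true, Bool.false_or, List.any_eq_true,
    Bool.not_eq_true'] at hqq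
  obtain ⟨g, hg, hqg⟩ := hqq
  obtain ⟨⟨⟨hg1, hgE⟩, hgt⟩, hgf⟩ := hw g hg
  simp only [Nat.blt_eq] at hg1
  simp only [Bool.not_eq_true'] at hgt
  have hgE' : IsE (pnt g) := (isE_iff _).1 (by rw [pnt_val hg1]; exact hgE)
  have htE : IsE (pnt target) := (isE_iff _).1 (by rw [pnt_val htl]; exact ht)
  obtain ⟨k₁, hk₁, e₁, f₁⟩ := step hq hgE' (by rw [pnt_val hg1]; exact hqg)
  obtain ⟨k₂, hk₂, e₂, f₂⟩ := step hgE' htE (by rw [pnt_val hg1, pnt_val htl]; exact hgt)
  refine ⟨k₂ * k₁, mul_mem hk₂ hk₁, by rw [map_mul, Equiv.Perm.mul_apply, e₁, e₂], fun f hf' => ?_⟩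
  obtain ⟨hfl, hft'⟩ := hft f hf'
  have c : ∀ {x : Pt}, rel f x = true → Commute (dp x) (dp (pnt f)) := fun {x} hr =>
    ((rel_iff_commute (pnt f) x).1 (by rw [pnt_val hfl]; exact hr)).symm
  have cg : Commute (dp (pnt g)) (dp (pnt f)) := c (by rw [pnt_val hg1]; exact hgf f hf')
  rw [map_mul, Equiv.Perm.mul_apply, f₁ _ (c (hf f hf')) cg,
    f₂ _ cg (c (by rw [pnt_val htl]; exact hft'))]

theorem rel_self (q : Pt) : rel q q = true := (rel_iff_commute q q).2 (Commute.refl _)

theorem rel_move {a b : Pt} (g : Fi22) (h : rel a b = true) : rel (hom g a) (hom g b) = true := by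
  rw [rel_map]; exact h

theorem mem_line_or {q : Pt} (h : (q : ℕ) ∈ line) : (q : ℕ) ∈ clique := by
  obtain ⟨x, hx, e⟩ := List.any_eq_true.1 (List.all_eq_true.1 line_sub _ h)
  exact Nat.eq_of_beq_eq_true e ▸ hx

theorem mem_clique_154 : 154 ∈ clique := by decide

/-- Pairwise commuting neighbours can be moved into the clique at once. -/
theorem exists_into (es : List Pt) (hE : ∀ e ∈ es, IsE e) (hc : ∀ a ∈ es, ∀ b ∈ es, rel a b = true) :
    ∃ k ∈ grpH, ∀ e ∈ es, ((hom k e : Pt) : ℕ) ∈ clique := by
  have hfx := List.all_eq_true.1 fixed_isE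
  have hE154 : isE 154 = true := (Bool.and_eq_true_iff.1 (hfx 154 (by decide))).2
  have hE152 : isE 152 = true := (Bool.and_eq_true_iff.1 (hfx 152 (by decide))).2
  have hE43 : isE 43 = true := (Bool.and_eq_true_iff.1 (hfx 43 (by decide))).2
  rcases es with _ | ⟨a, t⟩
  · exact ⟨1, one_mem _, fun e he => absurd he List.not_mem_nil⟩
  obtain ⟨k₁, hk₁, e₁, -⟩ := level_move level1 (by norm_num) hE154 (fun f hf => absurd hf List.not_mem_nil)
    (hE a List.mem_cons_self) (fun f hf => absurd hf List.not_mem_nil) (fun f hf => absurd hf List.not_mem_nil)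
  have hE1 : ∀ e ∈ a :: t, IsE (hom k₁ e) := fun e he => (hE e he).map hk₁
  have v154 : ((pnt 154 : Pt) : ℕ) = 154 := pnt_val (by norm_num)
  have v152 : ((pnt 152 : Pt) : ℕ) = 152 := pnt_val (by norm_num)
  have v43 : ((pnt 43 : Pt) : ℕ) = 43 := pnt_val (by norm_num)
  have h1 : ∀ e ∈ a :: t, rel 154 (hom k₁ e : Pt) = true := fun e he => by
    rw [← v154, ← e₁]; exact rel_move _ (hc a List.mem_cons_self e he)
  by_cases hall : ∀ e ∈ a :: t, ((hom k₁ e : Pt) : ℕ) = 154
  · exact ⟨k₁, hk₁, fun e he => (hall e he).symm ▸ mem_clique_154⟩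
  push Not at hall
  obtain ⟨b, hb, hb1⟩ := hall
  obtain ⟨k₂, hk₂, e₂, f₂⟩ := level_move level2 (by norm_num) hE152
    (fun f hf => by
      rw [List.mem_singleton] at hf
      subst hf
      exact ⟨by norm_num, by decide +kernel⟩)
    (hE1 b hb) (fun f hf => by rw [List.mem_singleton] at hf; subst hf; exact h1 b hb)
    (fun f hf => by rw [List.mem_singleton] at hf; subst hf; exact hb1)
  have f154 : hom k₂ (pnt 154) = pnt 154 := f₂ 154 List.mem_cons_self
  have hE2 : ∀ e ∈ a :: t, IsE (hom k₂ (hom k₁ e)) := fun e he => (hE1 e he).map hk₂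
  have g1 : ∀ e ∈ a :: t, rel 154 (hom k₂ (hom k₁ e) : Pt) = true := fun e he => by
    rw [← v154, ← f154]; exact rel_move _ (by rw [v154]; exact h1 e he)
  have g2 : ∀ e ∈ a :: t, rel 152 (hom k₂ (hom k₁ e) : Pt) = true := fun e he => by
    rw [← v152, ← e₂]; exact rel_move _ (rel_move _ (hc b hb e he))
  by_cases hall2 : ∀ e ∈ a :: t, ((hom k₂ (hom k₁ e) : Pt) : ℕ) ∈ line
  · exact ⟨k₂ * k₁, mul_mem hk₂ hk₁, fun e he => by
      rw [map_mul, Equiv.Perm.mul_apply]; exact mem_line_or (hall2 e he)⟩
  push Not at hall2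
  obtain ⟨c, hcm, hc1⟩ := hall2
  obtain ⟨k₃, hk₃, e₃, f₃⟩ := level_move level3 (by norm_num) hE43
    (fun f hf => by
      simp only [List.mem_cons, List.not_mem_nil, or_false] at hf
      rcases hf with rfl | rfl <;> exact ⟨by norm_num, by decide +kernel⟩)
    (hE2 c hcm)
    (fun f hf => by
      simp only [List.mem_cons, List.not_mem_nil, or_false] at hf
      rcases hf with rfl | rfl
      · exact g1 c hcm
      · exact g2 c hcm)
    (fun f hf e => hc1 (e ▸ hf))
  refine ⟨k₃ * k₂ * k₁, mul_mem (mul_mem hk₃ hk₂) hk₁, fun e he => ?_⟩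
  rw [map_mul, map_mul, Equiv.Perm.mul_apply, Equiv.Perm.mul_apply]
  set q := hom k₃ (hom k₂ (hom k₁ e))
  have hq := (isE_iff q).2 ((hE2 e he).map hk₃)
  have r1 : rel 154 (q : ℕ) = true := by
    rw [← v154, ← f₃ 154 List.mem_cons_self]; exact rel_move _ (by rw [v154]; exact g1 e he)
  have r2 : rel 152 (q : ℕ) = true := by
    rw [← v152, ← f₃ 152 (by decide)]; exact rel_move _ (by rw [v152]; exact g2 e he)
  have r3 : rel 43 (q : ℕ) = true := by
    rw [← v43, ← e₃]; exact rel_move _ (rel_move _ (rel_move _ (hc c hcm e he)))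
  have h := of_allBelow top_ok q q.2
  simp only [hq, r1, r2, r3, Bool.and_self, Bool.not_true, Bool.false_or, List.any_eq_true] at h
  obtain ⟨x, hx, ex⟩ := h
  exact Nat.eq_of_beq_eq_true ex ▸ hx

/-! ### The elementary abelian group of a commuting set -/

/-- The selected members. -/
def selBits : List ℕ → ℕ → List ℕ
  | [], _ => []
  | b :: t, m => bif Nat.beq (m % 2) 1 then b :: selBits t (m / 2) else selBits t (m / 2)

/-- The element with given coordinates. -/
noncomputable def cval : List ℕ → ℕ → Fi22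
  | [], _ => 1
  | b :: t, m => cval t (m / 2) * (if m % 2 = 1 then dp (pnt b) else 1)

theorem cval_eq : ∀ (bs : List ℕ) (m : ℕ), cval bs m = dpProd (selBits bs m) := by
  intro bs
  induction bs with
  | nil => intro m; rfl
  | cons b t ih =>
    intro m
    rcases Nat.mod_two_eq_zero_or_one m with h | h
    · simp [cval, selBits, h, ih, dpProd, show Nat.beq 0 1 = false from rfl]
    · simp [cval, selBits, h, ih, dpProd]

theorem basis_comm : basis.all (fun a => Nat.blt a 3510 && basis.all fun b => rel a b) = true := by decide +kernel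

theorem cval_commute {bs : List ℕ} (hs : ∀ b ∈ bs, b ∈ basis) (m : ℕ) {a : ℕ} (ha : a ∈ basis) :
    Commute (dp (pnt a)) (cval bs m) := by
  induction bs generalizing m with
  | nil => exact Commute.one_right _
  | cons b t ih =>
    refine (ih (fun x hx => hs x (List.mem_cons_of_mem _ hx)) _).mul_right ?_
    split
    · have h := List.all_eq_true.1 basis_comm a ha
      simp only [Bool.and_eq_true, Nat.blt_eq, List.all_eq_true] at h
      have hb := List.all_eq_true.1 basis_comm b (hs b List.mem_cons_self)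
      simp only [Bool.and_eq_true, Nat.blt_eq] at hb
      exact (rel_iff_commute _ _).1 (by rw [pnt_val h.1, pnt_val hb.1]; exact h.2 b (hs b List.mem_cons_self))
    · exact Commute.one_right _

theorem cval_xor : ∀ {bs : List ℕ}, (∀ b ∈ bs, b ∈ basis) → ∀ m n : ℕ,
    cval bs (m ^^^ n) = cval bs m * cval bs n := by
  intro bs
  induction bs with
  | nil => intro _ m n; exact (one_mul _).symm
  | cons b t ih =>
    intro hs m n
    have ht := fun x hx => hs x (List.mem_cons_of_mem b hx)
    have h2 : (m ^^^ n) / 2 = m / 2 ^^^ n / 2 := Nat.xor_div_two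
    have h3 : (m ^^^ n) % 2 = 1 ↔ ¬ (m % 2 = 1 ↔ n % 2 = 1) := Nat.xor_mod_two_eq_one
    have hcb := cval_commute ht (n / 2) (hs b List.mem_cons_self)
    have hbb := dp_sq (pnt b)
    simp only [cval]
    rw [h2, ih ht]
    by_cases hm : m % 2 = 1 <;> by_cases hn : n % 2 = 1
    · rw [if_neg (by rw [h3]; simp [hm, hn]), if_pos hm, if_pos hn, mul_one]
      calc cval t (m / 2) * cval t (n / 2) = cval t (m / 2) * (dp (pnt b) * dp (pnt b)) * cval t (n / 2) := by
            rw [hbb, mul_one]
        _ = _ := by simp only [mul_assoc]; rw [hcb.eq]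
    · rw [if_pos (by rw [h3]; simp [hm, hn]), if_pos hm, if_neg hn, mul_one, mul_assoc, mul_assoc, hcb.eq]
    · rw [if_pos (by rw [h3]; simp [hm, hn]), if_neg hm, if_pos hn, mul_one, mul_assoc]
    · rw [if_neg (by rw [h3]; simp [hm, hn]), if_neg hm, if_neg hn, mul_one, mul_one, mul_one]

/-- The coordinates after a linear map. -/
def actF : List ℕ → ℕ → ℕ
  | [], _ => 0
  | c :: t, m => Nat.xor (actF t (m / 2)) (bif Nat.beq (m % 2) 1 then c else 0)

theorem cval_zero : ∀ bs : List ℕ, cval bs 0 = 1 := by
  intro bs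
  induction bs with
  | nil => rfl
  | cons b t ih => simp [cval, ih]

theorem cval_conj {h : Fi22} : ∀ {bs cs : List ℕ},
    List.Forall₂ (fun b c => h * dp (pnt b) * h⁻¹ = cval basis c) bs cs → ∀ m,
    h * cval bs m * h⁻¹ = cval basis (actF cs m) := by
  intro bs cs hr
  induction hr with
  | nil => intro m; simp [cval, actF, cval_zero]
  | @cons b c t t' hbc _ ih =>
    intro m
    show h * (cval t (m / 2) * _) * h⁻¹ = cval basis (actF t' (m / 2) ^^^ _)
    rw [cval_xor (fun x hx => hx), ← ih, ← conj_mul]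
    congr 1
    rcases Nat.mod_two_eq_zero_or_one m with e | e
    · simp [e, cval_zero, show Nat.beq 0 1 = false from rfl]
    · simp [e, hbc]

/-- The check that a word maps the basis to given coordinates. -/
noncomputable def imageK (w : List ℕ) : List ℕ → List ℕ → Bool
  | [], [] => true
  | b :: t, c :: t' => Nat.blt b 3510 && Nat.blt (taps w b) 3510 && agreeK (tap (taps w b)) (taps (selBits basis c)) &&
      imageK w t t'
  | _, _ => false

theorem selBits_sub : ∀ {bs : List ℕ} {m x : ℕ}, x ∈ selBits bs m → x ∈ bs := by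
  intro bs
  induction bs with
  | nil => intro m x h; exact h
  | cons b t ih =>
    intro m x h
    rcases Nat.mod_two_eq_zero_or_one m with e | e <;> simp [selBits, e] at h
    · exact List.mem_cons_of_mem _ (ih h)
    · rcases h with rfl | h
      · exact List.mem_cons_self
      · exact List.mem_cons_of_mem _ (ih h)

theorem basis_lt {b : ℕ} (hb : b ∈ basis) : b < 3510 := by
  have h := List.all_eq_true.1 basis_comm b hb
  simp only [Bool.and_eq_true, Nat.blt_eq] at h
  exact h.1

theorem eq_cval {q c : ℕ} (hq : q < 3510) (h : agreeK (tap q) (taps (selBits basis c)) = true) :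
    dp (pnt q) = cval basis c := by
  rw [cval_eq]
  refine eq_of_agree (f := tap q) (k := taps (selBits basis c)) ?_ (img_dpProd _ fun x hx => basis_lt (selBits_sub hx)) h
  have := img_dp (pnt q)
  rwa [pnt_val hq] at this

theorem imageK_spec {w : List ℕ} (hw : ∀ x ∈ w, x < 3510) : ∀ {bs cs : List ℕ}, imageK w bs cs = true →
    List.Forall₂ (fun b c => dpProd w * dp (pnt b) * (dpProd w)⁻¹ = cval basis c) bs cs := by
  intro bs
  induction bs with
  | nil =>
    intro cs h
    cases cs with
    | nil => exact List.Forall₂.nil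
    | cons c t => exact Bool.noConfusion h
  | cons b t ih =>
    intro cs h
    cases cs with
    | nil => exact Bool.noConfusion h
    | cons c t' =>
      simp only [imageK, Bool.and_eq_true, Nat.blt_eq] at h
      refine List.Forall₂.cons ?_ (ih h.2)
      rw [conj_dp, show hom (dpProd w) (pnt b) = pnt (taps w b) from Fin.ext (by
        rw [img_dpProd w hw, pnt_val h.1.1.1, pnt_val h.1.1.2]), eq_cval h.1.1.2 h.1.2]

theorem images_ok : allBelow (fun j => (normWords.getD j []).all (fun x => Nat.blt x 3510 && isE x) &&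
    imageK (normWords.getD j []) basis (normImages.getD j [])) 4 = true := by decide +kernel

theorem codes_ok : allBelow (fun i => Nat.blt (clique.getD i 9999) 3510 &&
    agreeK (tap (clique.getD i 9999)) (taps (selBits basis (codeList.getD i 9999)))) 22 = true := by decide +kernel

theorem exists_code {q : Pt} (hq : (q : ℕ) ∈ clique) : ∃ c, dp q = cval basis c := by
  obtain ⟨i, hi, e⟩ := List.getElem_of_mem hq
  have h := of_allBelow codes_ok i hi
  simp only [Bool.and_eq_true, Nat.blt_eq] at h
  refine ⟨codeList.getD i 9999, ?_⟩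
  rw [← eq_cval h.1 h.2, List.getD_eq_getElem _ _ hi, e, pnt_coe]

theorem dpProd_mem : ∀ {w : List ℕ}, (∀ x ∈ w, x < 3510 ∧ isE x = true) → dpProd w ∈ grpH := by
  intro w
  induction w with
  | nil => intro _; exact one_mem _
  | cons x t ih =>
    intro h
    refine mul_mem (ih fun y hy => h y (List.mem_cons_of_mem _ hy)) (IsE.mem ((isE_iff _).1 ?_))
    rw [pnt_val (h x List.mem_cons_self).1]
    exact (h x List.mem_cons_self).2

/-- Conjugacy under the centraliser. -/
def Cj (x y : Fi22) : Prop := ∃ h ∈ grpH, h * x * h⁻¹ = y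

theorem Cj.refl (x : Fi22) : Cj x x := ⟨1, one_mem _, by group⟩

theorem Cj.trans {x y z : Fi22} (h1 : Cj x y) (h2 : Cj y z) : Cj x z := by
  obtain ⟨h, hh, rfl⟩ := h1
  obtain ⟨k, hk, rfl⟩ := h2
  exact ⟨k * h, mul_mem hk hh, by group⟩

theorem Cj.symm {x y : Fi22} (h1 : Cj x y) : Cj y x := by
  obtain ⟨h, hh, rfl⟩ := h1
  exact ⟨h⁻¹, inv_mem hh, by group⟩

/-- The entry of the forest at an element. -/
def entry (m : ℕ) : ℕ := (forest >>> (16 * m)) % 65536

/-- The root reached in the forest, following checked edges only. -/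
def rootF : ℕ → ℕ → ℕ
  | 0, _ => 9999
  | f + 1, m => bif Nat.beq (entry m) 0 then m else
      bif Nat.ble 1 (entry m / 1024) && Nat.ble (entry m / 1024) 4 &&
        Nat.beq (actF (normImages.getD (entry m / 1024 - 1) []) (entry m % 1024)) m
      then rootF f (entry m % 1024) else 9999

theorem rootF_spec : ∀ f m, rootF f m ≠ 9999 → Cj (cval basis (rootF f m)) (cval basis m) := by
  intro f
  induction f with
  | zero => intro m h; exact absurd rfl h
  | succ f ih =>
    intro m h
    unfold rootF at h ⊢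
    cases h0 : Nat.beq (entry m) 0 with
    | true => simp only [cond_true]; exact Cj.refl _
    | false =>
      simp only [h0, cond_false] at h ⊢
      cases h1 : (Nat.ble 1 (entry m / 1024) && Nat.ble (entry m / 1024) 4 &&
          Nat.beq (actF (normImages.getD (entry m / 1024 - 1) []) (entry m % 1024)) m) with
      | false => simp only [h1, cond_false] at h; exact absurd rfl h
      | true =>
        simp only [h1, cond_true] at h ⊢
        simp only [Bool.and_eq_true, Nat.ble_eq] at h1
        have hj := of_allBelow images_ok (entry m / 1024 - 1) (by omega)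
        simp only [Bool.and_eq_true, List.all_eq_true, Nat.blt_eq] at hj
        refine (ih _ h).trans ⟨_, dpProd_mem hj.1, ?_⟩
        rw [cval_conj (imageK_spec (fun x hx => (hj.1 x hx).1) hj.2), Nat.eq_of_beq_eq_true h1.2]

/-- The seven representatives. -/
def reps : List ℕ := [0, 1, 2, 3, 6, 7, 14]

theorem forest_ok : allBelow (fun m => reps.any fun r => Nat.beq (rootF 10 m) r) 1024 = true := by decide +kernel

theorem root_twist : rootF 10 15 = 14 := by decide +kernel

theorem roots_ok : roots.all (fun r => r.2.all (fun x => Nat.blt x 3510 && isE x) &&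
    agreeK (fun v => taps r.2 (taps r.2 v)) (taps (selBits basis r.1))) = true := by decide +kernel

/-- The exceptional involution. -/
noncomputable def kThree : Fi22 := cval basis 14

/-- The exceptional class. -/
def InThree (y : Fi22) : Prop := Cj kThree y

theorem cval_one : cval basis 1 = tr := by
  simp only [basis, cval]
  norm_num
  rw [tr_eq]
  exact congrArg dp (Fin.ext (pnt_val (by norm_num)))

theorem InThree.mul_tr {y : Fi22} (h : InThree y) : InThree (tr * y) := by
  have h15 : Cj (cval basis 14) (cval basis 15) := root_twist ▸ rootF_spec 10 15 (by rw [root_twist]; norm_num)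
  refine h15.trans ?_
  obtain ⟨k, hk, e⟩ := h
  refine ⟨k, hk, ?_⟩
  rw [show (15 : ℕ) = 1 ^^^ 14 by decide, cval_xor (fun x hx => hx), cval_one, ← e]
  show k * (tr * kThree) * k⁻¹ = _
  rw [← mul_assoc k, (mem_grpH_iff.1 hk).eq]
  group

theorem square_of_root {m : ℕ} (w : List ℕ) (h : (m, w) ∈ roots) : ∃ k ∈ grpH, k * k = cval basis m := by
  have h1 := List.all_eq_true.1 roots_ok _ h
  simp only [Bool.and_eq_true, List.all_eq_true, Nat.blt_eq] at h1
  have hw : ∀ x ∈ w, x < 3510 := fun x hx => (h1.1 x hx).1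
  refine ⟨dpProd w, dpProd_mem h1.1, ?_⟩
  rw [cval_eq]
  exact eq_of_agree ((img_dpProd w hw).mul (img_dpProd w hw))
    (img_dpProd _ fun x hx => basis_lt (selBits_sub hx)) h1.2

/-- The kinds of involution. -/
def Kinds (y : Fi22) : Prop :=
  y = 1 ∨ y = tr ∨ (∃ e, IsE e ∧ y = dp e) ∨ (∃ k ∈ grpH, k * k = y) ∨ InThree y

theorem Kinds.cj {x y : Fi22} (h : Kinds x) (hxy : Cj x y) : Kinds y := by
  obtain ⟨k, hk, rfl⟩ := hxy
  rcases h with rfl | rfl | ⟨e, he, rfl⟩ | ⟨s, hs, rfl⟩ | h
  · exact Or.inl (by group)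
  · exact Or.inr (Or.inl (by rw [(mem_grpH_iff.1 hk).eq]; group))
  · exact Or.inr (Or.inr (Or.inl ⟨_, he.map hk, conj_dp k e⟩))
  · exact Or.inr (Or.inr (Or.inr (Or.inl ⟨k * s * k⁻¹, mul_mem (mul_mem hk hs) (inv_mem hk), by group⟩)))
  · exact Or.inr (Or.inr (Or.inr (Or.inr (h.trans ⟨k, hk, rfl⟩))))

theorem kinds_cval (m : ℕ) (hm : m < 1024) : Kinds (cval basis m) := by
  obtain ⟨r, hr, e⟩ := List.any_eq_true.1 (of_allBelow forest_ok m hm)
  have e' := Nat.eq_of_beq_eq_true e
  have hne : rootF 10 m ≠ 9999 := by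
    rw [e']
    intro e0
    subst e0
    revert hr
    decide
  refine Kinds.cj ?_ (rootF_spec 10 m hne)
  rw [e']
  simp only [reps, List.mem_cons, List.not_mem_nil, or_false] at hr
  rcases hr with rfl | rfl | rfl | rfl | rfl | rfl | rfl
  · exact Or.inl (cval_zero _)
  · exact Or.inr (Or.inl cval_one)
  · refine Or.inr (Or.inr (Or.inl ⟨pnt 154, (isE_iff _).1 ?_, ?_⟩))
    · rw [pnt_val (by norm_num)]; decide +kernel
    · exact (eq_cval (by norm_num) (by decide +kernel)).symm
  all_goals first
    | exact Or.inr (Or.inr (Or.inr (Or.inr (Cj.refl _))))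
    | exact Or.inr (Or.inr (Or.inr (Or.inl (square_of_root _ (List.mem_cons_self)))))
    | exact Or.inr (Or.inr (Or.inr (Or.inl (square_of_root _ (List.mem_cons_of_mem _ List.mem_cons_self)))))
    | exact Or.inr (Or.inr (Or.inr (Or.inl (square_of_root _
        (List.mem_cons_of_mem _ (List.mem_cons_of_mem _ List.mem_cons_self))))))

theorem actF_lt : ∀ {cs : List ℕ}, (∀ c ∈ cs, c < 1024) → ∀ m, actF cs m < 1024 := by
  intro cs
  induction cs with
  | nil => intro _ m; exact Nat.succ_pos _
  | cons c t ih =>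
    intro h m
    refine Nat.xor_lt_two_pow (n := 10) (ih (fun x hx => h x (List.mem_cons_of_mem _ hx)) _) ?_
    rcases Nat.mod_two_eq_zero_or_one m with e | e <;> simp [e, h c List.mem_cons_self, show Nat.beq 0 1 = false from rfl]

theorem codeList_lt : ∀ c ∈ codeList, c < 1024 := by decide

theorem exists_code_lt {q : Pt} (hq : (q : ℕ) ∈ clique) : ∃ c < 1024, dp q = cval basis c := by
  obtain ⟨i, hi, e⟩ := List.getElem_of_mem hq
  have h := of_allBelow codes_ok i hi
  simp only [Bool.and_eq_true, Nat.blt_eq] at h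
  have hi' : i < codeList.length := hi
  refine ⟨codeList.getD i 9999, ?_, ?_⟩
  · rw [List.getD_eq_getElem _ _ hi']; exact codeList_lt _ (List.getElem_mem hi')
  · rw [← eq_cval h.1 h.2, List.getD_eq_getElem _ _ hi, e, pnt_coe]

theorem kinds_prod (es : List Pt) (hE : ∀ e ∈ es, IsE e) (hc : ∀ a ∈ es, ∀ b ∈ es, rel a b = true)
    (ε : Bool) : Kinds ((bif ε then tr else 1) * (es.map dp).prod) := by
  obtain ⟨k, hk, hkE⟩ := exists_into es hE hc
  have key : ∀ l : List Pt, (∀ e ∈ l, ((hom k e : Pt) : ℕ) ∈ clique) →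
      ∃ c < 1024, k * (l.map dp).prod * k⁻¹ = cval basis c := by
    intro l
    induction l with
    | nil => exact fun _ => ⟨0, by norm_num, by simp [cval_zero]⟩
    | cons a t ih =>
      intro h
      obtain ⟨c, hc', e⟩ := ih fun x hx => h x (List.mem_cons_of_mem _ hx)
      obtain ⟨b, hb, e'⟩ := exists_code_lt (h a List.mem_cons_self)
      refine ⟨b ^^^ c, Nat.xor_lt_two_pow (n := 10) hb hc', ?_⟩
      rw [cval_xor (fun x hx => hx), ← e', ← e, ← conj_dp, List.map_cons, List.prod_cons]
      group
  obtain ⟨c, hc', e⟩ := key es hkE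
  have hcj : ∃ c' < 1024, k * ((bif ε then tr else 1) * (es.map dp).prod) * k⁻¹ = cval basis c' := by
    cases ε
    · exact ⟨c, hc', by rw [cond_false, one_mul, e]⟩
    · refine ⟨1 ^^^ c, Nat.xor_lt_two_pow (n := 10) (by norm_num) hc', ?_⟩
      rw [cond_true, cval_xor (fun x hx => hx), cval_one, ← e, ← mul_assoc k, (mem_grpH_iff.1 hk).eq]
      group
  obtain ⟨c', hc'', e''⟩ := hcj
  exact (kinds_cval c' hc'').cj (Cj.symm ⟨k, hk, e''⟩)

/-- An involution of the simple group lifts to a product of commuting transpositions. -/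
theorem exists_list {q : P} (hq : q * q = 1) : ∃ es : List Pt, (∀ x ∈ es, IsE x) ∧
    (∀ a ∈ es, ∀ b ∈ es, rel a b = true) ∧ ∃ z : grpH, (z : Fi22) = (es.map dp).prod ∧ toPSU6 z = q := by
  obtain ⟨l, hl, hlo, e⟩ := U62Lift.involution_tq MTwentyTwo.hK hq
  have key : ∀ l : List Vec, (∀ v ∈ l, U62Lift.hf v v = 0) → (∀ v ∈ l, ∀ w ∈ l, U62Lift.hf v w = 0) →
      ∃ es : List Pt, (∀ x ∈ es, ∃ (h : IsE x), ∃ v ∈ l, img h = tp v) ∧
        ∃ z : grpH, (z : Fi22) = (es.map dp).prod ∧ toPSU6 z = (l.map (U62Lift.tq MTwentyTwo.hK)).prod := by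
    intro l
    induction l with
    | nil => exact fun _ _ => ⟨[], fun x hx => absurd hx List.not_mem_nil, 1, rfl, map_one _⟩
    | cons v t ih =>
      intro h1 h2
      obtain ⟨es, hes, z, hz, hzt⟩ := ih (fun w hw => h1 w (List.mem_cons_of_mem _ hw))
        (fun a ha b hb => h2 a (List.mem_cons_of_mem _ ha) b (List.mem_cons_of_mem _ hb))
      have hes' : ∀ x ∈ es, ∃ (h : IsE x), ∃ w ∈ v :: t, img h = tp w := fun x hx => by
        obtain ⟨h, w, hw, e⟩ := hes x hx
        exact ⟨h, w, List.mem_cons_of_mem _ hw, e⟩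
      by_cases hv : v = 0
      · refine ⟨es, hes', z, hz, ?_⟩
        rw [List.map_cons, List.prod_cons, hzt]
        have h1 : U62Lift.tq MTwentyTwo.hK v = 1 := by
          have h : U62Lift.tr MTwentyTwo.hK v = 1 := U62Lift.mat_ext fun x => by
            rw [U62Lift.mat_tr _ (h1 v List.mem_cons_self), U62Lift.mat_one, hv, smul_zero, add_zero]
          rw [U62Lift.tq, h]; rfl
        rw [h1, one_mul]
      · have hvv := h1 v List.mem_cons_self
        obtain ⟨x, hx, hxv⟩ := exists_of_tp (MTwentyTwo.nz_mem hv hvv)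
        rw [MTwentyTwo.tp_nz hv hvv] at hxv
        refine ⟨x :: es, fun y hy => ?_, eH hx * z, ?_, ?_⟩
        · rcases List.mem_cons.1 hy with rfl | hy
          · exact ⟨hx, v, List.mem_cons_self, hxv⟩
          · exact hes' y hy
        · rw [List.map_cons, List.prod_cons, ← hz]; rfl
        · rw [map_mul, hzt, List.map_cons, List.prod_cons]
          exact congrArg (· * _) hxv
  obtain ⟨es, hes, z, hz, hzt⟩ := key l hl hlo
  have hE : ∀ x ∈ es, IsE x := fun x hx => (hes x hx).1
  have hc : ∀ a ∈ es, ∀ b ∈ es, rel a b = true := by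
    intro a ha b hb
    obtain ⟨h1, v, hv, e1⟩ := hes a ha
    obtain ⟨h2, w, hw, e2⟩ := hes b hb
    refine (rel_iff_commute a b).2 ((commute_img_iff h1 h2).1 ?_)
    rw [e1, e2]
    exact (Commute.map (U62Lift.tr_comm MTwentyTwo.hK (hl v hv) (hl w hw) (hlo v hv w hw))
      (QuotientGroup.mk' (Subgroup.center _)) : _)
  exact ⟨es, hE, hc, z, hz, hzt.trans e.symm⟩

theorem prod_dp_sq {es : List Pt} (hc : ∀ a ∈ es, ∀ b ∈ es, rel a b = true) :
    (es.map dp).prod * (es.map dp).prod = 1 := by
  induction es with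
  | nil => exact one_mul _
  | cons a t ih =>
    have ha : Commute (t.map dp).prod (dp a) := (Commute.list_prod_right _ _ fun x hx => by
      obtain ⟨b, hb, rfl⟩ := List.mem_map.1 hx
      exact (rel_iff_commute a b).1 (hc a List.mem_cons_self b (List.mem_cons_of_mem _ hb))).symm
    have hi := ih fun x hx y hy => hc x (List.mem_cons_of_mem _ hx) y (List.mem_cons_of_mem _ hy)
    rw [List.map_cons, List.prod_cons]
    calc dp a * (t.map dp).prod * (dp a * (t.map dp).prod)
        = dp a * ((t.map dp).prod * dp a) * (t.map dp).prod := by group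
      _ = dp a * (dp a * (t.map dp).prod) * (t.map dp).prod := by rw [ha.eq]
      _ = (dp a * dp a) * ((t.map dp).prod * (t.map dp).prod) := by group
      _ = 1 := by rw [dp_sq, hi, one_mul]

/-- The central transposition is not a square. -/
theorem tr_not_square {h : grpH} (hh : (h : Fi22) * h = tr) : False := by
  have hq : toPSU6 h * toPSU6 h = 1 := by
    rw [← map_mul, show h * h = ⟨tr, tr_mem⟩ from Subtype.ext hh, toPSU6_tr]
  obtain ⟨es, hE, hc, z, hz, hzt⟩ := exists_list hq
  have hz2 : (z : Fi22) * z = 1 := by rw [hz]; exact prod_dp_sq hc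
  rcases ker_cases_tr (a := h * z⁻¹) (by rw [map_mul, map_inv, hzt, mul_inv_cancel]) with h1 | h1
  · rw [mul_inv_eq_one.1 h1] at hh
    exact tr_ne_one (hh.symm.trans hz2)
  · have he : (h : Fi22) = tr * z := by
      rw [← h1, Subgroup.coe_mul, Subgroup.coe_inv, inv_mul_cancel_right]
    have hcz : (z : Fi22) * tr = tr * z := (mem_grpH_iff.1 z.2).eq
    rw [he, show tr * (z : Fi22) * (tr * z) = tr * (z * tr) * z by group, hcz,
      show tr * (tr * (z : Fi22)) * z = tr * tr * (z * z) by group, tr_mul_self, hz2, one_mul] at hh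
    exact tr_ne_one hh.symm

/-- The involutions of the centraliser. -/
theorem involution_kinds {y : grpH} (hy : y * y = 1) : Kinds (y : Fi22) := by
  obtain ⟨es, hE, hc, z, hz, hzt⟩ := exists_list (q := toPSU6 y) (by rw [← map_mul, hy, map_one])
  rcases ker_cases_tr (a := y * z⁻¹) (by rw [map_mul, map_inv, hzt, mul_inv_cancel]) with h | h
  · have := kinds_prod es hE hc false
    rw [cond_false, one_mul, ← hz] at this
    rw [mul_inv_eq_one.1 h]
    exact this
  · have := kinds_prod es hE hc true
    rw [cond_true, ← hz, ← h, Subgroup.coe_mul, Subgroup.coe_inv, inv_mul_cancel_right] at this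
    exact this

end CfsgLib.Sporadic.U62Centralizer
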