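import Cfsg.Agent.Lib.Sporadic.U62Centralizer.Charts

/-!
# Pairwise commuting members of the class as words of a code

Pairwise commuting members through a fixed one are numbered by the 22 members of a largest
commuting set; a product of them is trivial exactly when their coordinates sum to zero.
-/

set_option autoImplicit false
set_option linter.unusedSectionVars false
set_option maxRecDepth 100000

open Cfsg.Spor

namespace CfsgLib.Sporadic.U62Centralizer

open CfsgLib.Sporadic.CosetCert CfsgLib.Sporadic.CosetCert.FiP CfsgLib.Sporadic.CosetCert.FiP.OutFi22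
open CfsgLib.Sporadic.FiTransfer CfsgLib.Sporadic.FiTransfer.PLocal
open CfsgLib.Sporadic.FischerTransitivity
open CfsgLib.Sporadic.CosetCert.FiData (table)

attribute [local irreducible] PTab.img CfsgLib.Sporadic.FiTransfer.PLocal.tap

theorem reps_ne_one : reps.all (fun r => Nat.beq r 0 || !agreeK (taps (selBits basis r)) id) = true := by
  decide +kernel

theorem root_zero : allBelow (fun m => Nat.beq m 0 || !Nat.beq (rootF 10 m) 0) 1024 = true := by decide +kernel

/-- Coordinates determine the element. -/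
theorem cval_eq_one {m : ℕ} (hm : m < 1024) (h : cval basis m = 1) : m = 0 := by
  obtain ⟨r, hr, e⟩ := List.any_eq_true.1 (of_allBelow forest_ok m hm)
  have e' := Nat.eq_of_beq_eq_true e
  have hne : rootF 10 m ≠ 9999 := by
    rw [e']
    intro e0
    subst e0
    revert hr
    decide
  obtain ⟨k, hk, ek⟩ := rootF_spec 10 m hne
  rw [h, e', conj_eq_one_iff] at ek
  have h1 := List.all_eq_true.1 reps_ne_one r hr
  rw [agree_of_eq (g := cval basis r) (by rw [cval_eq]; exact img_dpProd _ fun x hx => basis_lt (selBits_sub hx))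
    (ek ▸ img_one), Bool.not_true, Bool.or_false] at h1
  have h2 := of_allBelow root_zero m hm
  rw [e', h1, Bool.not_true, Bool.or_false] at h2
  exact Nat.eq_of_beq_eq_true h2

/-- The coordinates of a member of the clique. -/
def code (i : ℕ) : ℕ := codeList.getD i 0

theorem code_lt (i : ℕ) : code i < 1024 := by
  unfold code
  by_cases h : i < codeList.length
  · rw [List.getD_eq_getElem _ _ h]; exact codeList_lt _ (List.getElem_mem h)
  · rw [List.getD_eq_default _ _ (not_lt.1 h)]; norm_num

theorem code_zero : code 0 = 1 := rfl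

theorem code_inj : allBelow (fun i => allBelow (fun j => Nat.beq i j || !Nat.beq (code i) (code j)) 22) 22 = true := by
  decide +kernel

theorem eq_of_code {i j : ℕ} (hi : i < 22) (hj : j < 22) (h : code i = code j) : i = j := by
  have h1 := of_allBelow (of_allBelow code_inj i hi) j hj
  rw [h, Nat.beq_refl, Bool.not_true, Bool.or_false] at h1
  exact Nat.eq_of_beq_eq_true h1

/-- The sum of coordinates. -/
def codeSum (l : List ℕ) : ℕ := l.foldr (fun i s => Nat.xor (code i) s) 0

theorem codeSum_cons (i : ℕ) (l : List ℕ) : codeSum (i :: l) = code i ^^^ codeSum l := rfl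

theorem codeSum_lt : ∀ l : List ℕ, codeSum l < 1024 := by
  intro l
  induction l with
  | nil => exact Nat.succ_pos _
  | cons i t ih => exact Nat.xor_lt_two_pow (n := 10) (code_lt i) ih

variable {G : Type*} [Group G] [Finite G] {D : Set G} (ctx : Ctx D)
include ctx

/-- Numbering pairwise commuting members commuting with `x`. -/
theorem exists_numbering {x : G} (hx : x ∈ D) {U : Set G} (hU : ∀ y ∈ U, y = x ∨ y ∈ Nb D x)
    (hUU : ∀ y ∈ U, ∀ z ∈ U, Commute y z) :
    ∃ κ : G → ℕ, κ x = 0 ∧ (∀ y ∈ insert x U, κ y < 22) ∧ Set.InjOn κ (insert x U) ∧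
      ∀ l : List G, (∀ y ∈ l, y ∈ insert x U) → (l.prod = 1 ↔ codeSum (l.map κ) = 0) := by
  classical
  obtain ⟨M, hM⟩ := ctx.nb x hx
  have hUc : ∀ y ∈ insert x U, Commute y x := fun y hy => by
    rcases hy with rfl | hy
    · exact Commute.refl _
    · rcases hU y hy with rfl | h
      · exact Commute.refl _
      · exact h.2.2.symm
  let V : Finset G := (Set.toFinite {y | y ∈ U ∧ y ≠ x}).toFinset
  have hV : ∀ {y : G}, y ∈ V.toList ↔ y ∈ U ∧ y ≠ x := fun {y} => by
    rw [Finset.mem_toList, Set.Finite.mem_toFinset]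
    rfl
  have hpt : ∀ y ∈ V.toList, ∃ e : Pt, IsE e ∧ M.mo y = dp e := fun y hy => by
    obtain ⟨hy1, hy2⟩ := hV.1 hy
    obtain ⟨-, e, he, h⟩ := (hM y).1 ((hU y hy1).resolve_left hy2)
    exact ⟨e, he, h⟩
  haveI : Nonempty Pt := ⟨pt⟩
  choose! pt' hpt1 hpt2 using hpt
  obtain ⟨k, hk, hin⟩ := exists_into (V.toList.map pt') (fun e he => by
      obtain ⟨y, hy, rfl⟩ := List.mem_map.1 he
      exact hpt1 y hy) (fun a ha b hb => by
      obtain ⟨y, hy, rfl⟩ := List.mem_map.1 ha
      obtain ⟨z, hz, rfl⟩ := List.mem_map.1 hb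
      rw [rel_iff_commute, ← hpt2 y hy, ← hpt2 z hz,
        M.mo_commute (hUc y (Or.inr (hV.1 hy).1)) (hUc z (Or.inr (hV.1 hz).1))]
      exact hUU y (hV.1 hy).1 z (hV.1 hz).1)
  have key : ∀ y ∈ insert x U, ∃ i < 22, k * M.mo y * k⁻¹ = cval basis (code i) := by
    intro y hy
    by_cases hyx : y = x
    · refine ⟨0, by norm_num, ?_⟩
      rw [hyx, M.mo_self, code_zero, cval_one, (mem_grpH_iff.1 hk).eq, mul_inv_cancel_right]
    have hyV : y ∈ V.toList := hV.2 ⟨hy.resolve_left hyx, hyx⟩
    obtain ⟨i, hi, e⟩ := List.getElem_of_mem (hin _ (List.mem_map_of_mem hyV))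
    have h := of_allBelow codes_ok i hi
    simp only [Bool.and_eq_true, Nat.blt_eq] at h
    have hi' : i < codeList.length := hi
    refine ⟨i, hi, ?_⟩
    rw [hpt2 y hyV, conj_dp, code, List.getD_eq_getElem _ _ hi', ← List.getD_eq_getElem _ 9999 hi',
      ← eq_cval h.1 h.2, List.getD_eq_getElem _ _ hi, e, pnt_coe]
  choose! κ hκ1 hκ2 using key
  have hcode : ∀ y ∈ insert x U, ∀ i < 22, k * M.mo y * k⁻¹ = cval basis (code i) → κ y = i := by
    intro y hy i hi h
    refine eq_of_code (hκ1 y hy) hi ?_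
    have h1 : cval basis (code (κ y) ^^^ code i) = 1 := by
      rw [cval_xor fun a ha => ha, ← h, ← hκ2 y hy,
        show k * M.mo y * k⁻¹ * (k * M.mo y * k⁻¹) = k * (M.mo y * M.mo y) * k⁻¹ by group]
      have hy2 : y * y = 1 := by
        rcases hy with rfl | hy
        · exact ctx.sq hx
        · rcases hU y hy with rfl | h'
          · exact ctx.sq hx
          · exact ctx.sq h'.1
      rw [← M.mo_mul (hUc y hy) (hUc y hy), hy2, M.mo_one, mul_one, mul_inv_cancel]
    exact Nat.xor_eq_zero_iff.1 (cval_eq_one (Nat.xor_lt_two_pow (n := 10) (code_lt _) (code_lt _)) h1)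
  refine ⟨κ, hcode x (Or.inl rfl) 0 (by norm_num) ?_, hκ1, fun y hy z hz e => ?_, fun l hl => ?_⟩
  · rw [M.mo_self, code_zero, cval_one, (mem_grpH_iff.1 hk).eq, mul_inv_cancel_right]
  · refine M.mo_inj (hUc y hy) (hUc z hz) (mul_left_cancel (a := k) (mul_right_cancel (b := k⁻¹) ?_))
    rw [hκ2 y hy, hκ2 z hz, e]
  · have hh : Commute l.prod x ∧ k * M.mo l.prod * k⁻¹ = cval basis (codeSum (l.map κ)) := by
      induction l with
      | nil => exact ⟨Commute.one_left x, by simp [M.mo_one, codeSum, cval_zero]⟩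
      | cons a t ih =>
        obtain ⟨h1, h2⟩ := ih fun y hy => hl y (List.mem_cons_of_mem _ hy)
        have ha := hl a List.mem_cons_self
        refine ⟨by rw [List.prod_cons]; exact (hUc a ha).mul_left h1, ?_⟩
        rw [List.prod_cons, List.map_cons, codeSum_cons, cval_xor (fun b hb => hb), ← h2, ← hκ2 a ha,
          M.mo_mul (hUc a ha) h1]
        group
    refine ⟨fun h => cval_eq_one (codeSum_lt _) ?_, fun h => M.mo_inj hh.1 (Commute.one_left x) ?_⟩
    · rw [← hh.2, h, M.mo_one, mul_one, mul_inv_cancel]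
    · have := hh.2
      rw [h, cval_zero, conj_eq_one_iff] at this
      rw [this, M.mo_one]

end CfsgLib.Sporadic.U62Centralizer
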