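import Cfsg.Agent.Lib.Sporadic.U62Centralizer.SectionData
import Cfsg.Agent.Lib.Sporadic.FiTransfer.Uniq.Engine
import Cfsg.Agent.Lib.Sporadic.MTwentyTwo.Count

/-!
# Closed sets of points meeting every line through a point

In the geometry of the 693 points of `U₆(2)` let `a` and `f` be non-orthogonal. A set of points
orthogonal to `a`, other than `a`, that meets every line through `a` and is closed under the
transvections of its members contains a point orthogonal to `f`.
-/

set_option autoImplicit false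
set_option linter.unusedSectionVars false
set_option maxRecDepth 100000

namespace CfsgLib.Sporadic.U62Centralizer

open CfsgLib.Sporadic.MTwentyTwo CfsgLib.Sporadic.FiTransfer

/-- The four points of the line through the start and `p₁₂`, other than the latter. -/
def lineCodes (q : ℕ) : List ℕ := [0, 1, 2, 3].map fun t => vd (comb (cv q) (kc t) p12)

/-- The check of a search tree. -/
def treeK : SearchTree → List ℕ → Bool
  | .leaf steps, L => !L.isEmpty && (Uniq.grow L steps).any fun n => orth (cv n) p13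
  | .node q os t₁ t₂ t₃, L =>
    Nat.blt q 4096 && isPt (cv q) && orth p12 (cv q) && !veq (cv q) p12 &&
      ((lineCodes q).all fun n => orth (cv n) p13 || os.any fun o => Nat.beq n o) && Nat.beq os.length 3 &&
      treeK t₁ (L ++ [os.getD 0 0]) && treeK t₂ (L ++ [os.getD 1 0]) && treeK t₃ (L ++ [os.getD 2 0])

theorem tree_ok : treeK searchTree [] = true := by decide +kernel

theorem mem_lineCodes {v q : Vec} {α β : K} (hv : v ∈ pts) (hne : v ≠ p12) {n : ℕ} (hn : cv n = q)
    (e : v = α • p12 + β • q) : vd v ∈ lineCodes n := by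
  have hβ : β ≠ 0 := by
    rintro rfl
    rw [zero_smul, add_zero] at e
    subst e
    have h1 := sp_one hv
    have hα : α ≠ 0 := by rintro rfl; rw [zero_smul] at h1; exact absurd h1 (by decide +kernel)
    rw [sp_smul hα, sp_one p12_mem, mul_one] at h1
    exact hne (by rw [h1, one_smul])
  have hc : v = comb q (β⁻¹ * α) p12 := by
    have : comb q (β⁻¹ * α) p12 = nz (q + (β⁻¹ * α) • p12) := by
      unfold comb
      congr 1
      funext i
      fin_cases i <;> rfl
    rw [this, show q + (β⁻¹ * α) • p12 = β⁻¹ • v by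
      rw [e, smul_add, smul_smul, smul_smul, inv_mul_cancel₀ hβ, one_smul, add_comm],
      nz_smul (inv_ne_zero hβ), nz_self hv]
  refine List.mem_map.2 ⟨kd (β⁻¹ * α), ?_, ?_⟩
  · have := (kc_kd (β⁻¹ * α)).2
    simp only [List.mem_cons, List.not_mem_nil, or_false]
    omega
  · rw [hn, (kc_kd _).1, ← hc]

/-- A closed set meeting every line through `p₁₂` has a member orthogonal to `p₁₃`. -/
theorem exists_orth {T : Set Vec} (hT : ∀ v ∈ T, v ∈ pts ∧ orth p12 v = true ∧ v ≠ p12)
    (hcl : ∀ u ∈ T, ∀ v ∈ T, tmv u v ∈ T)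
    (hmeet : ∀ q ∈ pts, orth p12 q = true → q ≠ p12 → ∃ v ∈ T, ∃ α β : K, v = α • p12 + β • q) :
    ∃ v ∈ T, orth v p13 = true := by
  let S : Set ℕ := {n | n < 4096 ∧ cv n ∈ T}
  have hS : Uniq.Closed S := fun p hp q hq =>
    ⟨(Uniq.rc_spec hp.1 hq.1).1, by rw [(Uniq.rc_spec hp.1 hq.1).2]; exact hcl _ hp.2 _ hq.2⟩
  have key : ∀ (t : SearchTree) (L : List ℕ), treeK t L = true → (∀ n ∈ L, n ∈ S) →
      ∃ v ∈ T, orth v p13 = true := by
    intro t
    induction t with
    | leaf steps =>
      intro L h hL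
      simp only [treeK, Bool.and_eq_true, Bool.not_eq_true', List.any_eq_true] at h
      obtain ⟨hne, n, hn, ho⟩ := h
      have := Uniq.grow_mem hS steps L (by rintro rfl; exact absurd hne (by decide)) hL n hn
      exact ⟨cv n, this.2, ho⟩
    | node q os t₁ t₂ t₃ ih₁ ih₂ ih₃ =>
      intro L h hL
      simp only [treeK, Bool.and_eq_true, Nat.blt_eq, Bool.not_eq_true', List.all_eq_true, Nat.beq_eq] at h
      obtain ⟨⟨⟨⟨⟨⟨⟨⟨hq, hqp⟩, hqo⟩, hqn⟩, hline⟩, hlen⟩, h₁⟩, h₂⟩, h₃⟩ := h
      have hne : cv q ≠ p12 := fun e => by rw [e, veq_self] at hqn; exact Bool.noConfusion hqn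
      obtain ⟨v, hv, α, β, e⟩ := hmeet (cv q) (mem_pts.2 hqp) hqo hne
      have hm := hline _ (mem_lineCodes (hT v hv).1 (hT v hv).2.2 rfl e)
      rw [Bool.or_eq_true, (cv_vd v).1] at hm
      rcases hm with hm | hm
      · exact ⟨v, hv, hm⟩
      obtain ⟨o, ho, eo⟩ := List.any_eq_true.1 hm
      have hoS : o ∈ S := by
        rw [← Nat.eq_of_beq_eq_true eo]
        exact ⟨(cv_vd v).2, by rw [(cv_vd v).1]; exact hv⟩
      have hcons : ∀ n ∈ L ++ [o], n ∈ S := fun n hn => by
        rcases List.mem_append.1 hn with hn | hn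
        · exact hL n hn
        · rw [List.mem_singleton] at hn; exact hn ▸ hoS
      obtain ⟨i, hi, ei⟩ := List.getElem_of_mem ho
      have hi' : os.getD i 0 = o := by rw [List.getD_eq_getElem _ _ hi, ei]
      obtain rfl | rfl | rfl : i = 0 ∨ i = 1 ∨ i = 2 := by omega
      · exact ih₁ _ h₁ (hi' ▸ hcons)
      · exact ih₂ _ h₂ (hi' ▸ hcons)
      · exact ih₃ _ h₃ (hi' ▸ hcons)
  exact key searchTree [] tree_ok fun n hn => absurd hn List.not_mem_nil

end CfsgLib.Sporadic.U62Centralizer
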