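import Cfsg.Agent.Lib.Sporadic.U62Centralizer.Charts
import Cfsg.Agent.Lib.Sporadic.U62Centralizer.Section

/-!
# The components of the commuting graph

Two members are near if they commute or have a common neighbour. This is an equivalence: its
classes have more than 1386 members and their stabilisers contain the centralisers of their members.
-/

set_option autoImplicit false
set_option linter.unusedSectionVars false
set_option maxRecDepth 100000

namespace CfsgLib.Sporadic.U62Centralizer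

open CfsgLib.Sporadic.FischerTransitivity
open CfsgLib.Sporadic.MTwentyTwo (P Vec pts tp TP orth p12 p13 tmv nz)
open CfsgLib.Sporadic.U62Lift (hf)

variable {G : Type*} [Group G] [Finite G] {D : Set G} (ctx : Ctx D)
include ctx

/-- On the line of two orthogonal points there is a point orthogonal to a given third. -/
theorem exists_on_line {u q w : Vec} (hu : u ∈ pts) (hq : q ∈ pts) (huq : orth u q = true) (hne : q ≠ u)
    (huw : orth u w = false) : ∃ s ∈ pts, orth s w = true ∧ orth s u = true ∧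
      ∀ z : Vec, orth u z = true → orth q z = true → orth s z = true := by
  have h0 : hf u w ≠ 0 := MTwentyTwo.orth_false.1 huw
  set t := -(hf q w) / hf u w with ht
  have hK := MTwentyTwo.hK
  have huu := MTwentyTwo.iso_of_mem hu
  have hqq := MTwentyTwo.iso_of_mem hq
  have huq' := MTwentyTwo.orth_iff.1 huq
  have hqu := U62Lift.hf_eq_zero_symm hK huq'
  set v := q + t • u with hv
  have hv0 : v ≠ 0 := by
    intro h
    have e : q = (-t) • u := by rw [neg_smul]; exact eq_neg_of_add_eq_zero_left h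
    have hs : (-t) ≠ 0 := by
      intro h2
      rw [h2, zero_smul] at e
      exact MTwentyTwo.ne_zero_of_mem hq e
    exact hne (by rw [← MTwentyTwo.nz_self hq, e, MTwentyTwo.nz_smul hs, MTwentyTwo.nz_self hu])
  have hvv : hf v v = 0 := by
    simp only [hv, U62Lift.hf_add_left, U62Lift.hf_add_right hK, U62Lift.hf_smul_left, U62Lift.hf_smul_right,
      huu, hqq, huq', hqu, mul_zero, add_zero]
  have ho : ∀ z : Vec, hf v z = 0 → orth (nz v) z = true := fun z hz => by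
    rw [MTwentyTwo.orth_iff, MTwentyTwo.nz_eq, U62Lift.hf_smul_left, hz, mul_zero]
  refine ⟨nz v, MTwentyTwo.nz_mem hv0 hvv, ho w ?_, ho u ?_, fun z h1 h2 => ho z ?_⟩
  · rw [hv, U62Lift.hf_add_left, U62Lift.hf_smul_left, ht, div_mul_cancel₀ _ h0, add_neg_cancel]
  · rw [hv, U62Lift.hf_add_left, U62Lift.hf_smul_left, hqu, huu, mul_zero, add_zero]
  · rw [hv, U62Lift.hf_add_left, U62Lift.hf_smul_left, MTwentyTwo.orth_iff.1 h1, MTwentyTwo.orth_iff.1 h2,
      mul_zero, add_zero]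

/-- Near members. -/
def Near (D : Set G) (d c : G) : Prop := d = c ∨ Commute d c ∨ ∃ a, a ∈ Nb D d ∧ a ∈ Nb D c

theorem nb_step {d c a f : G} (hd : d ∈ D) (hc : c ∈ D) (hdc : ¬ Commute d c) (had : a ∈ Nb D d)
    (hac : a ∈ Nb D c) (hf : f ∈ Nb D c) (haf : ¬ Commute a f) :
    ∃ s, s ∈ Nb D d ∧ s ∈ Nb D c ∧ s ∈ Nb D a ∧ Commute s f := by
  obtain ⟨π₀, C₀⟩ := ctx.exists_chart hc
  obtain ⟨q₀, e1, e2⟩ := MTwentyTwo.exists_pair (C₀.mem hac) (C₀.mem hf) fun h => haf ((C₀.comm hac hf).1 h)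
  obtain ⟨π, C, ea, ef⟩ : ∃ π, Chart D c π ∧ π a = tp p12 ∧ π f = tp p13 := ⟨_, C₀.recoord q₀, e1, e2⟩
  obtain ⟨ρ, R⟩ := ctx.exists_chart had.1
  have hca : c ∈ Nb D a := ctx.nb_symm hc hac
  have hda : d ∈ Nb D a := ctx.nb_symm hd had
  let T : Set Vec := {v | v ∈ pts ∧ ∃ s, s ∈ Nb D c ∧ s ∈ Nb D a ∧ Commute s d ∧ π s = tp v}
  have hT : ∀ v ∈ T, v ∈ pts ∧ orth p12 v = true ∧ v ≠ p12 := by
    rintro v ⟨hv, s, hsc, hsa, -, e⟩
    refine ⟨hv, (C.orth_iff hac hsc MTwentyTwo.p12_mem hv ea e).2 hsa.2.2, fun h => hsa.2.1 ?_⟩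
    exact C.inj hsc hac (by rw [e, ea, h])
  obtain ⟨v, ⟨hv, s, hsc, hsa, hsd, e⟩, hvo⟩ := exists_orth hT (by
      rintro u ⟨hu, s, hsc, hsa, hsd, es⟩ v ⟨hv, t, htc, hta, htd, et⟩
      have hk : ∀ {y : G}, Commute s y → Commute t y → Commute (s * t * s⁻¹) y := fun h1 h2 =>
        (h1.mul_left h2).mul_left h1.inv_left
      have hne : ∀ {y : G}, Commute s y → t ≠ y → s * t * s⁻¹ ≠ y := fun {y} h1 h2 e =>
        h2 (mul_left_cancel (mul_right_cancel (e.trans (show y = s * y * s⁻¹ by rw [h1.eq, mul_inv_cancel_right]))))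
      exact ⟨MTwentyTwo.tmv_mem hu hv, s * t * s⁻¹,
        ⟨ctx.conj s t htc.1, hne hsc.2.2.symm htc.2.1, (hk hsc.2.2.symm htc.2.2.symm).symm⟩,
        ⟨ctx.conj s t htc.1, hne hsa.2.2.symm hta.2.1, (hk hsa.2.2.symm hta.2.2.symm).symm⟩,
        hk hsd htd, by rw [C.map_conj hsc.2.2.symm htc.2.2.symm, es, et, MTwentyTwo.tp_conj hu hv]⟩) (by
      intro q hq hqo hqn
      obtain ⟨s', hs', es'⟩ := C.exists_member hq
      have hs'a : s' ∈ Nb D a := ⟨hs'.1, fun h => hqn (MTwentyTwo.tp_inj hq MTwentyTwo.p12_mem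
        (by rw [← es', h, ea])), (C.orth_iff hac hs' MTwentyTwo.p12_mem hq ea es').1 hqo⟩
      obtain ⟨u₁, hu₁, eu⟩ := R.exists_point hca
      obtain ⟨q₁, hq₁, eq⟩ := R.exists_point hs'a
      obtain ⟨w₁, hw₁, ew⟩ := R.exists_point hda
      obtain ⟨r, hr, hrw, hru, hrall⟩ := exists_on_line ctx hu₁ hq₁
        ((R.orth_iff hca hs'a hu₁ hq₁ eu eq).2 hs'.2.2)
        (fun h => hs'.2.1 (R.inj hs'a hca (by rw [eq, eu, h])))
        (Bool.eq_false_iff.2 fun h => hdc ((R.orth_iff hca hda hu₁ hw₁ eu ew).1 h).symm)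
      obtain ⟨s, hsa, es⟩ := R.exists_member hr
      have hsc : Commute s c := (R.orth_iff hsa hca hr hu₁ es eu).1 hru
      have hsd : Commute s d := (R.orth_iff hsa hda hr hw₁ es ew).1 hrw
      have hsc' : s ∈ Nb D c := ⟨hsa.1, fun h => hdc (h ▸ hsd).symm, hsc.symm⟩
      obtain ⟨v, hv, ev⟩ := C.exists_point hsc'
      refine ⟨v, ⟨hv, s, hsc', hsa, hsd, ev⟩, MTwentyTwo.span_of_perp MTwentyTwo.p12_mem hq hv
        (Ne.symm hqn) hqo fun z hz h1 h2 => ?_⟩
      obtain ⟨y, hy, rfl⟩ := C.surj hz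
      rw [← ea, C.comm hac hy] at h1
      rw [← es', C.comm hs' hy] at h2
      rw [← ev, C.comm hsc' hy]
      by_cases hya : y = a
      · exact hya ▸ hsa.2.2.symm
      have hy' : y ∈ Nb D a := ⟨hy.1, hya, h1⟩
      obtain ⟨z₁, hz₁, ez⟩ := R.exists_point hy'
      exact (R.orth_iff hsa hy' hr hz₁ es ez).1 (hrall z₁ ((R.orth_iff hca hy' hu₁ hz₁ eu ez).2 hy.2.2)
        ((R.orth_iff hs'a hy' hq₁ hz₁ eq ez).2 h2)))
  exact ⟨s, ⟨hsc.1, fun h => hdc (by rw [← h]; exact hsc.2.2.symm), hsd.symm⟩, hsc, hsa,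
    (C.orth_iff hsc hf hv MTwentyTwo.p13_mem e ef).1 hvo⟩

theorem near_symm {d c : G} (h : Near D d c) : Near D c d := by
  rcases h with h | h | ⟨a, h1, h2⟩
  · exact Or.inl h.symm
  · exact Or.inr (Or.inl h.symm)
  · exact Or.inr (Or.inr ⟨a, h2, h1⟩)

theorem near_step {d c e : G} (hd : d ∈ D) (hc : c ∈ D) (he : e ∈ D) (h : Near D d c) (hce : Commute c e) :
    Near D d e := by
  by_cases hec : e = c
  · exact hec ▸ h
  by_cases hdc : Commute d c
  · by_cases hdc' : d = c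
    · exact Or.inr (Or.inl (hdc' ▸ hce))
    · exact Or.inr (Or.inr ⟨c, ⟨hc, Ne.symm hdc', hdc⟩, ⟨hc, Ne.symm hec, hce.symm⟩⟩)
  have hne : d ≠ c := fun h => hdc (h ▸ Commute.refl d)
  obtain ⟨a, ha1, ha2⟩ := (h.resolve_left hne).resolve_left hdc
  by_cases hae : Commute a e
  · by_cases hea : e = a
    · exact Or.inr (Or.inl (hea ▸ ha1.2.2))
    · exact Or.inr (Or.inr ⟨a, ha1, ⟨ha1.1, fun h => hea h.symm, hae.symm⟩⟩)
  obtain ⟨s, hsd, -, -, hse⟩ := nb_step ctx hd hc hdc ha1 ha2 ⟨he, hec, hce⟩ hae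
  by_cases hse' : s = e
  · exact Or.inr (Or.inl (hse' ▸ hsd.2.2))
  · exact Or.inr (Or.inr ⟨s, hsd, ⟨hsd.1, hse', hse.symm⟩⟩)

theorem near_trans {d c e : G} (hd : d ∈ D) (hc : c ∈ D) (he : e ∈ D) (h : Near D d c) (h' : Near D c e) :
    Near D d e := by
  rcases h' with rfl | h' | ⟨a, ha, ha'⟩
  · exact h
  · exact near_step ctx hd hc he h h'
  · exact near_step ctx hd ha.1 he (near_step ctx hd hc ha.1 h ha.2.2) ha'.2.2.symm

theorem near_conj (g : G) {d c : G} (h : Near D d c) : Near D (g * d * g⁻¹) (g * c * g⁻¹) := by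
  rcases h with rfl | h | ⟨a, h1, h2⟩
  · exact Or.inl rfl
  · exact Or.inr (Or.inl ((Commute.conj_iff g).2 h))
  · have hn : ∀ {u : G}, a ∈ Nb D u → g * a * g⁻¹ ∈ Nb D (g * u * g⁻¹) := fun h =>
      ⟨ctx.conj g a h.1, fun e => h.2.1 (mul_left_cancel (mul_right_cancel e)), (Commute.conj_iff g).2 h.2.2⟩
    exact Or.inr (Or.inr ⟨_, hn h1, hn h2⟩)

/-- The component of a member. -/
def comp (D : Set G) (d : G) : Set G := {x | x ∈ D ∧ Near D d x}

theorem self_mem_comp {d : G} (hd : d ∈ D) : d ∈ comp D d := ⟨hd, Or.inl rfl⟩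

theorem comp_eq {d c : G} (hd : d ∈ D) (hc : c ∈ comp D d) : comp D c = comp D d := by
  ext x
  exact ⟨fun h => ⟨h.1, near_trans ctx hd hc.1 h.1 hc.2 h.2⟩,
    fun h => ⟨h.1, near_trans ctx hc.1 hd h.1 (near_symm ctx hc.2) h.2⟩⟩

theorem nb_subset {d x : G} (hd : d ∈ D) (hx : x ∈ comp D d) {y : G} (hy : y ∈ Nb D x) : y ∈ comp D d :=
  ⟨hy.1, near_step ctx hd hx.1 hy.1 hx.2 hy.2.2⟩

/-- The stabiliser of a component. -/
def stab {d : G} (hd : d ∈ D) : Subgroup G where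
  carrier := {g | Near D d (g * d * g⁻¹)}
  one_mem' := Or.inl (by group)
  mul_mem' := by
    intro g h hg hh
    show Near D d (g * h * d * (g * h)⁻¹)
    rw [show g * h * d * (g * h)⁻¹ = g * (h * d * h⁻¹) * g⁻¹ by group]
    exact near_trans ctx hd (ctx.conj g d hd) (ctx.conj g _ (ctx.conj h d hd)) hg (near_conj ctx g hh)
  inv_mem' := by
    intro g hg
    have := near_conj ctx g⁻¹ (near_symm ctx hg)
    rwa [show g⁻¹ * (g * d * g⁻¹) * g⁻¹⁻¹ = d by group] at this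

theorem mem_stab {d g : G} (hd : d ∈ D) : g ∈ stab ctx hd ↔ Near D d (g * d * g⁻¹) := Iff.rfl

theorem stab_comp {d g x : G} (hd : d ∈ D) (hg : g ∈ stab ctx hd) (hx : x ∈ comp D d) :
    g * x * g⁻¹ ∈ comp D d :=
  ⟨ctx.conj g x hx.1, near_trans ctx hd (ctx.conj g d hd) (ctx.conj g x hx.1) hg (near_conj ctx g hx.2)⟩

theorem centralizer_le {d x g : G} (hd : d ∈ D) (hx : x ∈ comp D d) (hg : Commute g x) : g ∈ stab ctx hd := by
  have h := near_conj ctx g hx.2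
  rw [hg.eq, mul_inv_cancel_right] at h
  exact near_trans ctx hd hx.1 (ctx.conj g d hd) hx.2 (near_symm ctx h)

theorem comp_le_stab {d x : G} (hd : d ∈ D) (hx : x ∈ comp D d) : x ∈ stab ctx hd :=
  centralizer_le ctx hd hx (Commute.refl x)

theorem mem_stab_of_move {d g x : G} (hd : d ∈ D) (hx : x ∈ comp D d) (h : g * x * g⁻¹ ∈ comp D d) :
    g ∈ stab ctx hd :=
  near_trans ctx hd h.1 (ctx.conj g d hd) h.2 (near_symm ctx (near_conj ctx g hx.2))

theorem exists_nb {d : G} (hd : d ∈ D) : ∃ a, a ∈ Nb D d := by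
  obtain ⟨π, C⟩ := ctx.exists_chart hd
  obtain ⟨a, ha, -⟩ := C.exists_member MTwentyTwo.p12_mem
  exact ⟨a, ha⟩

theorem comp_large {d : G} (hd : d ∈ D) : 1386 < (comp D d).ncard := by
  obtain ⟨π, C⟩ := ctx.exists_chart hd
  obtain ⟨a, ha, ea⟩ := C.exists_member MTwentyTwo.p12_mem
  obtain ⟨b, hb, eb⟩ := C.exists_member MTwentyTwo.p34_mem
  have hab : b ∈ Nb D a := ⟨hb.1, fun h => absurd (MTwentyTwo.tp_inj MTwentyTwo.p34_mem MTwentyTwo.p12_mem
    (by rw [← eb, ← ea, h])) (by decide +kernel),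
    (C.orth_iff ha hb MTwentyTwo.p12_mem MTwentyTwo.p34_mem ea eb).1 (by decide +kernel)⟩
  obtain ⟨ρ, R⟩ := ctx.exists_chart ha.1
  obtain ⟨σ, S⟩ := ctx.exists_chart hb.1
  set X := {y | y ∈ Nb D a ∧ ¬ Commute d y} with hX
  set Y := {y | y ∈ Nb D b ∧ ¬ Commute d y} with hY
  have h1 : X.ncard = 512 := R.card_noncomm (ctx.nb_symm hd ha)
  have h2 : Y.ncard = 512 := S.card_noncomm (ctx.nb_symm hd hb)
  have h3 : (X ∩ Y).ncard ≤ 181 := by
    rw [← R.card_comm hab]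
    exact Set.ncard_le_ncard (fun y hy => ⟨hy.1.1, hy.2.1.2.2⟩) (Set.toFinite _)
  have h4 := Set.ncard_union_add_ncard_inter X Y
  have h5 : Disjoint (Nb D d) (X ∪ Y) := Set.disjoint_left.2 fun y hy hy' =>
    hy'.elim (fun h => h.2 hy.2.2) fun h => h.2 hy.2.2
  have h6 : (Nb D d ∪ (X ∪ Y)).ncard = 693 + (X ∪ Y).ncard := by rw [Set.ncard_union_eq h5, C.card_nb]
  have h7 : Nb D d ∪ (X ∪ Y) ⊆ comp D d := by
    rintro y (hy | hy | hy)
    · exact nb_subset ctx hd (self_mem_comp ctx hd) hy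
    · exact nb_subset ctx hd (nb_subset ctx hd (self_mem_comp ctx hd) ha) hy.1
    · exact nb_subset ctx hd (nb_subset ctx hd (self_mem_comp ctx hd) hb) hy.1
  have h8 := Set.ncard_le_ncard h7 (Set.toFinite _)
  omega

end CfsgLib.Sporadic.U62Centralizer
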