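import Cfsg.Agent.Lib.Sporadic.U62Centralizer.Embedded

/-!
# There is one component

Counting with the involutions commuting with a member and with a pair of another component shows that
the commuting graph has one component; hence the class is one of 3-transpositions.
-/

set_option autoImplicit false
set_option linter.unusedSectionVars false
set_option maxRecDepth 100000

namespace CfsgLib.Sporadic.U62Centralizer

open CfsgLib.Sporadic.FischerTransitivity

variable {G : Type*} [Group G] [Finite G] {D : Set G} (ctx : Ctx D)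
include ctx

theorem pair_mul_self {a b : G} (ha : a ∈ D) (hb : b ∈ Nb D a) : a * b * (a * b) = 1 :=
  calc a * b * (a * b) = a * (b * a) * b := by group
    _ = a * (a * b) * b := by rw [hb.2.2.eq]
    _ = (a * a) * (b * b) := by group
    _ = 1 := by rw [ctx.sq ha, ctx.sq hb.1, one_mul]

theorem pair_stab {a b g : G} (ha : a ∈ D) (hb : b ∈ Nb D a) (hg : Commute g (a * b)) : g ∈ stab ctx ha :=
  pair_centralizer ctx ha (self_mem_comp ctx ha) hb hg

theorem pair_member {a b u : G} (ha : a ∈ D) (hb : b ∈ Nb D a) (hu : u ∈ D) (h : Commute u (a * b)) :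
    u ∈ comp D a :=
  comp_of_pair ctx ha (self_mem_comp ctx ha) hb (fun _ hg => pair_stab ctx ha hb hg) hu h

/-- The product of a pair outside a component does not stabilise it. -/
theorem pair_not_stab {d y₁ y₂ : G} (hd : d ∈ D) (h1 : y₁ ∈ D) (hn : y₁ ∉ comp D d) (h2 : y₂ ∈ Nb D y₁) :
    y₁ * y₂ ∉ stab ctx hd := by
  intro hv
  set v := y₁ * y₂ with hv_def
  have hv2 : v * v = 1 := pair_mul_self ctx h1 h2
  have hvi : v⁻¹ = v := inv_eq_of_mul_eq_one_right hv2
  have hy1i := ctx.inv_eq h1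
  have hdis : ∀ x ∈ comp D d, x ∉ comp D y₁ := fun x hx hx' =>
    hn ⟨h1, near_trans ctx hd hx.1 h1 hx.2 (near_symm ctx hx'.2)⟩
  have hnc : ∀ x ∈ comp D d, ¬ Commute x v := fun x hx h => hdis x hx (pair_member ctx h1 h2 hx.1 h)
  have hstep : ∀ s ∈ comp D d, v * s * v ∈ Nb D s := by
    intro s hs
    have h' := stab_comp ctx hd hv hs
    rw [hvi] at h'
    have hne : v * s * v ≠ s := fun e => hnc s hs (by
      show s * v = v * s
      calc s * v = v * s * v * v := by rw [e]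
        _ = v * s * (v * v) := by group
        _ = v * s := by rw [hv2, mul_one])
    refine ⟨h'.1, hne, ?_⟩
    by_contra hc
    obtain ⟨a, ha, ha'⟩ :=
      ((near_trans ctx hs.1 hd h'.1 (near_symm ctx hs.2) h'.2).resolve_left hne.symm).resolve_left hc
    have hb := braid (ctx.sq hs.1) (ctx.sq h'.1)
      (ctx.pow_three ha.1 (ctx.nb_symm hs.1 ha) (ctx.nb_symm h'.1 ha') hc)
    have ht : s * (v * s * v) * s ∈ comp D d := by
      have := stab_comp ctx hd (comp_le_stab ctx hd hs) h'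
      rwa [ctx.inv_eq hs.1] at this
    refine hnc _ ht (Commute.symm ?_)
    show v * (s * (v * s * v) * s) = s * (v * s * v) * s * v
    calc v * (s * (v * s * v) * s) = v * s * v * s * (v * s * v) * v⁻¹ := by group
      _ = s * (v * s * v) * s * v := by rw [← hb, hvi]
  -- the components of the conjugates of `y₁` by the members
  have hsame : ∀ s ∈ comp D d, Near D (y₁ * s * y₁) (s * y₁ * s) := by
    intro s hs
    have hN := hstep s hs
    have hsi := ctx.inv_eq hs.1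
    have hs2 := ctx.sq hs.1
    set s' := v * s * v with hs'
    set z := s * s' with hz
    have hcv : Commute z v := by
      show s * (v * s * v) * v = v * (s * (v * s * v))
      calc s * (v * s * v) * v = s * (v * s * v) * v := rfl
        _ = v * (v * s * v * s) * (v * v) := by simp only [mul_assoc, hv2, mul_one]; rw [← mul_assoc v v, hv2, one_mul]
        _ = _ := by rw [hv2, mul_one, hN.2.2.symm.eq]
    have hzs : z ∈ stab ctx h1 := pair_stab ctx h1 h2 hcv
    have hz2 : z * z = 1 := pair_mul_self ctx hs.1 hN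
    have hzi : z⁻¹ = z := inv_eq_of_mul_eq_one_right hz2
    -- `z` exchanges `y₁` and `y₂`
    have hu := stab_comp ctx h1 hzs (self_mem_comp ctx h1)
    have hu' : z * y₂ * z⁻¹ ∈ Nb D (z * y₁ * z⁻¹) :=
      ⟨ctx.conj z y₂ h2.1, fun e => h2.2.1 (mul_left_cancel (mul_right_cancel e)), (Commute.conj_iff z).2 h2.2.2⟩
    have hprod : y₁ * y₂ = z * y₁ * z⁻¹ * (z * y₂ * z⁻¹) := by
      rw [show z * y₁ * z⁻¹ * (z * y₂ * z⁻¹) = z * v * z⁻¹ by rw [hv_def]; group, hcv.eq, mul_inv_cancel_right]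
    have hswap : z * y₁ * z = y₂ := by
      rcases pair_unique ctx h1 (self_mem_comp ctx h1) h2 hu hu' hprod with ⟨h, -⟩ | ⟨h, -⟩
      · exfalso
        have hc : Commute y₁ z := by
          show y₁ * z = z * y₁
          calc y₁ * z = z * y₁ * z⁻¹ * z := by rw [h]
            _ = z * y₁ := by group
        exact hn (mem_comp_of_stab ctx hd h1 (pair_centralizer ctx hd hs hN hc))
      · rwa [hzi] at h
    -- the common product
    have hA : y₁ * s * y₁ * (y₁ * s' * y₁) = v * z := by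
      calc y₁ * s * y₁ * (y₁ * s' * y₁) = y₁ * (s * (y₁ * y₁) * s') * y₁ := by group
        _ = y₁ * z * y₁ * (z * z) := by rw [ctx.sq h1, mul_one, hz2, mul_one]
        _ = y₁ * (z * y₁ * z) * z := by group
        _ = v * z := by rw [hswap]
    have hB : s * y₁ * s * (s * y₂ * s) = v * z := by
      calc s * y₁ * s * (s * y₂ * s) = s * (y₁ * (s * s) * y₂) * s := by group
        _ = s * v * s * (v * v) := by rw [hs2, hv2, mul_one, mul_one]
        _ = s * (v * s * v) * v := by group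
        _ = z * v := rfl
        _ = v * z := hcv.eq
    have hc1 : y₁ * s' * y₁ ∈ Nb D (y₁ * s * y₁) := by
      have hh : ∀ x, y₁ * x * y₁ = y₁ * x * y₁⁻¹ := fun x => by rw [hy1i]
      rw [hh, hh]
      exact ⟨ctx.conj _ _ hN.1, fun e => hN.2.1 (mul_left_cancel (mul_right_cancel e)),
        (Commute.conj_iff _).2 hN.2.2⟩
    have hc2 : s * y₂ * s ∈ Nb D (s * y₁ * s) := by
      have hh : ∀ x, s * x * s = s * x * s⁻¹ := fun x => by rw [hsi]
      rw [hh, hh]
      exact ⟨ctx.conj _ _ h2.1, fun e => h2.2.1 (mul_left_cancel (mul_right_cancel e)),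
        (Commute.conj_iff _).2 h2.2.2⟩
    have hp : y₁ * s * y₁ ∈ D := by have := ctx.conj y₁ s hs.1; rwa [hy1i] at this
    have hq : s * y₁ * s ∈ D := by have := ctx.conj s y₁ h1; rwa [hsi] at this
    exact near_symm ctx (pair_member ctx hq hc2 hp
      (by rw [hB, ← hA]; exact (Commute.refl _).mul_right hc1.2.2)).2
  -- an odd relation
  obtain ⟨a, ha⟩ := exists_nb ctx hd
  obtain ⟨l, hdl, -, hodd, hl1, hlnb, -, -⟩ := exists_seven ctx hd ha
  have hlc : ∀ y ∈ l, y ∈ comp D d := fun y hy => by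
    rcases hlnb y hy with e | e
    · rw [e]; exact self_mem_comp ctx hd
    · exact nb_subset ctx hd (self_mem_comp ctx hd) e
  have key : ∀ y ∈ l, d * y ∈ stab ctx h1 := by
    intro y hy
    have hyc := hlc y hy
    have hd' := self_mem_comp ctx hd
    have hdy : Near D (y₁ * d * y₁) (y₁ * y * y₁) := by
      have := near_conj ctx y₁ hyc.2
      rwa [hy1i] at this
    have hp : ∀ x ∈ D, y₁ * x * y₁ ∈ D := fun x hx => by have := ctx.conj y₁ x hx; rwa [hy1i] at this
    have hq : ∀ x ∈ D, x * y₁ * x ∈ D := fun x hx => by have := ctx.conj x y₁ h1; rwa [ctx.inv_eq hx] at this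
    have h5 := near_trans ctx (hq d hd) (hp d hd) (hq y hyc.1) (near_symm ctx (hsame d hd'))
      (near_trans ctx (hp d hd) (hp y hyc.1) (hq y hyc.1) hdy (hsame y hyc))
    have h6 := near_conj ctx d h5
    rw [ctx.inv_eq hd, show d * (d * y₁ * d) * d = (d * d) * y₁ * (d * d) by group, ctx.sq hd, one_mul, mul_one] at h6
    rw [mem_stab, mul_inv_rev, ctx.inv_eq hd, ctx.inv_eq hyc.1]
    rwa [show d * y * y₁ * (y * d) = d * (y * y₁ * y) * d by group]
  have h7 := (mem_of_odd_prod (stab ctx h1) d (ctx.sq hd) l fun y hy => ⟨ctx.sq (hlc y hy).1, key y hy⟩).2 hodd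
  rw [hl1, mul_one] at h7
  exact hdis d (self_mem_comp ctx hd) (mem_comp_of_stab ctx h1 hd h7)

/-- Involutions that are not conjugate commute with a common one. -/
theorem parity {H : Type*} [Group H] [Finite H] {u v : H} (hu : u * u = 1) (hv : v * v = 1) (h : ¬ IsConj u v) :
    ∃ w, w * w = 1 ∧ w ≠ 1 ∧ Commute u w ∧ Commute v w ∧
      ((IsConj u (u * w) ∧ IsConj v (v * w)) ∨ (IsConj v (u * w) ∧ IsConj u (v * w))) := by
  have hui := inv_eq_of_mul_eq_one_right hu
  have hvi := inv_eq_of_mul_eq_one_right hv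
  set t := u * v with ht
  have hut : ∀ i : ℕ, u * t ^ i = (t ^ i)⁻¹ * u := fun i => by
    have e : u * t * u⁻¹ = t⁻¹ := by rw [ht, hui, mul_inv_rev, hui, hvi]; simp only [← mul_assoc, hu, one_mul]
    calc u * t ^ i = (u * t * u⁻¹) ^ i * u := by rw [conj_pow]; group
      _ = _ := by rw [e, inv_pow]
  have hvt : ∀ i : ℕ, v * t ^ i = (t ^ i)⁻¹ * v := fun i => by
    have e : v * t * v⁻¹ = t⁻¹ := by rw [ht, hvi, mul_inv_rev, hui, hvi]; simp only [mul_assoc, hv, mul_one]
    calc v * t ^ i = (v * t * v⁻¹) ^ i * v := by rw [conj_pow]; group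
      _ = _ := by rw [e, inv_pow]
  have hcu : ∀ i : ℕ, IsConj u (t ^ i * t ^ i * u) := fun i =>
    isConj_iff.2 ⟨t ^ i, by
      have h1 : u * (t ^ i)⁻¹ = t ^ i * u := by
        rw [mul_inv_eq_iff_eq_mul, mul_assoc, hut, mul_inv_cancel_left]
      rw [mul_assoc, h1, ← mul_assoc]⟩
  have hcv : ∀ i : ℕ, IsConj v (t ^ i * t ^ i * v) := fun i =>
    isConj_iff.2 ⟨t ^ i, by
      have h1 : v * (t ^ i)⁻¹ = t ^ i * v := by
        rw [mul_inv_eq_iff_eq_mul, mul_assoc, hvt, mul_inv_cancel_left]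
      rw [mul_assoc, h1, ← mul_assoc]⟩
  have htm : t ^ orderOf t = 1 := pow_orderOf_eq_one t
  rcases Nat.even_or_odd (orderOf t) with ⟨n, hn⟩ | ⟨n, hn⟩
  · set w := t ^ n with hw
    have hw2 : w * w = 1 := by rw [hw, ← pow_add, ← hn, htm]
    have hwi : w⁻¹ = w := inv_eq_of_mul_eq_one_right hw2
    have huw : u * w = w * u := by rw [hw, hut n, ← hw, hwi]
    have hvw : v * w = w * v := by rw [hw, hvt n, ← hw, hwi]
    have hm := orderOf_pos t
    have hw1 : w ≠ 1 := fun e => by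
      have := Nat.le_of_dvd (by omega) (orderOf_dvd_of_pow_eq_one (hw ▸ e : t ^ n = 1))
      omega
    refine ⟨w, hw2, hw1, huw, hvw, ?_⟩
    rw [huw, hvw]
    rcases Nat.even_or_odd n with ⟨k, hk⟩ | ⟨k, hk⟩
    · exact Or.inl ⟨by rw [hw, hk, pow_add]; exact hcu k, by rw [hw, hk, pow_add]; exact hcv k⟩
    · refine Or.inr ⟨?_, ?_⟩
      · rw [hw, hk, show u = t * v by rw [ht, mul_assoc, hv, mul_one], ← mul_assoc, ← pow_succ,
          show 2 * k + 1 + 1 = (k + 1) + (k + 1) by ring, pow_add]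
        exact hcv (k + 1)
      · rw [hw, hk, pow_succ, mul_assoc, show t * v = u by rw [ht, mul_assoc, hv, mul_one],
          show 2 * k = k + k by ring, pow_add]
        exact hcu k
  · refine absurd ((hcu n).trans ?_) h
    rw [show t ^ n * t ^ n * u = t⁻¹ * u by
      rw [eq_comm, mul_left_inj, inv_eq_iff_mul_eq_one, ← pow_add, ← pow_succ', show n + n + 1 = orderOf t by omega,
        htm]]
    rw [ht, mul_inv_rev, hui, hvi, mul_assoc, hu, mul_one]

theorem comp_eq_of_mem {d a : G} (hd : d ∈ D) (ha : d ∈ comp D a) (haD : a ∈ D) : a ∈ comp D d :=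
  ⟨haD, near_symm ctx ha.2⟩

/-- All members lie in one component. -/
theorem near_all {d e : G} (hd : d ∈ D) (he : e ∈ D) : Near D d e := by
  classical
  by_contra hne
  have hn : e ∉ comp D d := fun h => hne h.2
  have hdis : ∀ x ∈ comp D e, x ∉ comp D d := fun x hx hx' =>
    hne (near_trans ctx hd hx.1 he hx'.2 (near_symm ctx hx.2))
  have hdis' : ∀ {x}, x ∈ comp D d → x ∉ comp D e := fun hx hx' => hdis _ hx' hx
  obtain ⟨π, C⟩ := ctx.exists_chart hd
  let W : Set G := {w | ∃ a b, a ∈ Nb D d ∧ b ∈ Nb D d ∧ b ∈ Nb D a ∧ w = d * a * b}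
  let Trip : G → G → Prop := fun w x =>
    x ∈ comp D e ∧ ∃ p q, p ∈ Nb D x ∧ q ∈ Nb D x ∧ q ∈ Nb D p ∧ w = x * p * q
  have hmain : ∀ y₁ ∈ comp D e, ∀ y₂ ∈ Nb D y₁, ∃ w x, w ∈ W ∧ Trip w x ∧ y₁ * y₂ = x * w := by
    intro y₁ hy₁ y₂ hy₂
    have hy₁d : y₁ ∉ comp D d := hdis y₁ hy₁
    have hnc : ¬ IsConj d (y₁ * y₂) := by
      intro h
      obtain ⟨M, hM⟩ := ctx.nb y₁ hy₁.1
      obtain ⟨k, hk, hk2⟩ := eType_mul_square M ((hM y₂).1 hy₂)
      obtain ⟨g, hg⟩ := ctx.cls y₁ hy₁.1 d hd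
      exact not_square M ((isConj_iff.2 ⟨g, hg⟩).trans h) hk hk2
    obtain ⟨w, hw2, hw1, hdw, hvw, hcase⟩ := parity ctx (ctx.sq hd) (pair_mul_self ctx hy₁.1 hy₂) hnc
    have hnot : ∀ {a b : G}, a ∈ comp D d → b ∈ Nb D a → w ≠ a * b := fun {a b} ha hb hab =>
      pair_not_stab ctx hd hy₁.1 hy₁d hy₂ (pair_centralizer ctx hd ha hb (hab ▸ hvw))
    have hnotD : w ∉ comp D d := fun hw =>
      pair_not_stab ctx hd hy₁.1 hy₁d hy₂ (centralizer_le ctx hd hw hvw)
    rcases hcase with ⟨h1, -⟩ | ⟨h1, h2⟩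
    · exfalso
      obtain ⟨g, hg⟩ := isConj_iff.1 h1
      refine hnot (self_mem_comp ctx hd) ⟨hg ▸ ctx.conj g d hd, fun e => hw1 ?_,
        (Commute.refl d).mul_right hdw⟩ (by rw [← mul_assoc, ctx.sq hd, one_mul])
      exact mul_left_cancel (e.trans (mul_one d).symm)
    obtain ⟨g, hg⟩ := isConj_iff.1 h1
    obtain ⟨k, hk⟩ := isConj_iff.1 h2
    set a := g * y₁ * g⁻¹ with ha_def
    set b := g * y₂ * g⁻¹ with hb_def
    have hab : a * b = d * w := by rw [← hg, ha_def, hb_def]; group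
    have hbn : b ∈ Nb D a := ⟨ctx.conj g _ hy₂.1, fun e => hy₂.2.1 (mul_left_cancel (mul_right_cancel e)),
      (Commute.conj_iff g).2 hy₂.2.2⟩
    have haD : a ∈ D := ctx.conj g _ hy₁.1
    have hdc : Commute d (a * b) := hab ▸ (Commute.refl d).mul_right hdw
    have had : a ∈ comp D d := comp_eq_of_mem ctx hd (pair_member ctx haD hbn hd hdc) haD
    obtain ⟨hda, hdb⟩ := pair_commute ctx hd had hbn (self_mem_comp ctx hd) hdc
    have hwe : w = d * a * b := by rw [mul_assoc, hab, ← mul_assoc, ctx.sq hd, one_mul]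
    have hne_a : a ≠ d := fun e => hnotD (by
      rw [hwe, e, ctx.sq hd, one_mul]
      exact nb_subset ctx hd had hbn)
    have hne_b : b ≠ d := fun e => hnotD (by
      rw [hwe, e, mul_assoc, hda.symm.eq, ← mul_assoc, ctx.sq hd, one_mul]
      exact had)
    set x := y₁ * y₂ * w with hx_def
    have hxD : x ∈ D := hk ▸ ctx.conj k d hd
    have hxv : Commute x (y₁ * y₂) := (Commute.refl _).mul_left hvw.symm
    have hxc : x ∈ comp D e := by
      have := pair_member ctx hy₁.1 hy₂ hxD hxv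
      rwa [comp_eq ctx he hy₁] at this
    obtain ⟨hxy1, hxy2⟩ := pair_commute ctx he hy₁ hy₂ hxc hxv
    have hwx : w = x * y₁ * y₂ := by
      rw [mul_assoc, hxv.eq, hx_def, ← mul_assoc, pair_mul_self ctx hy₁.1 hy₂, one_mul]
    have hwd : ∀ {y : G}, y ∈ D → w = y → False := fun {y} hy h => hnotD
      ⟨h ▸ hy, Or.inr (Or.inl hdw)⟩
    refine ⟨w, x, ⟨a, b, ⟨haD, hne_a, hda⟩, ⟨hbn.1, hne_b, hdb⟩, hbn, hwe⟩,
      ⟨hxc, y₁, y₂, ⟨hy₁.1, fun e => hwd hy₂.1 ?_, hxy1⟩, ⟨hy₂.1, fun e => hwd hy₁.1 ?_, hxy2⟩, hy₂, hwx⟩, ?_⟩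
    · rw [hwx, ← e, ctx.sq hy₁.1, one_mul]
    · rw [hwx, ← e, hy₂.2.2.eq.symm, mul_assoc, ctx.sq hy₂.1, mul_one]
    · rw [hx_def, mul_assoc, hw2, mul_one]
  -- at most six third members
  have htrip : ∀ {w x}, Trip w x → Commute x w ∧ ∀ p q, p ∈ Nb D x → q ∈ Nb D x → q ∈ Nb D p → w = x * p * q →
      Trip w p ∧ Trip w q := by
    intro w x hx
    refine ⟨?_, fun p q hp hq hpq e => ?_⟩
    · obtain ⟨-, p, q, hp, hq, -, rfl⟩ := hx
      exact ((Commute.refl x).mul_right hp.2.2).mul_right hq.2.2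
    · refine ⟨⟨nb_subset ctx he hx.1 hp, x, q, ctx.nb_symm hx.1.1 hp, hpq, hq, by rw [e, hp.2.2.eq]⟩,
        ⟨nb_subset ctx he hx.1 hq, x, p, ctx.nb_symm hx.1.1 hq, ctx.nb_symm hp.1 hpq, hp, ?_⟩⟩
      rw [e, mul_assoc, hpq.2.2.eq, ← mul_assoc, hq.2.2.eq]
  have hcomm : ∀ w x x₀, Trip w x → Trip w x₀ → Commute x x₀ := by
    intro w x x₀ hx hx₀
    by_contra hxx
    obtain ⟨hx₀c, a, b, ha, hb, hab, rfl⟩ := hx₀
    have hxw := (htrip hx).1
    have hne' : x ≠ x₀ := fun h => hxx (h ▸ Commute.refl x)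
    have hac := nb_subset ctx he hx₀c ha
    have hbc := nb_subset ctx he hx₀c hb
    have hxa : ¬ Commute x a := fun h => hxx (by
      refine (pair_commute ctx he hx₀c hb hx.1 ?_).1
      have e : x₀ * b = x₀ * a * b * a⁻¹ := by rw [mul_assoc (x₀ * a), hab.2.2.symm.inv_right.eq]; group
      rw [e]; exact hxw.mul_right h.inv_right)
    have hxb : ¬ Commute x b := fun h => hxx (by
      refine (pair_commute ctx he hx₀c ha hx.1 ?_).1
      have e : x₀ * a = x₀ * a * b * b⁻¹ := by group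
      rw [e]; exact hxw.mul_right h.inv_right)
    obtain ⟨s₀, hs₀x, hs₀⟩ :=
      ((near_trans ctx hx.1.1 he hx₀c.1 (near_symm ctx hx.1.2) hx₀c.2).resolve_left hne').resolve_left hxx
    obtain ⟨s, hsx, hsx₀, hsa⟩ : ∃ s, s ∈ Nb D x ∧ s ∈ Nb D x₀ ∧ Commute s a := by
      by_cases hc : Commute s₀ a
      · exact ⟨s₀, hs₀x, hs₀, hc⟩
      · obtain ⟨s, h1, h2, -, h4⟩ := nb_step ctx hx.1.1 hx₀c.1 hxx hs₀x hs₀ ha hc
        exact ⟨s, h1, h2, h4⟩
    have hsb : Commute s b := by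
      by_contra hsb
      refine hxb ?_
      have hb3 := braid (ctx.sq hsx.1) (ctx.sq hb.1) (ctx.pow_three hx₀c.1 hsx₀ hb hsb)
      have hsi := ctx.inv_eq hsx.1
      have hbi := ctx.inv_eq hb.1
      have e1 : x₀ * a * b * s * (x₀ * a * b)⁻¹ = b * s * b := by
        have hc : Commute (x₀ * a) (b * s * b⁻¹) :=
          ((hb.2.2.mul_right hsx₀.2.2).mul_right hb.2.2.inv_right).mul_left
            ((hab.2.2.mul_right hsa.symm).mul_right hab.2.2.inv_right)
        calc x₀ * a * b * s * (x₀ * a * b)⁻¹ = x₀ * a * (b * s * b⁻¹) * (x₀ * a)⁻¹ := by group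
          _ = b * s * b⁻¹ := by rw [hc.eq, mul_inv_cancel_right]
          _ = _ := by rw [hbi]
      have e2 : b = s * (b * s * b) * s := by
        rw [← hb3, show s * (s * b * s) * s = (s * s) * b * (s * s) by group, ctx.sq hsx.1, one_mul, mul_one]
      rw [e2, ← e1]
      exact (hsx.2.2.mul_right ((hxw.mul_right hsx.2.2).mul_right hxw.inv_right)).mul_right hsx.2.2
    obtain ⟨ρ, R⟩ := ctx.exists_chart hsx.1
    have hnb : ∀ {y}, y ∈ D → Commute s y → ¬ Commute x y → y ∈ Nb D s := fun {y} hy h hn' =>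
      ⟨hy, fun e => hn' (e ▸ hsx.2.2), h⟩
    have n0 := hnb hx₀c.1 hsx₀.2.2.symm hxx
    have n1 := hnb ha.1 hsa hxa
    have n2 := hnb hb.1 hsb hxb
    have nx := ctx.nb_symm hx.1.1 hsx
    have hcs : ∀ {y}, y ∈ Nb D s → Commute y s := fun h => h.2.2.symm
    refine fix_three (R.mem n0) (R.mem n1) (R.mem n2) (R.mem nx) ((R.comm n0 n1).2 ha.2.2)
      ((R.comm n0 n2).2 hb.2.2) ((R.comm n1 n2).2 hab.2.2) (fun h => hxx ((R.comm nx n0).1 h))
      (fun h => hxa ((R.comm nx n1).1 h)) (fun h => hxb ((R.comm nx n2).1 h)) ?_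
    show ρ x₀ * ρ a * ρ b * ρ x = ρ x * (ρ x₀ * ρ a * ρ b)
    rw [← R.mul (hcs n0) (hcs n1), ← R.mul ((hcs n0).mul_left (hcs n1)) (hcs n2),
      ← R.mul (((hcs n0).mul_left (hcs n1)).mul_left (hcs n2)) (hcs nx),
      ← R.mul (hcs nx) (((hcs n0).mul_left (hcs n1)).mul_left (hcs n2)), hxw.eq]
  have hX : ∀ w, {x | Trip w x}.ncard ≤ 6 := by
    intro w
    rcases Set.eq_empty_or_nonempty {x | Trip w x} with h | ⟨x₀, hx₀⟩
    · rw [h, Set.ncard_empty]; exact Nat.zero_le _
    obtain ⟨κ, -, hκ, hinj, hprod⟩ := exists_numbering ctx hx₀.1.1 (U := {x | Trip w x}) (fun y hy => by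
      by_cases h : y = x₀
      · exact Or.inl h
      · exact Or.inr ⟨hy.1.1, h, (hcomm w y x₀ hy hx₀).symm⟩) fun y hy z hz => hcomm w y z hy hz
    obtain ⟨a, b, ha, hb, hab, hw₀⟩ : ∃ a b, a ∈ Nb D x₀ ∧ b ∈ Nb D x₀ ∧ b ∈ Nb D a ∧ w = x₀ * a * b := hx₀.2
    obtain ⟨hta, htb⟩ := (htrip hx₀).2 a b ha hb hab hw₀
    let T := code (κ x₀) ^^^ (code (κ a) ^^^ code (κ b))
    have hsub : κ '' {x | Trip w x} ⊆ (((List.range 22).filter fun k => Nat.testBit (tripleMask T) k).toFinset : Set ℕ) := by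
      rintro _ ⟨x, hx, rfl⟩
      obtain ⟨p, q, hp, hq, hpq, hw⟩ := hx.2
      obtain ⟨htp, htq⟩ := (htrip hx).2 p q hp hq hpq hw
      have hm : ∀ {y}, Trip w y → y ∈ insert x₀ {x | Trip w x} := fun h => Or.inr h
      have h0 := (hprod [x, p, q, b, a, x₀] (by
        intro y hy
        simp only [List.mem_cons, List.not_mem_nil, or_false] at hy
        rcases hy with rfl | rfl | rfl | rfl | rfl | rfl
        exacts [hm hx, hm htp, hm htq, hm htb, hm hta, hm hx₀])).1 (by
        simp only [List.prod_cons, List.prod_nil, mul_one]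
        calc x * (p * (q * (b * (a * x₀)))) = x * p * q * (b * a * x₀) := by group
          _ = x₀ * a * b * (b * a * x₀) := by rw [← hw, hw₀]
          _ = x₀ * (a * (b * b) * a) * x₀ := by group
          _ = 1 := by rw [ctx.sq hb.1, mul_one, ctx.sq ha.1, mul_one, ctx.sq hx₀.1.1])
      have hT : code (κ x) ^^^ (code (κ p) ^^^ code (κ q)) = T := by
        rw [← Nat.xor_eq_zero_iff, ← h0]
        simp only [T, List.map_cons, List.map_nil, codeSum, List.foldr_cons, List.foldr_nil, Nat.xor_assoc]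
        show code (κ x) ^^^ (code (κ p) ^^^ (code (κ q) ^^^ (code (κ x₀) ^^^ (code (κ a) ^^^ code (κ b))))) =
          code (κ x) ^^^ (code (κ p) ^^^ (code (κ q) ^^^ (code (κ b) ^^^ (code (κ a) ^^^ (code (κ x₀) ^^^ 0)))))
        rw [Nat.xor_zero, Nat.xor_comm (code (κ a)) (code (κ b)), Nat.xor_comm (code (κ x₀)),
          Nat.xor_assoc]
      rw [Finset.mem_coe, List.mem_toFinset, List.mem_filter, List.mem_range, ← hT]
      exact ⟨hκ x (hm hx), triple_mem (hκ x (hm hx)) (hκ p (hm htp)) (hκ q (hm htq))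
        (fun e => hp.2.1 (hinj (hm hx) (hm htp) e).symm) (fun e => hq.2.1 (hinj (hm hx) (hm htq) e).symm)
        (fun e => hpq.2.1 (hinj (hm htp) (hm htq) e).symm)⟩
    have h1 := Set.ncard_le_ncard hsub (Set.toFinite _)
    rw [Set.ncard_coe_finset, Set.InjOn.ncard_image fun y hy z hz e => hinj (Or.inr hy) (Or.inr hz) e] at h1
    refine h1.trans ((List.toFinset_card_le _).trans (Nat.ble_eq.mp (CosetCert.of_allBelow triple_count T
      (Nat.xor_lt_two_pow (n := 10) (code_lt _) (Nat.xor_lt_two_pow (n := 10) (code_lt _) (code_lt _))))))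
  -- counting
  have hnb : ∀ {x : G}, x ∈ D → (Set.toFinite (Nb D x)).toFinset.card = 693 := fun {x} hx => by
    obtain ⟨ρ, R⟩ := ctx.exists_chart hx
    rw [← Set.ncard_eq_toFinset_card, R.card_nb]
  let A : Finset (Σ _ : G, G) := (Set.toFinite (Nb D d)).toFinset.sigma fun a =>
    (Set.toFinite (Nb D d ∩ Nb D a)).toFinset
  let B : Finset G := A.image fun p => d * p.1 * p.2
  have hA : A.card ≤ 693 * 180 := by
    rw [Finset.card_sigma, ← hnb hd, ← smul_eq_mul]
    refine Finset.sum_le_card_nsmul _ _ 180 fun a ha => ?_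
    rw [Set.Finite.mem_toFinset] at ha
    rw [← Set.ncard_eq_toFinset_card]
    have h := C.card_comm ha
    have hsub : Nb D d ∩ Nb D a ⊆ {y | y ∈ Nb D d ∧ Commute a y} \ {a} := fun y hy =>
      ⟨⟨hy.1, hy.2.2.2⟩, hy.2.2.1⟩
    have h2 := Set.ncard_le_ncard hsub (Set.toFinite _)
    rw [Set.ncard_sdiff_singleton_of_mem (show a ∈ {y | y ∈ Nb D d ∧ Commute a y} from ⟨ha, Commute.refl a⟩), h] at h2
    omega
  have hB : 2 * B.card ≤ A.card := by
    refine Finset.mul_card_image_le_card (f := fun p : Σ _ : G, G => d * p.1 * p.2) A 2 fun w hw => ?_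
    obtain ⟨⟨a, b⟩, hp, rfl⟩ := Finset.mem_image.1 hw
    simp only [A, Finset.mem_sigma, Set.Finite.mem_toFinset] at hp
    obtain ⟨ha, hb, hab⟩ := hp
    have hne' : (⟨a, b⟩ : Σ _ : G, G) ≠ ⟨b, a⟩ := fun h => hab.2.1 (congrArg Sigma.fst h).symm
    rw [← Finset.card_pair hne']
    refine Finset.card_le_card fun q hq => ?_
    simp only [Finset.mem_insert, Finset.mem_singleton] at hq
    simp only [Finset.mem_filter, A, Finset.mem_sigma, Set.Finite.mem_toFinset]
    rcases hq with rfl | rfl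
    · exact ⟨⟨ha, hb, hab⟩, rfl⟩
    · exact ⟨⟨hb, ha, ctx.nb_symm ha.1 hab⟩, by rw [mul_assoc, hab.2.2.symm.eq, ← mul_assoc]⟩
  let T : Finset (Σ _ : G, G) := B.sigma fun w => (Set.toFinite {x | Trip w x}).toFinset
  let V : Finset G := T.image fun q => q.2 * q.1
  have hV : V.card ≤ B.card * 6 := by
    refine Finset.card_image_le.trans ?_
    rw [Finset.card_sigma, ← smul_eq_mul]
    refine Finset.sum_le_card_nsmul _ _ 6 fun w _ => ?_
    rw [← Set.ncard_eq_toFinset_card]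
    exact hX w
  let S : Finset (Σ _ : G, G) := (Set.toFinite (comp D e)).toFinset.sigma fun y => (Set.toFinite (Nb D y)).toFinset
  have hScard : S.card = (comp D e).ncard * 693 := by
    rw [Finset.card_sigma, Set.ncard_eq_toFinset_card _ (Set.toFinite _)]
    exact Finset.sum_const_nat fun y hy => hnb ((Set.Finite.mem_toFinset _).1 hy).1
  have hS : S.card ≤ 2 * V.card := by
    refine Finset.card_le_mul_card_image_of_maps_to (f := fun q => q.1 * q.2) (fun q hq => ?_) 2 fun v _ => ?_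
    · simp only [S, Finset.mem_sigma, Set.Finite.mem_toFinset] at hq
      obtain ⟨w, x, ⟨a, b, ha, hb, hab, hwe⟩, hx, hv⟩ := hmain q.1 hq.1 q.2 hq.2
      refine Finset.mem_image.2 ⟨⟨w, x⟩, ?_, hv.symm⟩
      simp only [T, B, A, Finset.mem_sigma, Finset.mem_image, Set.Finite.mem_toFinset]
      exact ⟨⟨⟨a, b⟩, ⟨ha, hb, hab⟩, hwe.symm⟩, hx⟩
    rcases Finset.eq_empty_or_nonempty (S.filter fun q => q.1 * q.2 = v) with h0 | ⟨q₀, hq₀⟩
    · rw [h0]; exact Nat.zero_le _
    simp only [Finset.mem_filter, S, Finset.mem_sigma, Set.Finite.mem_toFinset] at hq₀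
    obtain ⟨⟨h1, h2⟩, hv⟩ := hq₀
    refine (Finset.card_le_card (t := {q₀, ⟨q₀.2, q₀.1⟩}) fun q hq => ?_).trans Finset.card_le_two
    simp only [Finset.mem_filter, S, Finset.mem_sigma, Set.Finite.mem_toFinset] at hq
    obtain ⟨⟨h3, h4⟩, hv'⟩ := hq
    rw [Finset.mem_insert, Finset.mem_singleton]
    rcases pair_unique ctx he h1 h2 h3 h4 (hv.trans hv'.symm) with ⟨e1, e2⟩ | ⟨e1, e2⟩
    · exact Or.inl (Sigma.ext e1 (heq_of_eq e2))
    · exact Or.inr (Sigma.ext e1 (heq_of_eq e2))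
  have := comp_large ctx he
  omega

theorem orderOf_member {x : G} (hx : x ∈ D) : orderOf x = 2 :=
  orderOf_eq_prime (by rw [pow_two, ctx.sq hx]) (ctx.ne_one hx)

/-- The class consists of 3-transpositions. -/
theorem threeTransposition : Cfsg.IsThreeTranspositionSet D := by
  refine ⟨fun d hd => orderOf_member ctx hd, fun d hd e he => ?_⟩
  by_cases hc : Commute d e
  · exact Or.inl (by rw [hc.mul_pow, pow_two, pow_two, ctx.sq hd, ctx.sq he, one_mul])
  · obtain ⟨a, had, hae⟩ :=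
      ((near_all ctx hd he).resolve_left fun h => hc (h ▸ Commute.refl d)).resolve_left hc
    exact Or.inr (ctx.pow_three had.1 (ctx.nb_symm hd had) (ctx.nb_symm he hae) hc)

end CfsgLib.Sporadic.U62Centralizer
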