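import Cfsg.Agent.Lib.Sporadic.U62Centralizer.Generation
import Cfsg.Agent.Lib.Sporadic.MTwentyTwo.Order
import Cfsg.Agent.Lib.Sporadic.MTwentyTwo.Sets
import Cfsg.Agent.Lib.Sporadic.MTwentyTwo.Diag
import Cfsg.Agent.Lib.Sporadic.FischerRankThree
import Mathlib.LinearAlgebra.Matrix.SchurComplement
import Mathlib.Data.Rat.Lemmas

/-!
# The common neighbours of two members that do not commute

Their number is the same for all such pairs. The matrix of the commuting graph and a count show that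
it is divisible by nine, so the centraliser of the pair has a Sylow 3-subgroup of the centraliser of
a member, and the common neighbours form a closed set of points invariant under the diagonal group.
-/

set_option autoImplicit false
set_option linter.unusedSectionVars false
set_option maxRecDepth 100000

namespace CfsgLib.Sporadic.U62Centralizer

open CfsgLib.Sporadic.FischerTransitivity
open CfsgLib.Sporadic.MTwentyTwo (P TP Vec pts tp E0)

/-- An element fixing another under conjugation commutes with it. -/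
theorem commute_of_conj_eq {G : Type*} [Group G] {k x : G} (h : k * x * k⁻¹ = x) : Commute k x :=
  (eq_mul_inv_iff_mul_eq.1 h.symm).symm

variable {G : Type*} [Group G] [Finite G] {D : Set G} (ctx : Ctx D)
include ctx

/-- Conjugation by an element commuting with `u` preserves the neighbours of `u`. -/
theorem nb_move {u y k : G} (hy : y ∈ Nb D u) (hk : Commute k u) : k * y * k⁻¹ ∈ Nb D u := by
  refine ⟨ctx.conj k y hy.1, fun e => hy.2.1 ?_, ?_⟩
  · exact mul_left_cancel (mul_right_cancel (e.trans (show u = k * u * k⁻¹ by rw [hk.eq, mul_inv_cancel_right])))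
  · have := (Commute.conj_iff k).2 hy.2.2
    rwa [hk.eq, mul_inv_cancel_right] at this

/-- The pairs of members that do not commute are conjugate. -/
theorem exists_conj_pair {d c c' : G} (hd : d ∈ D) (hc : c ∈ D) (hc' : c' ∈ D) (h : ¬ Commute d c)
    (h' : ¬ Commute d c') : ∃ g : G, Commute g d ∧ g * c * g⁻¹ = c' := by
  obtain ⟨g, hg1, hg2⟩ :=
    FischerRankThree.adj_transitive (isGroup ctx hd) ctx.cls (hperf ctx hd) (hsol ctx hd) hd hc hc' h h'
  exact ⟨g, commute_of_conj_eq hg1, hg2⟩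

theorem common_exists {d c : G} (hd : d ∈ D) (hc : c ∈ D) (h : ¬ Commute d c) : ∃ a, a ∈ Nb D d ∩ Nb D c := by
  rcases near_all ctx hd hc with h' | h' | ⟨a, h1, h2⟩
  · exact absurd (h' ▸ Commute.refl d) h
  · exact absurd h' h
  · exact ⟨a, h1, h2⟩

theorem common_big {d c : G} (hd : d ∈ D) (hc : c ∈ D) (h : ¬ Commute d c) : 45 < (Nb D d ∩ Nb D c).ncard := by
  obtain ⟨a, ha⟩ := common_exists ctx hd hc h
  obtain ⟨π, C⟩ := ctx.exists_chart ha.1.1
  have hda : d ∈ Nb D a := ctx.nb_symm hd ha.1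
  have hca : c ∈ Nb D a := ctx.nb_symm hc ha.2
  set X := {y | y ∈ Nb D a ∧ Commute (π d) (π y) ∧ Commute (π c) (π y)}
  have hX : X.ncard = 45 := by
    rw [C.card_nb_filter fun q => Commute (π d) q ∧ Commute (π c) q]
    exact MTwentyTwo.card_pair_perp (C.mem hda) (C.mem hca) fun h' => h ((C.comm hda hca).1 h')
  have hsub : X ⊆ Nb D d ∩ Nb D c := by
    rintro y ⟨hy, h1, h2⟩
    rw [C.comm hda hy] at h1
    rw [C.comm hca hy] at h2
    exact ⟨⟨hy.1, fun e => h (by subst e; exact h2.symm), h1⟩, ⟨hy.1, fun e => h (by subst e; exact h1), h2⟩⟩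
  have hlt : X ⊂ Nb D d ∩ Nb D c := ⟨hsub, fun h' => (h' ha).1.2.1 rfl⟩
  have := Set.ncard_lt_ncard hlt (Set.toFinite _)
  omega

theorem noncomm_large {d : G} (hd : d ∈ D) : 843 ≤ {c | c ∈ D ∧ ¬ Commute d c}.ncard := by
  obtain ⟨π, C⟩ := ctx.exists_chart hd
  obtain ⟨a, ha, ea⟩ := C.exists_member MTwentyTwo.p12_mem
  obtain ⟨b, hb, eb⟩ := C.exists_member MTwentyTwo.p34_mem
  have hab : b ∈ Nb D a := ⟨hb.1, fun h => absurd (MTwentyTwo.tp_inj MTwentyTwo.p34_mem MTwentyTwo.p12_mem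
    (by rw [← eb, ← ea, h])) (by decide +kernel),
    (C.orth_iff ha hb MTwentyTwo.p12_mem MTwentyTwo.p34_mem ea eb).1 (by decide +kernel)⟩
  obtain ⟨ρ, R⟩ := ctx.exists_chart ha.1
  obtain ⟨σ, S⟩ := ctx.exists_chart hb.1
  set X := {y | y ∈ Nb D a ∧ ¬ Commute d y} with hX
  set Y := {y | y ∈ Nb D b ∧ ¬ Commute d y} with hY
  have h1 : X.ncard = 512 := R.card_noncomm (ctx.nb_symm hd ha)
  have h2 : Y.ncard = 512 := S.card_noncomm (ctx.nb_symm hd hb)
  have h3 : (X ∩ Y).ncard ≤ 181 := by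
    rw [← R.card_comm hab]
    exact Set.ncard_le_ncard (fun y hy => ⟨hy.1.1, hy.2.1.2.2⟩) (Set.toFinite _)
  have h4 := Set.ncard_union_add_ncard_inter X Y
  have h5 : X ∪ Y ⊆ {c | c ∈ D ∧ ¬ Commute d c} := by
    rintro y (hy | hy) <;> exact ⟨hy.1.1, hy.2⟩
  have h6 := Set.ncard_le_ncard h5 (Set.toFinite _)
  omega

theorem card_common_const {d c d' c' : G} (hd : d ∈ D) (hc : c ∈ D) (hd' : d' ∈ D) (hc' : c' ∈ D)
    (h : ¬ Commute d c) (h' : ¬ Commute d' c') : (Nb D d ∩ Nb D c).ncard = (Nb D d' ∩ Nb D c').ncard := by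
  obtain ⟨g, hg⟩ := ctx.cls d hd d' hd'
  have h2 : ¬ Commute d' (g * c * g⁻¹) := by rw [← hg]; exact fun e => h ((Commute.conj_iff g).1 e)
  obtain ⟨k, hk, ek⟩ := exists_conj_pair ctx hd' (ctx.conj g c hc) hc' h2 h'
  set m := k * g with hm
  have em1 : m * d * m⁻¹ = d' := by
    rw [show m * d * m⁻¹ = k * (g * d * g⁻¹) * k⁻¹ by rw [hm]; group, hg, hk.eq, mul_inv_cancel_right]
  have em2 : m * c * m⁻¹ = c' := by rw [show m * c * m⁻¹ = k * (g * c * g⁻¹) * k⁻¹ by rw [hm]; group, ek]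
  have hinj : Function.Injective fun x => m * x * m⁻¹ := fun a b e => mul_left_cancel (mul_right_cancel e)
  have hG := isGroup ctx hd
  rw [← em1, ← em2, ← FischerRankThree.nb_image hG, ← FischerRankThree.nb_image hG, ← Set.image_inter hinj, Set.ncard_image_of_injective _ hinj]

theorem card_far_nb {d e : G} (hd : d ∈ D) (he : e ∈ Nb D d) : {y | y ∈ Nb D e ∧ ¬ Commute d y}.ncard = 512 := by
  obtain ⟨π, C⟩ := ctx.exists_chart he.1
  exact C.card_noncomm (ctx.nb_symm hd he)

theorem double_count {d c₀ : G} (hd : d ∈ D) (hc₀ : c₀ ∈ D) (hn : ¬ Commute d c₀) :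
    {c | c ∈ D ∧ ¬ Commute d c}.ncard * (Nb D d ∩ Nb D c₀).ncard = 354816 := by
  classical
  have := Fintype.ofFinite G
  set A : Finset G := Finset.univ.filter (fun c => c ∈ D ∧ ¬ Commute d c)
  set X : Finset G := Finset.univ.filter (fun e => e ∈ Nb D d)
  have hA : {c | c ∈ D ∧ ¬ Commute d c}.ncard = A.card := by
    rw [← Set.ncard_coe_finset]; congr 1; ext c; simp [A]
  have hX : X.card = 693 := by
    obtain ⟨π, C⟩ := ctx.exists_chart hd
    rw [← C.card_nb, ← Set.ncard_coe_finset]; congr 1; ext c; simp [X]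
  have h := Finset.sum_card_bipartiteAbove_eq_sum_card_bipartiteBelow (s := A) (t := X)
    (fun c e => e ∈ Nb D c)
  rw [Finset.sum_congr rfl (fun c hc => show (X.bipartiteAbove (fun c e => e ∈ Nb D c) c).card =
      (Nb D d ∩ Nb D c₀).ncard by
      simp only [A, Finset.mem_filter, Finset.mem_univ, true_and] at hc
      rw [card_common_const ctx hd hc₀ hd hc.1 hn hc.2, ← Set.ncard_coe_finset]
      congr 1; ext e; simp [X, Finset.bipartiteAbove]),
    Finset.sum_congr rfl (fun e he => show (A.bipartiteBelow (fun c e => e ∈ Nb D c) e).card = 512 by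
      simp only [X, Finset.mem_filter, Finset.mem_univ, true_and] at he
      rw [← card_far_nb ctx hd he, ← Set.ncard_coe_finset]
      congr 1; ext c
      simp only [Finset.bipartiteBelow, A, Finset.coe_filter, Finset.mem_filter, Finset.mem_univ, true_and]
      constructor
      · rintro ⟨⟨hc, hn⟩, hec⟩
        exact ⟨⟨hc, fun e' => hn (e'.symm ▸ he.2.2), hec.2.2.symm⟩, hn⟩
      · rintro ⟨hce, hn⟩
        exact ⟨⟨hce.1, hn⟩, he.1, Ne.symm hce.2.1, hce.2.2.symm⟩),
    Finset.sum_const, Finset.sum_const, hX, smul_eq_mul, smul_eq_mul] at h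
  rw [hA, h]

theorem card_class {d : G} (hd : d ∈ D) : D.ncard = 694 + {c | c ∈ D ∧ ¬ Commute d c}.ncard := by
  obtain ⟨π, C⟩ := ctx.exists_chart hd
  have h1 : D = insert d (Nb D d ∪ {c | c ∈ D ∧ ¬ Commute d c}) := by
    ext y
    constructor
    · intro hy
      by_cases hyd : y = d
      · exact Or.inl hyd
      by_cases hc : Commute d y
      · exact Or.inr (Or.inl ⟨hy, hyd, hc⟩)
      · exact Or.inr (Or.inr ⟨hy, hc⟩)
    · rintro (rfl | h | h)
      · exact hd
      · exact h.1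
      · exact h.1
  have hdisj : Disjoint (Nb D d) {c | c ∈ D ∧ ¬ Commute d c} :=
    Set.disjoint_left.2 fun y h h' => h'.2 h.2.2
  have hnm : d ∉ Nb D d ∪ {c | c ∈ D ∧ ¬ Commute d c} := by
    rintro (h | h)
    · exact h.2.1 rfl
    · exact h.2 (Commute.refl d)
  have := congrArg Set.ncard h1
  rw [Set.ncard_insert_of_notMem hnm (Set.toFinite _),
    Set.ncard_union_eq hdisj (Set.toFinite _) (Set.toFinite _), C.card_nb] at this
  omega

theorem card_adj_common {d e : G} (hd : d ∈ D) (he : e ∈ Nb D d) : (Nb D d ∩ Nb D e).ncard = 180 := by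
  obtain ⟨π, C⟩ := ctx.exists_chart hd
  have h1 : {y | y ∈ Nb D d ∧ Commute e y} = insert e (Nb D d ∩ Nb D e) := by
    ext y
    constructor
    · rintro ⟨hy, hc⟩
      by_cases hye : y = e
      · exact Or.inl hye
      · exact Or.inr ⟨hy, hy.1, hye, hc⟩
    · rintro (rfl | h)
      · exact ⟨he, Commute.refl _⟩
      · exact ⟨h.1, h.2.2.2⟩
  have := C.card_comm he
  rw [h1, Set.ncard_insert_of_notMem (fun h => h.2.2.1 rfl) (Set.toFinite _)] at this
  omega

omit ctx in
/-- The discriminant of the eigenvalues. -/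
def discr (μ : ℕ) : ℕ := μ * μ + 35172 - 364 * μ

/-- The discriminant of the eigenvalues is a square, as one multiplicity is an integer. -/
theorem isSquare_discr {d c₀ : G} (hd : d ∈ D) (hc₀ : c₀ ∈ D) (hn : ¬ Commute d c₀)
    (hev : Even {c | c ∈ D ∧ ¬ Commute d c}.ncard) (hμ : (Nb D d ∩ Nb D c₀).ncard < 421) :
    IsSquare (discr (Nb D d ∩ Nb D c₀).ncard) := by
  classical
  letI : Fintype D := Fintype.ofFinite D
  set μ := (Nb D d ∩ Nb D c₀).ncard with hμdef
  set n := {c | c ∈ D ∧ ¬ Commute d c}.ncard with hndef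
  let A : Matrix D D ℚ := Matrix.of fun i j => if (j : G) ∈ Nb D i then 1 else 0
  have hAA : ∀ i j : D, (A * A) i j = ((Nb D (i : G) ∩ Nb D j).ncard : ℚ) := by
    intro i j
    rw [Matrix.mul_apply]
    have e1 : ∀ k : D, A i k * A k j = if (k : G) ∈ Nb D i ∩ Nb D j then 1 else 0 := by
      intro k
      have e2 : (j : G) ∈ Nb D k ↔ (k : G) ∈ Nb D j := ⟨ctx.nb_symm k.2, ctx.nb_symm j.2⟩
      by_cases h1 : (k : G) ∈ Nb D i <;> by_cases h2 : (k : G) ∈ Nb D j <;> simp [A, h1, h2, e2]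
    rw [Finset.sum_congr rfl fun k _ => e1 k, Finset.sum_boole, Nat.cast_inj]
    conv_rhs => rw [show Nb D (i : G) ∩ Nb D j =
        Subtype.val '' (↑(Finset.univ.filter fun k : D => (k : G) ∈ Nb D i ∩ Nb D j) : Set D) by
      ext y
      simp only [Finset.coe_filter, Finset.mem_univ, true_and, Set.mem_image, Set.mem_setOf_eq]
      exact ⟨fun h => ⟨⟨y, h.1.1⟩, h, rfl⟩, fun ⟨k, hk, e⟩ => e ▸ hk⟩,
      Set.ncard_image_of_injective _ Subtype.val_injective, Set.ncard_coe_finset]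
  let a : ℚ := 180 - (μ : ℚ)
  let Δ : ℚ := a * a + 4 * (693 - (μ : ℚ))
  have hμq : (μ : ℚ) < 421 := by exact_mod_cast hμ
  have hΔ : Δ ≠ 0 := by
    have : 0 < Δ := add_pos_of_nonneg_of_pos (mul_self_nonneg a) (by linarith)
    exact this.ne'
  let M : Matrix D D ℚ := (2 : ℚ) • A - a • 1
  let u : D → ℚ := fun _ => 4 * (μ : ℚ) / Δ
  let v : D → ℚ := fun _ => 1
  have hM : M * M = Δ • (1 + Matrix.replicateCol Unit u * Matrix.replicateRow Unit v) := by
    have e : M * M = (4 : ℚ) • (A * A) - (4 * a) • A + (a * a) • (1 : Matrix D D ℚ) := by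
      simp only [M, sub_mul, mul_sub, smul_mul_assoc, mul_smul_comm, one_mul, mul_one, smul_smul]
      module
    rw [e]
    ext i j
    have eJ : (Matrix.replicateCol Unit u * Matrix.replicateRow Unit v) i j = 4 * (μ : ℚ) / Δ := by
      rw [Matrix.mul_apply, Fintype.sum_unique, Matrix.replicateCol_apply, Matrix.replicateRow_apply]
      simp only [u, v, mul_one]
    simp only [Matrix.add_apply, Matrix.sub_apply, Matrix.smul_apply, smul_eq_mul, hAA, eJ]
    rw [mul_add, mul_div_cancel₀ _ hΔ]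
    by_cases hij : i = j
    · subst hij
      have hnb : (Nb D (i : G)).ncard = 693 := by
        obtain ⟨π, C⟩ := ctx.exists_chart i.2
        exact C.card_nb
      rw [Set.inter_self, hnb, Matrix.one_apply_eq, show A i i = 0 from if_neg fun h => h.2.1 rfl]
      simp only [Δ]
      push_cast
      ring
    rw [Matrix.one_apply_ne hij]
    by_cases hc : Commute (i : G) j
    · have hj : (j : G) ∈ Nb D i := ⟨j.2, fun e => hij (Subtype.ext e.symm), hc⟩
      rw [card_adj_common ctx i.2 hj, show A i j = 1 from if_pos hj]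
      simp only [a]
      push_cast
      ring
    · rw [card_common_const ctx i.2 j.2 hd hc₀ hc hn, show A i j = 0 from if_neg fun h => hc h.2.2]
      rw [← hμdef]
      ring
  have hcard : Fintype.card D = 694 + n := by
    rw [← Nat.card_eq_fintype_card, Nat.card_coe_set_eq, card_class ctx hd]
  obtain ⟨m, hm⟩ : ∃ m, Fintype.card D = 2 * m + 2 := by
    obtain ⟨l, hl⟩ := hev
    exact ⟨346 + l, by omega⟩
  have hdot : v ⬝ᵥ u = (Fintype.card D : ℚ) * (4 * (μ : ℚ) / Δ) := by
    simp [dotProduct, u, v]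
  have hnμ : (n : ℚ) * μ = 354816 := by exact_mod_cast double_count ctx hd hc₀ hn
  have hcQ : (Fintype.card D : ℚ) = 694 + (n : ℚ) := by exact_mod_cast hcard
  have hkey : Δ * (1 + v ⬝ᵥ u) = (1206 + (μ : ℚ)) ^ 2 := by
    rw [hdot, mul_add, mul_one, mul_left_comm, mul_div_cancel₀ _ hΔ, hcQ]
    simp only [Δ, a]
    linear_combination 4 * hnμ
  have hdet : M.det * M.det = (Δ ^ m * (1206 + (μ : ℚ))) ^ 2 * Δ := by
    rw [← Matrix.det_mul, hM, Matrix.det_smul, Matrix.det_one_add_replicateCol_mul_replicateRow, hm]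
    rw [show Δ ^ (2 * m + 2) * (1 + v ⬝ᵥ u) = Δ ^ (2 * m + 1) * (Δ * (1 + v ⬝ᵥ u)) by ring, hkey]
    ring
  have hne : Δ ^ m * (1206 + (μ : ℚ)) ≠ 0 := by positivity
  have hsq : IsSquare Δ := ⟨M.det / (Δ ^ m * (1206 + (μ : ℚ))), by
    rw [div_mul_div_comm, hdet, pow_two, mul_comm _ Δ, mul_div_assoc, div_self (mul_ne_zero hne hne), mul_one]⟩
  rw [← Rat.isSquare_natCast_iff]
  have hle : 364 * μ ≤ μ * μ + 35172 := by
    have := mul_self_nonneg ((μ : ℤ) - 182)
    have : 364 * (μ : ℤ) ≤ (μ : ℤ) * μ + 35172 := by nlinarith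
    exact_mod_cast this
  have hcast : ((discr μ : ℕ) : ℚ) = Δ := by
    rw [discr, Nat.cast_sub hle]
    simp only [Δ, a]
    push_cast
    ring
  rwa [hcast]

omit ctx in
theorem possible_ok : CosetCert.allBelow (fun μ => !Nat.beq (354816 % μ) 0 ||
    (Nat.beq ((354816 / μ) % 2) 0 && (!((List.range 700).any fun s => Nat.beq (s * s) (discr μ)) ||
      !Nat.beq ((354816 / μ) % 3) 0))) 421 = true := by
  decide +kernel

/-- The number of members not commuting with a member is not divisible by three. -/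
theorem noncomm_not_dvd {d : G} (hd : d ∈ D) : ¬ 3 ∣ {c | c ∈ D ∧ ¬ Commute d c}.ncard := by
  have hn := noncomm_large ctx hd
  obtain ⟨c, hc, hdc⟩ := Set.nonempty_of_ncard_ne_zero
    (show {c | c ∈ D ∧ ¬ Commute d c}.ncard ≠ 0 by omega)
  have hmul := double_count ctx hd hc hdc
  have hbig := common_big ctx hd hc hdc
  set n := {c | c ∈ D ∧ ¬ Commute d c}.ncard with hndef
  set μ := (Nb D d ∩ Nb D c).ncard with hμdef
  have hμ : μ < 421 := by nlinarith
  have h := CosetCert.of_allBelow possible_ok μ hμ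
  have hdiv : 354816 / μ = n := by rw [← hmul, Nat.mul_div_cancel _ (by omega)]
  have hmod : 354816 % μ = 0 := by rw [← hmul, Nat.mul_mod_left]
  rw [hmod, hdiv, Nat.beq_refl, Bool.not_true, Bool.false_or, Bool.and_eq_true] at h
  have hev : Even n := Nat.even_iff.2 (Nat.eq_of_beq_eq_true h.1)
  obtain ⟨s, hs⟩ := isSquare_discr ctx hd hc hdc hev hμ
  have hs700 : s < 700 := by
    have h1 : discr μ < 700 * 700 := by
      unfold discr
      have : μ * μ ≤ 420 * 420 := Nat.mul_le_mul (by omega) (by omega)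
      omega
    rw [← hμdef] at hs
    nlinarith
  have h2 := h.2
  rw [show ((List.range 700).any fun t => Nat.beq (t * t) (discr μ)) = true from
    List.any_eq_true.2 ⟨s, List.mem_range.2 hs700, by rw [← hμdef] at hs; rw [← hs, Nat.beq_refl]⟩,
    Bool.not_true, Bool.false_or, Bool.not_eq_true'] at h2
  intro h3
  rw [Nat.mod_eq_zero_of_dvd h3, Nat.beq_refl] at h2
  exact Bool.noConfusion h2

/-- The centraliser of a pair that does not commute has order divisible by the 3-part of the order of `PSU₆(2)`. -/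
theorem dvd_pair {d c : G} (hd : d ∈ D) (hc : c ∈ D) (hdc : ¬ Commute d c) :
    3 ^ 6 ∣ Nat.card ↥(Subgroup.centralizer ({d} : Set G) ⊓ Subgroup.centralizer ({c} : Set G)) := by
  classical
  set H := Subgroup.centralizer ({d} : Set G) with hH
  obtain ⟨π, C⟩ := ctx.exists_chart hd
  let φ : H →* P := MonoidHom.mk' (fun k => π k) fun k l => C.mul (mem_cent.1 k.2) (mem_cent.1 l.2)
  have hφ : Function.Surjective φ := fun q => by
    obtain ⟨k, hk, e⟩ := C.onto q
    exact ⟨⟨k, mem_cent.2 hk⟩, e⟩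
  have h1 : 3 ^ 6 ∣ Nat.card H := Nat.dvd_trans
    (by rw [CosetCert.FiP.card_PSU6]; norm_num) (Subgroup.card_dvd_of_surjective φ hφ)
  letI : MulAction H G := MulAction.compHom G (ConjAct.toConjAct.toMonoidHom.comp H.subtype)
  have hsmul : ∀ (k : H) (y : G), k • y = (k : G) * y * (k : G)⁻¹ := fun _ _ => rfl
  have horb : MulAction.orbit H c = {x | x ∈ D ∧ ¬ Commute d x} := by
    ext x
    constructor
    · rintro ⟨k, rfl⟩
      show k • c ∈ _
      rw [hsmul]
      refine ⟨ctx.conj _ c hc, fun h => hdc ?_⟩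
      have e : (k : G) * d * (k : G)⁻¹ = d := by rw [(mem_cent.1 k.2).eq, mul_inv_cancel_right]
      exact (Commute.conj_iff (k : G)).1 (by rw [e]; exact h)
    · rintro ⟨hx, hdx⟩
      obtain ⟨g, hg, rfl⟩ := exists_conj_pair ctx hd hc hx hdc hdx
      exact ⟨⟨g, mem_cent.2 hg⟩, hsmul _ _⟩
  have hst : (MulAction.stabilizer H c).map H.subtype = H ⊓ Subgroup.centralizer ({c} : Set G) := by
    ext x
    rw [Subgroup.mem_map, Subgroup.mem_inf]
    constructor
    · rintro ⟨k, hk, rfl⟩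
      rw [MulAction.mem_stabilizer_iff, hsmul] at hk
      exact ⟨k.2, mem_cent.2 (commute_of_conj_eq hk)⟩
    · rintro ⟨hx1, hx2⟩
      refine ⟨⟨x, hx1⟩, ?_, rfl⟩
      rw [MulAction.mem_stabilizer_iff, hsmul]
      show x * c * x⁻¹ = c
      rw [(mem_cent.1 hx2).eq, mul_inv_cancel_right]
  have hcard := Nat.card_congr (MulAction.orbitProdStabilizerEquivGroup H c)
  rw [Nat.card_prod, Nat.card_coe_set_eq, horb,
    ← Subgroup.card_map_of_injective (K := MulAction.stabilizer H c) H.subtype_injective, hst] at hcard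
  rw [← hcard] at h1
  exact (Nat.Coprime.pow_left 6 ((Nat.prime_three.coprime_iff_not_dvd).2 (noncomm_not_dvd ctx hd))).dvd_of_dvd_mul_left
    h1

/-- Some pair has centraliser covering the diagonal subgroup. -/
theorem exists_invariant {d : G} (hd : d ∈ D) {π : G → P} (C : Chart D d π) :
    ∃ c ∈ D, ¬ Commute d c ∧ ∀ u ∈ E0, ∃ h, Commute h d ∧ Commute h c ∧ π h = u := by
  have hn := noncomm_large ctx hd
  obtain ⟨c, hc, hdc⟩ := Set.nonempty_of_ncard_ne_zero
    (show {c | c ∈ D ∧ ¬ Commute d c}.ncard ≠ 0 by omega)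
  set K := Subgroup.centralizer ({d} : Set G) ⊓ Subgroup.centralizer ({c} : Set G) with hKdef
  have hK : ∀ k ∈ K, Commute k d ∧ Commute k c := fun k hk => ⟨mem_cent.1 hk.1, mem_cent.1 hk.2⟩
  let φ : K →* P := MonoidHom.mk' (fun k => π k) fun k l => C.mul (hK k k.2).1 (hK l l.2).1
  have hφ : Function.Injective φ := by
    rw [← MonoidHom.ker_eq_bot_iff, eq_bot_iff]
    intro k hk
    rw [Subgroup.mem_bot]
    rcases (C.ker (hK k k.2).1).1 hk with e | e
    · exact Subtype.ext e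
    · exact absurd (e ▸ (hK k k.2).2) hdc
  have : Fact (Nat.Prime 3) := ⟨Nat.prime_three⟩
  have hcard : 3 ^ 6 ∣ Nat.card φ.range := by
    rw [← Nat.card_congr (MonoidHom.ofInjective hφ).toEquiv]
    exact dvd_pair ctx hd hc hdc
  obtain ⟨Q, hQ⟩ := Sylow.exists_subgroup_card_pow_prime 3 hcard
  have hQP : Nat.card (Q.map φ.range.subtype) = 3 ^ (Nat.card P).factorization 3 := by
    rw [Subgroup.card_map_of_injective φ.range.subtype_injective, hQ, CosetCert.FiP.card_PSU6,
      show (9196830720 : ℕ) = 3 ^ 6 * 12615680 by norm_num,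
      Nat.factorization_mul (by norm_num) (by norm_num), Finsupp.add_apply, Nat.factorization_pow,
      Finsupp.smul_apply, Nat.prime_three.factorization_self,
      Nat.factorization_eq_zero_of_not_dvd (by norm_num : ¬ 3 ∣ 12615680)]
    norm_num
  let S₁ : Sylow 3 P := Sylow.ofCard (Q.map φ.range.subtype) hQP
  obtain ⟨S₀, hS₀⟩ := MTwentyTwo.E0_pGroup.exists_le_sylow
  obtain ⟨k, hk⟩ := MulAction.exists_smul_eq P S₀ S₁
  obtain ⟨g, hg, rfl⟩ := C.onto k
  refine ⟨g⁻¹ * c * g, by simpa using ctx.conj g⁻¹ c hc, fun h => hdc ?_, fun u hu => ?_⟩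
  · have := (Commute.conj_iff g).2 h
    rwa [hg.eq, mul_inv_cancel_right, show g * (g⁻¹ * c * g) * g⁻¹ = c by group] at this
  · have h1 : π g * u * (π g)⁻¹ ∈ φ.range := by
      have h1 : π g * u * (π g)⁻¹ ∈ (π g • S₀ : Sylow 3 P) := by
        show π g * u * (π g)⁻¹ ∈ ((π g • S₀ : Sylow 3 P) : Subgroup P)
        rw [Sylow.coe_subgroup_smul]
        exact ⟨u, hS₀ hu, rfl⟩
      rw [hk] at h1
      exact Subgroup.map_subtype_le Q h1
    obtain ⟨l, hl⟩ := h1
    obtain ⟨hl1, hl2⟩ := hK l l.2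
    refine ⟨g⁻¹ * l * g, (hg.inv_left.mul_left hl1).mul_left hg, ?_, ?_⟩
    · have := (Commute.conj_iff g⁻¹).2 hl2
      rwa [inv_inv] at this
    · rw [C.mul (hg.inv_left.mul_left hl1) hg, C.mul hg.inv_left hl1, C.map_inv hg,
        show π (l : G) = π g * u * (π g)⁻¹ from hl]
      group

omit ctx in
theorem five_ok : CosetCert.allBelow (fun i => CosetCert.allBelow (fun j => Nat.beq i j ||
    Nat.beq (tripleMask (Nat.xor (code i) (code j))) 0) 22) 22 = true := by
  decide +kernel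

omit ctx in
/-- Five distinct members of the clique are independent. -/
theorem five_ne {i j k l m : ℕ} (hi : i < 22) (hj : j < 22) (hk : k < 22) (hl : l < 22) (hm : m < 22) (hij : i ≠ j)
    (hkl : k ≠ l) (hkm : k ≠ m) (hlm : l ≠ m) : codeSum [i, j, k, l, m] ≠ 0 := by
  intro e
  have h := CosetCert.of_allBelow (CosetCert.of_allBelow five_ok i hi) j hj
  rw [Bool.eq_false_iff.2 fun h => hij (Nat.eq_of_beq_eq_true h), Bool.false_or] at h
  have h0 : tripleMask (code i ^^^ code j) = 0 := Nat.eq_of_beq_eq_true h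
  simp only [codeSum, List.foldr_cons, List.foldr_nil] at e
  change code i ^^^ (code j ^^^ (code k ^^^ (code l ^^^ (code m ^^^ 0)))) = 0 at e
  rw [Nat.xor_zero, ← Nat.xor_assoc, Nat.xor_eq_zero_iff] at e
  have := triple_mem hk hl hm hkl hkm hlm
  rw [← e, h0, Nat.zero_testBit] at this
  exact Bool.noConfusion this

/-- The coordinates of the common neighbours. -/
def cset (D : Set G) (π : G → P) (d c : G) : Set Vec := {v | v ∈ pts ∧ ∃ x ∈ Nb D d ∩ Nb D c, π x = tp v}

theorem ncard_cset {d c : G} {π : G → P} (C : Chart D d π) : (cset D π d c).ncard = (Nb D d ∩ Nb D c).ncard := by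
  rw [← Set.InjOn.ncard_image fun a (ha : a ∈ cset D π d c) b hb => MTwentyTwo.tp_inj ha.1 hb.1,
    ← Set.InjOn.ncard_image (s := Nb D d ∩ Nb D c) fun a ha b hb => C.inj ha.1 hb.1]
  congr 1
  ext z
  constructor
  · rintro ⟨v, ⟨hv, x, hx, e⟩, rfl⟩
    exact ⟨x, hx, e⟩
  · rintro ⟨x, hx, rfl⟩
    obtain ⟨v, hv, e⟩ := C.exists_point hx.1
    exact ⟨v, ⟨hv, x, hx, e⟩, e.symm⟩

/-- No three common neighbours lie on a line. -/
theorem no_line {d c : G} (hd : d ∈ D) (hcD : c ∈ D) (hdc : ¬ Commute d c) {π : G → P} (C : Chart D d π) {p q : Vec}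
    {a : MTwentyTwo.K} (ha : a ≠ 0) (hpq : p ≠ q) (ho : MTwentyTwo.orth p q = true) (hp : p ∈ cset D π d c)
    (hq : q ∈ cset D π d c) : MTwentyTwo.comb p a q ∉ cset D π d c := by
  classical
  intro hr
  obtain ⟨hp', x, hx, hxp⟩ := hp
  obtain ⟨hq', y, hy, hyq⟩ := hq
  obtain ⟨hr', z, hz, hzr⟩ := hr
  obtain ⟨-, hrp, hrq, hrperp⟩ := MTwentyTwo.comb_spec hp' hq' hpq ho ha
  set r := MTwentyTwo.comb p a q
  obtain ⟨Y, hnd, hlen, hY, hYc, hprod, -⟩ := MTwentyTwo.lineFacts_TP.five _ (MTwentyTwo.mem_TP hp') _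
    (MTwentyTwo.mem_TP hq') (fun h => hpq (MTwentyTwo.tp_inj hp' hq' h)) ((MTwentyTwo.tp_commute_iff hp' hq').2 ho)
  have hzY : tp r ∈ Y := by
    refine (hY _).2 ⟨MTwentyTwo.mem_TP hr', fun h => hrp (MTwentyTwo.tp_inj hr' hp' h),
      fun h => hrq (MTwentyTwo.tp_inj hr' hq' h),
      (MTwentyTwo.tp_commute_iff hp' hr').2 (MTwentyTwo.orth_symm (hrperp p (MTwentyTwo.orth_self hp')
        (MTwentyTwo.orth_symm ho))),
      (MTwentyTwo.tp_commute_iff hq' hr').2 (MTwentyTwo.orth_symm (hrperp q ho (MTwentyTwo.orth_self hq'))), ?_⟩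
    rintro _ ⟨v, hv, rfl⟩ h1 h2
    exact (MTwentyTwo.tp_commute_iff hr' hv).2 (hrperp v ((MTwentyTwo.tp_commute_iff hp' hv).1 h1)
      ((MTwentyTwo.tp_commute_iff hq' hv).1 h2))
  obtain ⟨s, t, hY'⟩ : ∃ s t, Y.Perm [tp r, s, t] := by
    have h2 := List.perm_cons_erase hzY
    have hl : (Y.erase (tp r)).length = 2 := by rw [List.length_erase_of_mem hzY, hlen]
    obtain ⟨s, t, hst⟩ := List.length_eq_two.1 hl
    exact ⟨s, t, hst ▸ h2⟩
  have hmem : ∀ u ∈ [tp r, s, t], u ∈ Y := fun u hu => hY'.mem_iff.2 hu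
  have hnd' := hY'.nodup_iff.1 hnd
  simp only [List.nodup_cons, List.mem_cons, List.not_mem_nil, or_false, not_or, List.nodup_nil,
    and_true, not_false_eq_true] at hnd'
  obtain ⟨⟨nzs, nzt⟩, nst⟩ := hnd'
  obtain ⟨hsT, hs1, hs2, hs3, hs4, -⟩ := (hY s).1 (hmem s (by simp))
  obtain ⟨htT, ht1, ht2, ht3, ht4, -⟩ := (hY t).1 (hmem t (by simp))
  obtain ⟨S, hS, rfl⟩ := C.surj hsT
  obtain ⟨T, hT, rfl⟩ := C.surj htT
  rw [← hxp] at hs1 hs3 ht1 ht3
  rw [← hyq] at hs2 hs4 ht2 ht4
  have hxy : Commute x y := (C.comm hx.1 hy.1).1 (by rw [hxp, hyq]; exact (MTwentyTwo.tp_commute_iff hp' hq').2 ho)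
  have hxz : Commute x z := (C.comm hx.1 hz.1).1 (by
    rw [hxp, hzr]; exact (hY _).1 hzY |>.2.2.2.1)
  have hyz : Commute y z := (C.comm hy.1 hz.1).1 (by
    rw [hyq, hzr]; exact (hY _).1 hzY |>.2.2.2.2.1)
  have hxS := (C.comm hx.1 hS).1 hs3
  have hxT := (C.comm hx.1 hT).1 ht3
  have hyS := (C.comm hy.1 hS).1 hs4
  have hyT := (C.comm hy.1 hT).1 ht4
  have hzS : Commute z S := (C.comm hz.1 hS).1 (by rw [hzr]; exact hYc _ hzY _ (hmem _ (by simp)))
  have hzT : Commute z T := (C.comm hz.1 hT).1 (by rw [hzr]; exact hYc _ hzY _ (hmem _ (by simp)))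
  have hST : Commute S T := (C.comm hS hT).1 (hYc _ (hmem _ (by simp)) _ (hmem _ (by simp)))
  have hprod' : π x * π y * (π z * π S * π T) = 1 := by
    have hp3 : Y.prod = tp r * π S * π T := by
      rw [hY'.prod_eq' (List.pairwise_of_forall_mem_list fun u hu v hv => hYc u hu v hv)]
      simp [mul_assoc]
    rw [hxp, hyq, hzr, ← hp3]
    exact hprod
  have cx := hx.1.2.2.symm
  have cy := hy.1.2.2.symm
  have cz := hz.1.2.2.symm
  have cS := hS.2.2.symm
  have cT := hT.2.2.symm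
  have hk := (C.ker ((cx.mul_left cy).mul_left ((cz.mul_left cS).mul_left cT))).1 (by
    rw [C.mul (cx.mul_left cy) ((cz.mul_left cS).mul_left cT), C.mul cx cy, C.mul (cz.mul_left cS) cT, C.mul cz cS]
    exact hprod')
  rcases hk with hk | hk
  · obtain ⟨κ, -, hκ, hinj, hprodκ⟩ := exists_numbering ctx hd (U := {x, y, z, S, T}) (by
      rintro w (rfl | rfl | rfl | rfl | rfl)
      exacts [Or.inr hx.1, Or.inr hy.1, Or.inr hz.1, Or.inr hS, Or.inr hT]) (by
      rintro w (rfl | rfl | rfl | rfl | rfl) w' (rfl | rfl | rfl | rfl | rfl)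
      all_goals
        first
          | exact Commute.refl _
          | assumption
          | exact hxy.symm | exact hxz.symm | exact hyz.symm | exact hxS.symm | exact hxT.symm
          | exact hyS.symm | exact hyT.symm | exact hzS.symm | exact hzT.symm | exact hST.symm)
    have mx : x ∈ insert d ({x, y, z, S, T} : Set G) := by simp
    have my : y ∈ insert d ({x, y, z, S, T} : Set G) := by simp
    have mz : z ∈ insert d ({x, y, z, S, T} : Set G) := by simp
    have mS : S ∈ insert d ({x, y, z, S, T} : Set G) := by simp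
    have mT : T ∈ insert d ({x, y, z, S, T} : Set G) := by simp
    refine five_ne (hκ x mx) (hκ y my) (hκ z mz) (hκ S mS) (hκ T mT)
      (fun e => hpq (MTwentyTwo.tp_inj hp' hq' (by rw [← hxp, ← hyq, hinj mx my e])))
      (fun e => nzs (by rw [← hzr, hinj mz mS e])) (fun e => nzt (by rw [← hzr, hinj mz mT e]))
      (fun e => nst (by rw [hinj mS mT e])) ?_
    refine (hprodκ [x, y, z, S, T] (by simp)).1 ?_
    simpa [mul_assoc] using hk
  · -- `c` commutes with the product of `d`, `S` and `T`, seen at `x`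
    have hdST : x * y * z = d * S * T := by
      calc x * y * z = x * y * (z * S * T) * (T * S) := by
            rw [show x * y * (z * S * T) * (T * S) = x * y * (z * S * (T * T) * S) by group,
              ctx.sq hT.1, mul_one, mul_assoc z, ctx.sq hS.1, mul_one]
        _ = d * S * T := by rw [hk, hST.symm.eq, mul_assoc]
    have hc : Commute c (d * S * T) := hdST ▸ (hx.2.2.2.mul_right hy.2.2.2).mul_right hz.2.2.2
    obtain ⟨ρ, R⟩ := ctx.exists_chart hx.1.1
    have hnd : d ∈ Nb D x := ctx.nb_symm hd hx.1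
    have hnc : c ∈ Nb D x := ⟨hcD, Ne.symm hx.2.2.1, hx.2.2.2.symm⟩
    have hnS : S ∈ Nb D x := ⟨hS.1, fun e => hs1 (by rw [e]), hxS⟩
    have hnT : T ∈ Nb D x := ⟨hT.1, fun e => ht1 (by rw [e]), hxT⟩
    have cd := hnd.2.2.symm
    have cc := hnc.2.2.symm
    have cS' := hnS.2.2.symm
    have cT' := hnT.2.2.symm
    have hdS : Commute d S := hS.2.2
    have hdT : Commute d T := hT.2.2
    have mem := fun {w : G} (hw : w ∈ Nb D x) => R.mem hw
    have com := fun {w w' : G} (hw : w ∈ Nb D x) (hw' : w' ∈ Nb D x) => R.comm hw hw'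
    have ncd : ¬ Commute (ρ c) (ρ d) := fun h => hdc ((com hnc hnd).1 h).symm
    by_cases hcS : Commute c S <;> by_cases hcT : Commute c T
    · refine hdc (Commute.symm ?_)
      have := (hc.mul_right hcT.inv_right).mul_right hcS.inv_right
      rwa [show d * S * T * T⁻¹ * S⁻¹ = d by group] at this
    · refine fix_two (mem hnd) (mem hnT) (mem hnc) ((com hnd hnT).2 hdT)
        (fun e => hT.2.1 (R.inj hnd hnT e).symm) ncd ?_
      have h2 : Commute c (d * T) := by
        have := hcS.inv_right.mul_right hc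
        rwa [show S⁻¹ * (d * S * T) = d * T by rw [hdS.eq]; group] at this
      show ρ d * ρ T * ρ c = ρ c * (ρ d * ρ T)
      rw [← R.mul cd cT', ← R.mul (cd.mul_left cT') cc, ← R.mul cc (cd.mul_left cT'), h2.eq]
    · refine fix_two (mem hnd) (mem hnS) (mem hnc) ((com hnd hnS).2 hdS)
        (fun e => hS.2.1 (R.inj hnd hnS e).symm) ncd ?_
      have h2 : Commute c (d * S) := by
        have := hc.mul_right hcT.inv_right
        rwa [mul_inv_cancel_right] at this
      show ρ d * ρ S * ρ c = ρ c * (ρ d * ρ S)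
      rw [← R.mul cd cS', ← R.mul (cd.mul_left cS') cc, ← R.mul cc (cd.mul_left cS'), h2.eq]
    · refine fix_three (mem hnd) (mem hnS) (mem hnT) (mem hnc) ((com hnd hnS).2 hdS) ((com hnd hnT).2 hdT)
        ((com hnS hnT).2 hST) ncd (fun h => hcS ((com hnc hnS).1 h)) (fun h => hcT ((com hnc hnT).1 h)) ?_
      show ρ d * ρ S * ρ T * ρ c = ρ c * (ρ d * ρ S * ρ T)
      rw [← R.mul cd cS', ← R.mul (cd.mul_left cS') cT', ← R.mul ((cd.mul_left cS').mul_left cT') cc,
        ← R.mul cc ((cd.mul_left cS').mul_left cT'), hc.eq]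

/-- The coordinates of the common neighbours of some pair form a closed invariant set. -/
theorem exists_invSet {d : G} (hd : d ∈ D) {π : G → P} (C : Chart D d π) :
    ∃ c ∈ D, ¬ Commute d c ∧ MTwentyTwo.InvSet (cset D π d c) := by
  obtain ⟨c, hc, hdc, hinv⟩ := exists_invariant ctx hd C
  refine ⟨c, hc, hdc, ⟨fun v hv => hv.1, ?_, ?_, ?_, ?_⟩⟩
  · rintro δ hδ v hv ⟨-, x, hx, e⟩
    obtain ⟨u, hu, hall⟩ := MTwentyTwo.exists_diag hδ
    obtain ⟨h, hhd, hhc, rfl⟩ := hinv u hu
    refine ⟨(hall v hv).1, _, ⟨nb_move ctx hx.1 hhd, nb_move ctx hx.2 hhc⟩, ?_⟩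
    rw [C.map_conj hhd hx.1.2.2.symm, e]
    exact (hall v hv).2
  · rintro p ⟨hp, x, hx, ep⟩ q ⟨hq, y, hy, eq⟩ -
    exact ⟨MTwentyTwo.tmv_mem hp hq, _, ⟨nb_move ctx hy.1 hx.1.2.2.symm, nb_move ctx hy.2 hx.2.2.2.symm⟩,
      by rw [C.map_conj hx.1.2.2.symm hy.1.2.2.symm, ep, eq]; exact MTwentyTwo.tp_conj hp hq⟩
  · exact fun p hp q hq hne ho a ha => no_line ctx hd hc hdc C ha hne ho hp hq
  · rw [ncard_cset ctx C]
    exact common_big ctx hd hc hdc

end CfsgLib.Sporadic.U62Centralizer
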