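import Cfsg.Agent.Lib.Schur.PSUSixTwo.Main
import Cfsg.Agent.Lib.Schur.StemFiber

/-!
# The perfect double covers of `PSU₆(2)`

Each is isomorphic to the centraliser of a transposition in Fi22: the three double covers inside the
universal one are permuted by the diagonal automorphism.
-/

set_option autoImplicit false
set_option linter.unusedSectionVars false

namespace CfsgLib.Sporadic.U62Centralizer

open CfsgLib.Sporadic.CosetCert CfsgLib.Sporadic.CosetCert.FiP CfsgLib.Schur.PSUSixTwo
open scoped commutatorElement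

attribute [local irreducible] vecPt ptVec matU pointOf rowU

/-- A group generated by its commutator subgroup and a central subgroup inside it is perfect. -/
theorem perfect_of_stem {X Q : Type*} [Group X] [Group Q] (σ : X →* Q) (hσ : Cfsg.IsStemExtension σ)
    (hQ : commutator Q = ⊤) : commutator X = ⊤ := by
  rw [eq_top_iff]
  intro x _
  have h : σ x ∈ (commutator X).map σ := by
    rw [_root_.commutator_def, Subgroup.map_commutator, ← MonoidHom.range_eq_map,
      MonoidHom.range_eq_top.2 hσ.1, ← _root_.commutator_def, hQ]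
    exact Subgroup.mem_top _
  obtain ⟨c, hc, e⟩ := h
  have hk : c⁻¹ * x ∈ σ.ker := by rw [MonoidHom.mem_ker, map_mul, map_inv, e, inv_mul_cancel]
  have := mul_mem hc (hσ.2.2 hk)
  rwa [mul_inv_cancel_left] at this

/-- Two maps of a perfect group agreeing modulo the centre are equal. -/
theorem hom_ext_of_perfect {X H Q : Type*} [Group X] [Group H] [Group Q] (hX : commutator X = ⊤)
    (π : H →* Q) (hπ : π.ker ≤ Subgroup.center H) (f g : X →* H) (h : π.comp f = π.comp g) : f = g := by
  have hc : ∀ x, (f x)⁻¹ * g x ∈ Subgroup.center H := fun x => hπ (by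
    rw [MonoidHom.mem_ker, map_mul, map_inv, ← MonoidHom.comp_apply, h, MonoidHom.comp_apply, inv_mul_cancel])
  let χ : X →* Subgroup.center H :=
    { toFun := fun x => ⟨(f x)⁻¹ * g x, hc x⟩
      map_one' := Subtype.ext (by simp)
      map_mul' := fun x y => Subtype.ext (by
        have h1 := Subgroup.mem_center_iff.1 (hc x) ((f y)⁻¹)
        show (f (x * y))⁻¹ * g (x * y) = (f x)⁻¹ * g x * ((f y)⁻¹ * g y)
        rw [map_mul, map_mul, mul_inv_rev]
        calc (f y)⁻¹ * (f x)⁻¹ * (g x * g y) = (f y)⁻¹ * ((f x)⁻¹ * g x) * g y := by group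
          _ = (f x)⁻¹ * g x * (f y)⁻¹ * g y := by rw [h1]
          _ = _ := by group) }
  ext x
  have hx : x ∈ χ.ker := by
    have : commutator X ≤ χ.ker := by
      rw [_root_.commutator_def, Subgroup.commutator_le]
      intro a _ b _
      rw [MonoidHom.mem_ker, map_commutatorElement, commutatorElement_eq_one_iff_mul_comm]
      exact Subtype.ext (Subgroup.mem_center_iff.1 (χ b).2 _)
    exact this (hX ▸ Subgroup.mem_top x)
  exact inv_mul_eq_one.1 (congrArg Subtype.val (MonoidHom.mem_ker.1 hx))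

theorem commutator_G : commutator G = ⊤ := by
  have := congrArg (Subgroup.map (QuotientGroup.mk' (Subgroup.center SU6)))
    (_root_.commutator_def SU6 ▸ commutator_SU6)
  rw [Subgroup.map_commutator, ← MonoidHom.range_eq_map,
    MonoidHom.range_eq_top.2 (QuotientGroup.mk'_surjective _)] at this
  exact this

theorem commutator_Gam : commutator Gam = ⊤ := perfect_of_stem sigma isStem commutator_G

/-- The universal cover maps onto every perfect central extension. -/
theorem exists_from_Gam {X : Type} [Group X] [Finite X] (hX : commutator X = ⊤) (π : X →* G)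
    (hπ : Function.Surjective π) (hc : π.ker ≤ Subgroup.center X) :
    ∃ f : Gam →* X, Function.Surjective f ∧ π.comp f = sigma := by
  haveI := finite_G
  haveI := finite_gam
  let F := Schur.StemFiber.fib sigma π
  let Y : Subgroup F := commutator F
  let τ : Y →* G := (Schur.StemFiber.proj sigma π).comp Y.subtype
  have hp : Function.Surjective (Schur.StemFiber.proj sigma π) := fun q => by
    obtain ⟨a, rfl⟩ := sigma_surjective q
    obtain ⟨b, hb⟩ := hπ (sigma a)
    exact ⟨⟨(a, b), hb.symm⟩, rfl⟩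
  have hYs : Function.Surjective τ := fun q => by
    have : q ∈ Y.map (Schur.StemFiber.proj sigma π) := by
      show q ∈ Subgroup.map _ (commutator F)
      rw [_root_.commutator_def, Subgroup.map_commutator, ← MonoidHom.range_eq_map,
        MonoidHom.range_eq_top.2 hp, ← _root_.commutator_def, commutator_G]
      exact Subgroup.mem_top _
    obtain ⟨y, hy, e⟩ := this
    exact ⟨⟨y, hy⟩, e⟩
  have hkF : (Schur.StemFiber.proj sigma π).ker ≤ Subgroup.center F := fun z hz => by
    obtain ⟨h1, h2⟩ := Schur.StemFiber.mem_ker.1 hz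
    exact Subgroup.mem_center_iff.2 fun g =>
      Subtype.ext (Prod.ext (Subgroup.mem_center_iff.1 (ker_le_center h1) g.1.1)
        (Subgroup.mem_center_iff.1 (hc h2) g.1.2))
  have hYp : commutator Y = ⊤ := by
    have hsup : Y.subtype.range ⊔ Subgroup.center F = ⊤ :=
      Schur.Basic.range_sup_center_eq_top τ hYs (Schur.StemFiber.proj sigma π) hkF Y.subtype rfl
    have h := Schur.Basic.commutator_le_map_of_sup_center Y.subtype hsup
    rw [eq_top_iff]
    intro y _
    obtain ⟨y', hy', e⟩ := h y.2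
    exact (Subtype.ext e : y' = y) ▸ hy'
  have hst : Cfsg.IsStemExtension τ := ⟨hYs, fun z hz => Subgroup.mem_center_iff.2 fun g =>
    Subtype.ext (Subgroup.mem_center_iff.1 (hkF (show (z : F) ∈ _ from hz)) g), fun z _ => hYp ▸ Subgroup.mem_top z⟩
  let p1 : Y →* Gam := ((MonoidHom.fst Gam X).comp F.subtype).comp Y.subtype
  let p2 : Y →* X := ((MonoidHom.snd Gam X).comp F.subtype).comp Y.subtype
  have hs1 : Function.Surjective ((MonoidHom.fst Gam X).comp F.subtype) := fun a => by
    obtain ⟨b, hb⟩ := hπ (sigma a)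
    exact ⟨⟨(a, b), hb.symm⟩, rfl⟩
  have hs2 : Function.Surjective ((MonoidHom.snd Gam X).comp F.subtype) := fun b => by
    obtain ⟨a, ha⟩ := sigma_surjective (π b)
    exact ⟨⟨(a, b), ha⟩, rfl⟩
  have himg : ∀ {Z : Type} [Group Z] (r : F →* Z), Function.Surjective r → commutator Z = ⊤ →
      Function.Surjective (r.comp Y.subtype) := fun r hr hZ z => by
    have : z ∈ Y.map r := by
      show z ∈ Subgroup.map _ (commutator F)
      rw [_root_.commutator_def, Subgroup.map_commutator, ← MonoidHom.range_eq_map,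
        MonoidHom.range_eq_top.2 hr, ← _root_.commutator_def, hZ]
      exact Subgroup.mem_top _
    obtain ⟨y, hy, e⟩ := this
    exact ⟨⟨y, hy⟩, e⟩
  have h1 : Function.Surjective p1 := himg _ hs1 commutator_Gam
  have hcard : Nat.card Y ≤ Nat.card Gam := by
    have e1 := τ.ker.card_mul_index
    have e2 := sigma.ker.card_mul_index
    rw [Subgroup.index_ker, MonoidHom.range_eq_top.2 hYs, Subgroup.card_top] at e1
    rw [Subgroup.index_ker, MonoidHom.range_eq_top.2 sigma_surjective, Subgroup.card_top] at e2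
    rw [← e1, ← e2, Nat.card_congr kerEquiv.toEquiv, card_mult]
    exact Nat.mul_le_mul_right _ (card_ker_bound Y τ hst)
  let e : Y ≃* Gam := MulEquiv.ofBijective p1 (h1.bijective_of_nat_card_le hcard)
  refine ⟨p2.comp e.symm.toMonoidHom, (himg _ hs2 hX).comp e.symm.surjective, MonoidHom.ext fun a => ?_⟩
  obtain ⟨y, rfl⟩ := e.surjective a
  show π (p2 (e.symm (e y))) = sigma (e y)
  rw [e.symm_apply_apply]
  exact (y.1.2 : sigma (y.1.1.1) = π (y.1.1.2)).symm

/-- The first double cover, as a map. -/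
noncomputable def fA : Gam →* grpH := prA.comp Gam.subtype

/-- The second double cover, as a map. -/
noncomputable def fB : Gam →* grpH := prB.comp Gam.subtype

theorem fA_over : toPSU6.comp fA = sigma := MonoidHom.ext fun π => (gam_spec π).1

theorem fB_over : toPSU6.comp fB = tauQ.comp sigma := MonoidHom.ext fun π => (gam_spec π).2

theorem ker_central : toPSU6.ker ≤ Subgroup.center grpH := centerU_eq.ge

theorem tauQ_cube (q : G) : tauQ (tauQ (tauQ q)) = q := by
  obtain ⟨g, rfl⟩ := QuotientGroup.mk_surjective q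
  show QuotientGroup.mk (tauSU (tauSU (tauSU g))) = QuotientGroup.mk g
  refine congrArg QuotientGroup.mk (Subtype.ext (Subtype.ext ?_))
  show Matrix.diagonal dVec * (Matrix.diagonal dVec * (Matrix.diagonal dVec * suMat g * Matrix.diagonal dInv) *
    Matrix.diagonal dInv) * Matrix.diagonal dInv = suMat g
  have h1 : Matrix.diagonal dVec * Matrix.diagonal dVec * Matrix.diagonal dVec = 1 := by
    rw [Matrix.diagonal_mul_diagonal, Matrix.diagonal_mul_diagonal, ← Matrix.diagonal_one]
    exact congrArg Matrix.diagonal (funext (by decide))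
  have h2 : Matrix.diagonal dInv * Matrix.diagonal dInv * Matrix.diagonal dInv = 1 := by
    rw [Matrix.diagonal_mul_diagonal, Matrix.diagonal_mul_diagonal, ← Matrix.diagonal_one]
    exact congrArg Matrix.diagonal (funext (by decide))
  calc _ = (Matrix.diagonal dVec * Matrix.diagonal dVec * Matrix.diagonal dVec) * suMat g *
        (Matrix.diagonal dInv * Matrix.diagonal dInv * Matrix.diagonal dInv) := by simp only [mul_assoc]
    _ = suMat g := by rw [h1, h2, one_mul, mul_one]

theorem exists_kA : ∃ x : Gam, (x : Big) = (invol, 1, 1) :=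
  ⟨⟨_, mem_gam (a := invol) (b := 1) (M := 1) ((MonoidHom.mem_ker.1 invol_spec.1).trans (QuotientGroup.mk_one _).symm)
    (by rw [map_one, QuotientGroup.mk_one, map_one])⟩, rfl⟩

theorem exists_kB : ∃ x : Gam, (x : Big) = (1, invol, 1) :=
  ⟨⟨_, mem_gam (a := 1) (b := invol) (M := 1) (by rw [map_one, QuotientGroup.mk_one])
    ((MonoidHom.mem_ker.1 invol_spec.1).trans (by rw [QuotientGroup.mk_one, map_one]))⟩, rfl⟩

/-- The first kernel element. -/
noncomputable def kA : Gam := exists_kA.choose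

/-- The second kernel element. -/
noncomputable def kB : Gam := exists_kB.choose

theorem kA_spec : (kA : Big) = (invol, 1, 1) := exists_kA.choose_spec

theorem kB_spec : (kB : Big) = (1, invol, 1) := exists_kB.choose_spec

theorem k_mem : kA ∈ sigma.ker ∧ kB ∈ sigma.ker := by
  simp only [mem_ker_iff, kA_spec, kB_spec]
  exact ⟨⟨invol_spec.1, one_mem _, one_mem _⟩, ⟨one_mem _, invol_spec.1, one_mem _⟩⟩

/-- An element of the kernel is a product of the two involutions and a cube root of unity. -/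
theorem ker_decomp {x : Gam} (hx : x ∈ sigma.ker) :
    ∃ m : Gam, m ^ 3 = 1 ∧ (x = m ∨ x = kA * m ∨ x = kB * m ∨ x = kA * kB * m) := by
  obtain ⟨ha, hb, hM⟩ := (mem_ker_iff x).1 hx
  obtain ⟨m, hm⟩ : ∃ m : Gam, (m : Big) = (1, 1, (x : Big).2.2) :=
    ⟨⟨_, mem_gam (a := 1) (b := 1) (M := (x : Big).2.2)
      (by rw [map_one]; exact ((QuotientGroup.eq_one_iff _).2 hM).symm)
      (by rw [map_one, (QuotientGroup.eq_one_iff _).2 hM, map_one])⟩, rfl⟩
  refine ⟨m, Subtype.ext ?_, ?_⟩
  · rw [Subgroup.coe_pow, hm]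
    exact Prod.ext (one_pow 3) (Prod.ext (one_pow 3) (center_pow_three hM))
  · rcases ker_cases ha with e1 | e1 <;> rcases ker_cases hb with e2 | e2
    · exact Or.inl (Subtype.ext (by rw [hm]; exact Prod.ext e1 (Prod.ext e2 rfl)))
    · exact Or.inr (Or.inr (Or.inl (Subtype.ext (by
        rw [Subgroup.coe_mul, kB_spec, hm]
        exact Prod.ext (e1.trans (one_mul _).symm) (Prod.ext (e2.trans (mul_one _).symm) (one_mul _).symm)))))
    · exact Or.inr (Or.inl (Subtype.ext (by
        rw [Subgroup.coe_mul, kA_spec, hm]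
        exact Prod.ext (e1.trans (mul_one _).symm) (Prod.ext (e2.trans (one_mul _).symm) (one_mul _).symm))))
    · exact Or.inr (Or.inr (Or.inr (Subtype.ext (by
        rw [Subgroup.coe_mul, Subgroup.coe_mul, kA_spec, kB_spec, hm]
        exact Prod.ext (e1.trans ((mul_one _).trans (mul_one _)).symm)
          (Prod.ext (e2.trans ((mul_one _).trans (one_mul _)).symm) ((congrArg (· * _) (one_mul _)).trans (one_mul _)).symm)))))

/-- Values of a map onto a double cover on the kernel. -/
theorem kernel_values {X : Type} [Group X] (π : X →* G) (hk : ∀ k, π k = 1 → k * k = 1)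
    {d : X} (hker : ∀ k, π k = 1 → k = 1 ∨ k = d) (hd : π d = 1) (hd1 : d ≠ 1) (f : Gam →* X)
    (hf : Function.Surjective f) (hover : π.comp f = sigma) :
    (∀ m : Gam, m ^ 3 = 1 → m ∈ sigma.ker → f m = 1) ∧ (f kA = 1 ∨ f kA = d) ∧ (f kB = 1 ∨ f kB = d) ∧
      (f kA = d ∨ f kB = d) := by
  have hin : ∀ x ∈ sigma.ker, π (f x) = 1 := fun x hx => by
    rw [← MonoidHom.comp_apply, hover]; exact hx
  have hm : ∀ m : Gam, m ^ 3 = 1 → m ∈ sigma.ker → f m = 1 := fun m h3 hm => by
    have h2 := hk _ (hin m hm)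
    calc f m = f m ^ 3 * (f m * f m)⁻¹ := by group
      _ = 1 := by rw [h2, ← map_pow, h3, map_one]; group
  refine ⟨hm, hker _ (hin _ k_mem.1), hker _ (hin _ k_mem.2), ?_⟩
  obtain ⟨x, hx⟩ := hf d
  have hxk : x ∈ sigma.ker := by rw [MonoidHom.mem_ker, ← hover, MonoidHom.comp_apply, hx, hd]
  obtain ⟨m, h3, hcase⟩ := ker_decomp hxk
  by_contra hno
  push Not at hno
  have a1 : f kA = 1 := (hker _ (hin _ k_mem.1)).resolve_right hno.1
  have b1 : f kB = 1 := (hker _ (hin _ k_mem.2)).resolve_right hno.2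
  refine hd1 (hx ▸ ?_)
  rcases hcase with e | e | e | e
  · subst e; exact hm _ h3 hxk
  all_goals
    subst e
    have hmk : m ∈ sigma.ker := by
      have := k_mem
      first
      | exact (Subgroup.mul_mem_cancel_left _ (mul_mem this.1 this.2)).1 hxk
      | exact (Subgroup.mul_mem_cancel_left _ this.1).1 hxk
      | exact (Subgroup.mul_mem_cancel_left _ this.2).1 hxk
    simp [a1, b1, hm m h3 hmk]

/-- Maps with the same values on the kernel have the same kernel. -/
theorem ker_eq {X Y : Type} [Group X] [Group Y] (f : Gam →* X) (g : Gam →* Y)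
    (hf : ∀ x, f x = 1 → x ∈ sigma.ker) (hg : ∀ x, g x = 1 → x ∈ sigma.ker)
    (h3 : ∀ m : Gam, m ^ 3 = 1 → m ∈ sigma.ker → f m = 1 ∧ g m = 1)
    (hA : f kA = 1 ↔ g kA = 1) (hB : f kB = 1 ↔ g kB = 1) (hAB : f (kA * kB) = 1 ↔ g (kA * kB) = 1) :
    f.ker = g.ker := by
  have key : ∀ x ∈ sigma.ker, f x = 1 ↔ g x = 1 := by
    intro x hx
    obtain ⟨m, hm, hc⟩ := ker_decomp hx
    have hmk : m ∈ sigma.ker := by
      rcases hc with rfl | rfl | rfl | rfl
      · exact hx
      · exact (Subgroup.mul_mem_cancel_left _ k_mem.1).1 hx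
      · exact (Subgroup.mul_mem_cancel_left _ k_mem.2).1 hx
      · exact (Subgroup.mul_mem_cancel_left _ (mul_mem k_mem.1 k_mem.2)).1 hx
    obtain ⟨e1, e2⟩ := h3 m hm hmk
    rcases hc with rfl | rfl | rfl | rfl
    · exact iff_of_true e1 e2
    · rwa [map_mul, map_mul, e1, e2, mul_one, mul_one]
    · rwa [map_mul, map_mul, e1, e2, mul_one, mul_one]
    · rwa [map_mul, map_mul g (kA * kB) m, e1, e2, mul_one, mul_one]
  ext x
  exact ⟨fun h => (key x (hf x h)).1 h, fun h => (key x (hg x h)).2 h⟩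

/-- Every perfect double cover is isomorphic to the centraliser of a transposition. -/
theorem exists_iso {C : Type} [Group C] [Finite C] (hC : commutator C = ⊤) (d : C) (hd1 : d ≠ 1)
    (hdd : d * d = 1) (hdc : ∀ c, Commute c d) (π : C →* G) (hπ : Function.Surjective π) (hd : π d = 1)
    (hker : ∀ k, π k = 1 → k = 1 ∨ k = d) : ∃ φ : C ≃* grpH, φ d = invol := by
  haveI := finite_G
  haveI : Finite Cfsg.Spor.Fi22 := FiP.finite
  have hcen : π.ker ≤ Subgroup.center C := fun k hk => by
    rcases hker k hk with rfl | rfl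
    · exact one_mem _
    · exact Subgroup.mem_center_iff.2 fun c => hdc c
  obtain ⟨f, hf, hfo⟩ := exists_from_Gam hC π hπ hcen
  have hkC : ∀ k, π k = 1 → k * k = 1 := fun k hk => by
    rcases hker k hk with rfl | rfl
    · exact one_mul _
    · exact hdd
  have hkH : ∀ k, toPSU6 k = 1 → k * k = 1 := fun k hk => by rw [← pow_two]; exact ker_pow_two hk
  have hkerH : ∀ k, toPSU6 k = 1 → k = 1 ∨ k = invol := fun k hk => ker_cases hk
  obtain ⟨hm, hA, hB, hAB⟩ := kernel_values π hkC hker hd hd1 f hf hfo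
  -- the third cover
  let σ' : grpH →* G := tauQ.comp toPSU6
  have hσ' : ∀ k, σ' k = 1 → toPSU6 k = 1 := fun k hk => tauQ_bijective.1 (hk.trans (map_one tauQ).symm)
  obtain ⟨f₁, hf₁, hf₁o⟩ := exists_from_Gam commutator_grpH σ' (tauQ_bijective.2.comp toPSU6_surjective)
    (fun k hk => ker_central (hσ' k hk))
  obtain ⟨hm₁, hA₁, hB₁, hAB₁⟩ := kernel_values σ' (fun k hk => hkH k (hσ' k hk))
    (fun k hk => hkerH k (hσ' k hk))
    (by show tauQ (toPSU6 invol) = 1; rw [MonoidHom.mem_ker.1 invol_spec.1, map_one]) invol_spec.2 f₁ hf₁ hf₁o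
  have hAk : fA kA = invol ∧ fA kB = 1 := ⟨congrArg Prod.fst kA_spec, congrArg Prod.fst kB_spec⟩
  have hBk : fB kA = 1 ∧ fB kB = invol :=
    ⟨congrArg (fun p : Big => p.2.1) kA_spec, congrArg (fun p : Big => p.2.1) kB_spec⟩
  have hsA : Function.Surjective fA := fun a => by
    obtain ⟨M, hM⟩ := QuotientGroup.mk_surjective (toPSU6 a)
    obtain ⟨b, hb⟩ := toPSU6_surjective (tauQ (QuotientGroup.mk M))
    exact ⟨⟨(a, b, M), mem_gam hM.symm hb⟩, rfl⟩
  have hsB : Function.Surjective fB := fun b => by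
    obtain ⟨q, hq⟩ := tauQ_bijective.2 (toPSU6 b)
    obtain ⟨M, rfl⟩ := QuotientGroup.mk_surjective q
    obtain ⟨a, ha⟩ := toPSU6_surjective (QuotientGroup.mk M)
    exact ⟨⟨(a, b, M), mem_gam ha hq.symm⟩, rfl⟩
  have hkA : ∀ x, fA x = 1 → x ∈ sigma.ker := fun x hx => by
    rw [MonoidHom.mem_ker, ← fA_over, MonoidHom.comp_apply, hx, map_one]
  have hkB : ∀ x, fB x = 1 → x ∈ sigma.ker := fun x hx => by
    refine MonoidHom.mem_ker.2 (tauQ_bijective.1 ?_)
    rw [← MonoidHom.comp_apply, ← fB_over, MonoidHom.comp_apply, hx, map_one, map_one]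
  have hk1 : ∀ x, f₁ x = 1 → x ∈ sigma.ker := fun x hx => by
    rw [MonoidHom.mem_ker, ← hf₁o, MonoidHom.comp_apply, hx, map_one]
  have hm' : ∀ (g : Gam →* grpH), (∀ x ∈ sigma.ker, toPSU6 (g x) = 1) →
      ∀ m : Gam, m ^ 3 = 1 → m ∈ sigma.ker → g m = 1 := fun g hg m h3 hm => by
    have h2 := hkH _ (hg m hm)
    calc g m = g m ^ 3 * (g m * g m)⁻¹ := by group
      _ = 1 := by rw [h2, ← map_pow, h3, map_one]; group
  have hmA := hm' fA fun x hx => by rw [← MonoidHom.comp_apply, fA_over]; exact hx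
  have hmB := hm' fB fun x hx => by
    rw [← MonoidHom.comp_apply, fB_over, MonoidHom.comp_apply, MonoidHom.mem_ker.1 hx, map_one]
  have hone : invol ≠ 1 := invol_spec.2
  have hsq : invol * invol = 1 := hkH _ (MonoidHom.mem_ker.1 invol_spec.1)
  -- it differs from the two others
  have h₁A : f₁ kA = invol := by
    refine hA₁.resolve_left fun h1 => ?_
    have hb : f₁ kB = invol := hAB₁.resolve_left (by rw [h1]; exact hone.symm)
    have hk : fB.ker = f₁.ker := ker_eq fB f₁ hkB hk1 (fun m h3 hm => ⟨hmB m h3 hm, hm₁ m h3 hm⟩)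
      (iff_of_true hBk.1 h1) (by rw [hBk.2, hb]) (by rw [map_mul, map_mul, hBk.1, hBk.2, h1, hb])
    let α : grpH →* grpH := fB.liftOfSurjective hsB ⟨f₁, hk.le⟩
    have hα : ∀ x, α (fB x) = f₁ x := MonoidHom.liftOfRightInverse_comp_apply _ _ _ _
    have hαt : ∀ y, toPSU6 (α y) = tauQ (toPSU6 y) := fun y => by
      obtain ⟨x, rfl⟩ := hsB y
      rw [hα, ← MonoidHom.comp_apply toPSU6 fB, fB_over, MonoidHom.comp_apply]
      refine tauQ_bijective.1 ?_
      have e : tauQ (toPSU6 (f₁ x)) = sigma x := DFunLike.congr_fun hf₁o x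
      rw [e, tauQ_cube]
    have : α.comp fA = fB := hom_ext_of_perfect commutator_Gam toPSU6 ker_central _ _
      (MonoidHom.ext fun x => by
        show toPSU6 (α (fA x)) = toPSU6 (fB x)
        rw [hαt, ← MonoidHom.comp_apply toPSU6 fA, fA_over, ← MonoidHom.comp_apply toPSU6 fB, fB_over]
        rfl)
    have := DFunLike.congr_fun this kB
    rw [MonoidHom.comp_apply, hAk.2, map_one, hBk.2] at this
    exact hone this.symm
  have h₁B : f₁ kB = invol := by
    refine hB₁.resolve_left fun h1 => ?_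
    have hk : fA.ker = f₁.ker := ker_eq fA f₁ hkA hk1 (fun m h3 hm => ⟨hmA m h3 hm, hm₁ m h3 hm⟩)
      (by rw [hAk.1, h₁A]) (iff_of_true hAk.2 h1) (by rw [map_mul, map_mul, hAk.1, hAk.2, h1, h₁A])
    let α : grpH →* grpH := fA.liftOfSurjective hsA ⟨f₁, hk.le⟩
    have hα : ∀ x, α (fA x) = f₁ x := MonoidHom.liftOfRightInverse_comp_apply _ _ _ _
    have hαt : ∀ y, tauQ (toPSU6 (α y)) = toPSU6 y := fun y => by
      obtain ⟨x, rfl⟩ := hsA y
      rw [hα, ← MonoidHom.comp_apply toPSU6 fA, fA_over]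
      exact DFunLike.congr_fun hf₁o x
    have : α.comp fB = fA := hom_ext_of_perfect commutator_Gam toPSU6 ker_central _ _
      (MonoidHom.ext fun x => by
        show toPSU6 (α (fB x)) = toPSU6 (fA x)
        refine tauQ_bijective.1 ?_
        rw [hαt, ← MonoidHom.comp_apply toPSU6 fB, fB_over, ← MonoidHom.comp_apply toPSU6 fA, fA_over]
        rfl)
    have := DFunLike.congr_fun this kA
    rw [MonoidHom.comp_apply, hBk.1, map_one, hAk.1] at this
    exact hone this.symm
  -- choose the cover with the same kernel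
  obtain ⟨g, hg, hgk⟩ : ∃ g : Gam →* grpH, Function.Surjective g ∧ f.ker = g.ker := by
    have hkf : ∀ x, f x = 1 → x ∈ sigma.ker := fun x hx => by
      rw [MonoidHom.mem_ker, ← hfo, MonoidHom.comp_apply, hx, map_one]
    rcases hA with a | a <;> rcases hB with b | b
    · rcases hAB with h | h
      · exact absurd (a.symm.trans h) hd1.symm
      · exact absurd (b.symm.trans h) hd1.symm
    · exact ⟨fB, hsB, ker_eq f fB hkf hkB (fun m h3 hm' => ⟨hm m h3 hm', hmB m h3 hm'⟩)
        (iff_of_true a hBk.1) (by rw [b, hBk.2]; exact iff_of_false hd1 hone)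
        (by rw [map_mul, map_mul, a, b, hBk.1, hBk.2, one_mul, one_mul]; exact iff_of_false hd1 hone)⟩
    · exact ⟨fA, hsA, ker_eq f fA hkf hkA (fun m h3 hm' => ⟨hm m h3 hm', hmA m h3 hm'⟩)
        (by rw [a, hAk.1]; exact iff_of_false hd1 hone) (iff_of_true b hAk.2)
        (by rw [map_mul, map_mul, a, b, hAk.1, hAk.2, mul_one, mul_one]; exact iff_of_false hd1 hone)⟩
    · exact ⟨f₁, hf₁, ker_eq f f₁ hkf hk1 (fun m h3 hm' => ⟨hm m h3 hm', hm₁ m h3 hm'⟩)
        (by rw [a, h₁A]; exact iff_of_false hd1 hone) (by rw [b, h₁B]; exact iff_of_false hd1 hone)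
        (by rw [map_mul, map_mul, a, b, h₁A, h₁B, hdd, hsq]; simp)⟩
  let φ : C ≃* grpH := (QuotientGroup.quotientKerEquivOfSurjective f hf).symm.trans
    ((QuotientGroup.quotientMulEquivOfEq hgk).trans (QuotientGroup.quotientKerEquivOfSurjective g hg))
  refine ⟨φ, ?_⟩
  have hφ : φ d ∈ Subgroup.center grpH := Subgroup.mem_center_iff.2 fun y => by
    obtain ⟨x, rfl⟩ := φ.surjective y
    rw [← map_mul, ← map_mul, (hdc x).eq]
  rw [centerU_eq] at hφ
  exact (ker_cases hφ).resolve_left fun e => hd1 (φ.map_eq_one_iff.1 e)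

end CfsgLib.Sporadic.U62Centralizer
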