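import Cfsg.Agent.Lib.Sporadic.U62Centralizer.PairLemmas
import Cfsg.Agent.Lib.LocalEvenB.SharedCentralizer
import Cfsg.Agent.Lib.Components.Signalizer.Basic
import Cfsg.Agent.Lib.Components.Constrained

/-!
# The stabiliser of a component

The members in the stabiliser of a component are those of the component, the centraliser of the
product of a pair lies in the stabiliser, and pairs of other components do not.
-/

set_option autoImplicit false
set_option linter.unusedSectionVars false
set_option maxRecDepth 100000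

open Cfsg.Spor

namespace CfsgLib.Sporadic.U62Centralizer

open CfsgLib.Sporadic.CosetCert CfsgLib.Sporadic.CosetCert.FiP CfsgLib.Sporadic.CosetCert.FiP.OutFi22
open CfsgLib.Sporadic.FiTransfer CfsgLib.Sporadic.FiTransfer.PLocal
open CfsgLib.Sporadic.FischerTransitivity
open CfsgLib.Involution

/-- Seven members of the clique with trivial product. -/
def sevenTail : List ℕ := [154, 152, 43, 850, 2855, 828]

theorem seven_ok : sevenTail.all (fun q => Nat.blt q 3510 && isE q && sevenTail.all fun r => rel q r) &&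
    agreeK (fun v => tap 0 (taps sevenTail v)) id = true := by decide +kernel

theorem prod_tail : (sevenTail.map fun q => dp (pnt q)).prod = tr := by
  have h := seven_ok
  simp only [Bool.and_eq_true, List.all_eq_true, Nat.blt_eq] at h
  have hlt : ∀ q ∈ sevenTail, q < 3510 := fun q hq => (h.1 q hq).1.1
  have hcomm : ∀ q ∈ sevenTail, ∀ r ∈ sevenTail, Commute (dp (pnt q)) (dp (pnt r)) := fun q hq r hr =>
    (rel_iff_commute _ _).1 (by rw [pnt_val (hlt q hq), pnt_val (hlt r hr)]; exact (h.1 q hq).2 r hr)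
  have hrev : ∀ l : List ℕ, (∀ q ∈ l, q ∈ sevenTail) → (l.map fun q => dp (pnt q)).prod = dpProd l := by
    intro l
    induction l with
    | nil => intro _; rfl
    | cons a t ih =>
      intro hl
      have ht := ih fun q hq => hl q (List.mem_cons_of_mem _ hq)
      rw [List.map_cons, List.prod_cons, dpProd, ← ht]
      exact (Commute.list_prod_right _ _ fun x hx => by
        obtain ⟨r, hr, rfl⟩ := List.mem_map.1 hx
        exact hcomm a (hl a List.mem_cons_self) r (hl r (List.mem_cons_of_mem _ hr))).eq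
  rw [hrev _ fun q hq => hq]
  have e : dp pt * dpProd sevenTail = 1 := eq_of_agree ((img_dp pt).mul (img_dpProd _ hlt)) img_one h.2
  rw [tr_eq, eq_inv_of_mul_eq_one_right e, conj_inv_self]

/-- Odd products of involutions in one coset. -/
theorem mem_of_odd_prod {G : Type*} [Group G] (H : Subgroup G) (s : G) (hs : s * s = 1) : ∀ l : List G,
    (∀ y ∈ l, y * y = 1 ∧ s * y ∈ H) → (Even l.length → l.prod ∈ H) ∧ (Odd l.length → s * l.prod ∈ H) := by
  intro l
  induction l with
  | nil => exact fun _ => ⟨fun _ => one_mem H, fun h => absurd h (by simp)⟩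
  | cons a t ih =>
    intro h
    obtain ⟨h1, h2⟩ := ih fun y hy => h y (List.mem_cons_of_mem _ hy)
    obtain ⟨ha2, ha⟩ := h a List.mem_cons_self
    have ha' : a * s ∈ H := by
      have := inv_mem ha
      rwa [mul_inv_rev, inv_eq_of_mul_eq_one_right hs, inv_eq_of_mul_eq_one_right ha2] at this
    rw [List.prod_cons, List.length_cons]
    refine ⟨fun he => ?_, fun ho => ?_⟩
    · have ht : Odd t.length := Nat.not_even_iff_odd.1 fun e => by simp [Nat.even_add_one, e] at he
      have := mul_mem ha' (h2 ht)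
      rwa [mul_assoc, ← mul_assoc s s, hs, one_mul] at this
    · have ht : Even t.length := Nat.not_odd_iff_even.1 fun e => by simp [Nat.odd_add_one, e] at ho
      rw [← mul_assoc]
      exact mul_mem ha (h1 ht)

variable {G : Type*} [Group G] [Finite G] {D : Set G} (ctx : Ctx D)
include ctx

/-- A pair lies in seven pairwise commuting members with trivial product. -/
theorem exists_seven {a b : G} (ha : a ∈ D) (hb : b ∈ Nb D a) :
    ∃ l : List G, a ∈ l ∧ b ∈ l ∧ Odd l.length ∧ l.prod = 1 ∧ (∀ y ∈ l, y = a ∨ y ∈ Nb D a) ∧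
      (∀ y ∈ l, ∀ z ∈ l, Commute y z) ∧ ∃ t, l = a :: t ∧ ∀ y ∈ t, y ∈ Nb D a := by
  obtain ⟨M, hM⟩ := ctx.nb a ha
  obtain ⟨hbc, e, he, hbe⟩ := (hM b).1 hb
  obtain ⟨k, hk, ek⟩ := exists_cj_154 he
  have hok := seven_ok
  simp only [Bool.and_eq_true, List.all_eq_true, Nat.blt_eq] at hok
  have hpre : ∀ q ∈ sevenTail, ∃ y, Commute y a ∧ M.mo y = k⁻¹ * dp (pnt q) * k := fun q hq => M.exists_mo
    (mul_mem (mul_mem (inv_mem hk) (((isE_iff _).1 (by rw [pnt_val (hok.1 q hq).1.1]; exact (hok.1 q hq).1.2)).mem)) hk)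
  choose! f hf1 hf2 using hpre
  have hnb : ∀ q ∈ sevenTail, f q ∈ Nb D a := fun q hq => (hM _).2 ⟨hf1 q hq, _,
    ((isE_iff _).1 (by rw [pnt_val (hok.1 q hq).1.1]; exact (hok.1 q hq).1.2)).map (inv_mem hk),
    by rw [hf2 q hq, ← conj_dp, inv_inv]⟩
  refine ⟨a :: sevenTail.map f, List.mem_cons_self, ?_, by rw [List.length_cons, List.length_map]; decide, ?_, fun y hy => ?_, ?_, sevenTail.map f, rfl,
    fun y hy => ?_⟩
  · refine List.mem_cons_of_mem _ (List.mem_map.2 ⟨154, by decide, M.mo_inj (hf1 _ (by decide)) hbc ?_⟩)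
    rw [hf2 _ (by decide), hbe, ← ek]
    group
  · have key : ∀ l : List ℕ, (∀ q ∈ l, q ∈ sevenTail) → Commute (l.map f).prod a ∧
        M.mo (l.map f).prod = k⁻¹ * (l.map fun q => dp (pnt q)).prod * k := by
      intro l
      induction l with
      | nil => exact fun _ => ⟨Commute.one_left a, by simp [M.mo_one]⟩
      | cons q t ih =>
        intro hl
        obtain ⟨h1, h2⟩ := ih fun x hx => hl x (List.mem_cons_of_mem _ hx)
        have hq := hl q List.mem_cons_self
        simp only [List.map_cons, List.prod_cons]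
        exact ⟨(hf1 q hq).mul_left h1, by rw [M.mo_mul (hf1 q hq) h1, hf2 q hq, h2]; group⟩
    obtain ⟨h1, h2⟩ := key sevenTail fun q hq => hq
    refine M.mo_inj ((Commute.refl a).mul_left h1) (Commute.one_left a) ?_
    rw [List.prod_cons, M.mo_mul (Commute.refl a) h1, M.mo_self, h2, prod_tail, mul_assoc k⁻¹, ← (mem_grpH_iff.1 hk).eq,
      inv_mul_cancel_left, tr_mul_self, M.mo_one]
  · rcases List.mem_cons.1 hy with rfl | hy
    · exact Or.inl rfl
    · obtain ⟨q, hq, rfl⟩ := List.mem_map.1 hy
      exact Or.inr (hnb q hq)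
  · intro y hy z hz
    rcases List.mem_cons.1 hy with rfl | hy' <;> rcases List.mem_cons.1 hz with rfl | hz'
    · exact Commute.refl _
    · obtain ⟨q, hq, rfl⟩ := List.mem_map.1 hz'; exact (hf1 q hq).symm
    · obtain ⟨q, hq, rfl⟩ := List.mem_map.1 hy'; exact hf1 q hq
    · obtain ⟨q, hq, rfl⟩ := List.mem_map.1 hy'
      obtain ⟨r, hr, rfl⟩ := List.mem_map.1 hz'
      refine (M.mo_commute (hf1 q hq) (hf1 r hr)).1 ?_
      rw [hf2 q hq, hf2 r hr]
      have h := (rel_iff_commute (pnt q) (pnt r)).1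
        (by rw [pnt_val (hok.1 q hq).1.1, pnt_val (hok.1 r hr).1.1]; exact (hok.1 q hq).2 r hr)
      have := (Commute.conj_iff k⁻¹).2 h
      rwa [inv_inv] at this
  · obtain ⟨q, hq, rfl⟩ := List.mem_map.1 hy
    exact hnb q hq

theorem conj_ne {x y s : G} (h : s * y * s⁻¹ = x) (hxy : x ≠ y) : ¬ Commute s y := fun hc =>
  hxy (h ▸ by rw [hc.eq, mul_inv_cancel_right])

/-- A member in the stabiliser of a component lies in the component. -/
theorem mem_comp_of_stab {d x : G} (hd : d ∈ D) (hx : x ∈ D) (hxs : x ∈ stab ctx hd) : x ∈ comp D d := by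
  by_contra hn
  have hx2 := ctx.sq hx
  have hxi := ctx.inv_eq hx
  have hfix : ∀ y ∈ comp D d, ¬ Commute x y := fun y hy hc =>
    hn ⟨hx, near_step ctx hd hy.1 hx hy.2 hc.symm⟩
  have himg : ∀ y ∈ comp D d, x * y * x ∈ comp D d ∧ x * y * x ∈ Nb D y := by
    intro y hy
    have h1 := stab_comp ctx hd hxs hy
    rw [hxi] at h1
    have hne : x * y * x ≠ y := fun e => hfix y hy (by
      show x * y = y * x
      calc x * y = x * y * (x * x) := by rw [hx2, mul_one]
        _ = x * y * x * x := by group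
        _ = y * x := by rw [e])
    refine ⟨h1, h1.1, hne, ?_⟩
    by_contra hnc
    obtain ⟨s, hs, hs'⟩ := ((near_trans ctx hy.1 hd h1.1 (near_symm ctx hy.2) h1.2).resolve_left hne.symm).resolve_left hnc
    have h3 := ctx.pow_three hs.1 (ctx.nb_symm hy.1 hs) (ctx.nb_symm h1.1 hs') hnc
    set y' := x * y * x with hy'
    have ht : y * y' * y ∈ comp D d := by
      have := stab_comp ctx hd (comp_le_stab ctx hd hy) h1
      rwa [ctx.inv_eq hy.1] at this
    refine hfix _ ht ?_
    have hb : y' * y * y' = y * y' * y := (braid (ctx.sq hy.1) (ctx.sq h1.1) h3).symm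
    have e1 : x * (y * y' * y) * x = y' * y * y' := by
      rw [hy']
      calc x * (y * (x * y * x) * y) * x = x * y * x * y * (x * y * x) := by group
        _ = _ := by group
    show x * (y * y' * y) = y * y' * y * x
    calc x * (y * y' * y) = x * (y * y' * y) * (x * x) := by rw [hx2, mul_one]
      _ = x * (y * y' * y) * x * x := by group
      _ = _ := by rw [e1, hb]
  -- the map to the neighbours of `x`
  have hprod : ∀ y ∈ comp D d, x * (y * (x * y * x)) ∈ Nb D x := by
    intro y hy
    obtain ⟨h1, h2⟩ := himg y hy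
    have e2 : x * (y * (x * y * x)) = x * y * x * (x * y)⁻¹ := by
      rw [mul_inv_rev, hxi, ctx.inv_eq hy.1]; group
    refine ⟨by rw [e2]; exact ctx.conj _ x hx, fun e => h2.2.1 ?_, ?_⟩
    · have e3 : y * (x * y * x) = 1 := mul_left_cancel (e.trans (mul_one x).symm)
      rw [eq_inv_of_mul_eq_one_right e3, ctx.inv_eq hy.1]
    · have hc : Commute (x * y * x) y := h2.2.2.symm
      show x * (x * (y * (x * y * x))) = x * (y * (x * y * x)) * x
      calc x * (x * (y * (x * y * x))) = (x * x) * (y * (x * y * x)) := by group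
        _ = y * (x * y * x) := by rw [hx2, one_mul]
        _ = x * y * x * y := hc.eq.symm
        _ = x * y * x * y * (x * x) := by rw [hx2, mul_one]
        _ = _ := by group
  have hle : (comp D d).ncard ≤ 2 * (Nb D x).ncard := by
    classical
    rw [Set.ncard_eq_toFinset_card _ (Set.toFinite _), Set.ncard_eq_toFinset_card _ (Set.toFinite _)]
    refine Finset.card_le_mul_card_image_of_maps_to (f := fun y => x * (y * (x * y * x)))
      (fun y hy => by
        rw [Set.Finite.mem_toFinset] at hy ⊢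
        exact hprod y hy) 2 fun z _ => ?_
    rcases Finset.eq_empty_or_nonempty
      ((Set.toFinite (comp D d)).toFinset.filter fun y => x * (y * (x * y * x)) = z) with he | ⟨y₀, hy₀⟩
    · rw [he]; exact Nat.zero_le _
    rw [Finset.mem_filter, Set.Finite.mem_toFinset] at hy₀
    refine (Finset.card_le_card (t := {y₀, x * y₀ * x}) fun y hy => ?_).trans Finset.card_le_two
    rw [Finset.mem_filter, Set.Finite.mem_toFinset] at hy
    rw [Finset.mem_insert, Finset.mem_singleton]
    rcases pair_unique ctx hd hy₀.1 (himg y₀ hy₀.1).2 hy.1 (himg y hy.1).2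
      (mul_left_cancel (hy₀.2.trans hy.2.symm)) with h | h
    · exact Or.inl h.1
    · exact Or.inr h.1
  obtain ⟨π, C⟩ := ctx.exists_chart hx
  have := comp_large ctx hd
  rw [C.card_nb] at hle
  omega

theorem comp_of_pair {d a b u : G} (hd : d ∈ D) (ha : a ∈ comp D d) (hb : b ∈ Nb D a)
    (hle : ∀ g, Commute g (a * b) → g ∈ stab ctx hd) (hu : u ∈ D) (h : Commute u (a * b)) : u ∈ comp D d :=
  mem_comp_of_stab ctx hd hu (hle u h)

/-- The centraliser of the product of a pair lies in the stabiliser of its component. -/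
theorem pair_centralizer {d a b : G} (hd : d ∈ D) (ha : a ∈ comp D d) (hb : b ∈ Nb D a) {g : G}
    (hg : Commute g (a * b)) : g ∈ stab ctx hd := by
  classical
  set z := a * b with hz
  have hab := hb.2.2
  have ha2 := ctx.sq ha.1
  have hz2 : z * z = 1 := by
    rw [hz]
    calc a * b * (a * b) = a * (b * a) * b := by group
      _ = a * (a * b) * b := by rw [hab.eq]
      _ = (a * a) * (b * b) := by group
      _ = 1 := by rw [ha2, ctx.sq hb.1, one_mul]
  have hz1 : z ≠ 1 := fun e => hb.2.1 (by
    rw [hz, mul_eq_one_iff_eq_inv] at e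
    rw [e, ctx.inv_eq hb.1])
  set M := Subgroup.centralizer ({z} : Set G)
  have haz : Commute a z := (Commute.refl a).mul_right hab
  let am : M := ⟨a, mem_cent.2 haz⟩
  let zm : M := ⟨z, mem_cent.2 (Commute.refl z)⟩
  have hzc : zm ∈ Subgroup.center M := Subgroup.mem_center_iff.2 fun k => Subtype.ext (mem_cent.1 k.2).eq
  set N := Subgroup.zpowers zm
  have hNn : N.Normal := ⟨fun n hn k => by
    have hc : n ∈ Subgroup.center M := Subgroup.zpowers_le.2 hzc hn
    rwa [Subgroup.mem_center_iff.1 hc k, mul_inv_cancel_right]⟩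
  have hN : ∀ n ∈ N, n = 1 ∨ n = zm := by
    intro n hn
    obtain ⟨i, rfl⟩ := Subgroup.mem_zpowers_iff.1 hn
    have h2 : zm ^ (2 : ℤ) = 1 := by rw [zpow_two]; exact Subtype.ext hz2
    rcases Int.even_or_odd' i with ⟨j, rfl | rfl⟩
    · exact Or.inl (by rw [zpow_mul, h2, one_zpow])
    · exact Or.inr (by rw [zpow_add, zpow_mul, h2, one_zpow, one_mul, zpow_one])
  -- isolated modulo the product
  have hiso : Cfsg.IsIsolated (am : M ⧸ N) := by
    intro q hq
    obtain ⟨k, rfl⟩ := QuotientGroup.mk_surjective q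
    set a' : G := (k : G) * a * (k : G)⁻¹ with ha'
    set b' : G := (k : G) * b * (k : G)⁻¹ with hb'
    have hkz : (k : G) * z * (k : G)⁻¹ = z := by rw [(mem_cent.1 k.2).eq, mul_inv_cancel_right]
    have hab' : a' * b' = z := by rw [ha', hb', ← hkz, hz]; group
    have hb'n : b' ∈ Nb D a' := ⟨ctx.conj _ b hb.1, fun e => hb.2.1 (mul_left_cancel (mul_right_cancel e)),
      (Commute.conj_iff _).2 hab⟩
    have ha'D : a' ∈ D := ctx.conj _ a ha.1
    have hcomm : am * (k * am * k⁻¹) * (k * am * k⁻¹ * am)⁻¹ ∈ N := by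
      rw [← QuotientGroup.eq_one_iff, QuotientGroup.mk_mul, QuotientGroup.mk_inv, mul_inv_eq_one]
      simpa [QuotientGroup.mk_mul, QuotientGroup.mk_inv] using hq.eq
    have hswap : Commute a a' ∨ a * a' * a = a' * z := by
      rcases hN _ hcomm with h | h
      · left
        have h' := congrArg Subtype.val h
        simp only [Subgroup.coe_mul, Subgroup.coe_inv, Subgroup.coe_one] at h'
        exact mul_inv_eq_one.1 h'
      · right
        have h' := congrArg Subtype.val h
        simp only [Subgroup.coe_mul, Subgroup.coe_inv] at h'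
        change a * a' * (a' * a)⁻¹ = z at h'
        rw [mul_inv_eq_iff_eq_mul] at h'
        rw [h', mul_assoc z, mul_assoc a', ha2, mul_one, show Commute z a' from hab' ▸
          ((Commute.refl a').mul_right hb'n.2.2).symm]
    have hin : a' = a ∨ a' = b := by
      rcases hswap with hc | hc
      · have ha'c : a' ∈ comp D d := ⟨ha'D, near_step ctx hd ha.1 ha'D ha.2 hc⟩
        exact (pair_unique ctx hd ha hb ha'c hb'n hab'.symm).imp And.left And.left
      · have hb'' : a * a' * a = b' := by
          rw [hc, ← hab', ← mul_assoc, ctx.sq ha'D, one_mul]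
        have hb'c : b' ∈ comp D a' := nb_subset ctx ha'D (self_mem_comp ctx ha'D) hb'n
        have has : a ∈ stab ctx ha'D := mem_stab_of_move ctx ha'D (self_mem_comp ctx ha'D)
          (by rw [ctx.inv_eq ha.1, hb'']; exact hb'c)
        have := mem_comp_of_stab ctx ha'D ha.1 has
        have ha'c : a' ∈ comp D d := ⟨ha'D, near_trans ctx hd ha.1 ha'D ha.2 (near_symm ctx this.2)⟩
        exact (pair_unique ctx hd ha hb ha'c hb'n hab'.symm).imp And.left And.left
    rw [← QuotientGroup.mk_inv, ← QuotientGroup.mk_mul, ← QuotientGroup.mk_mul, eq_comm, QuotientGroup.eq]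
    rcases hin with e | e
    · convert one_mem N
      apply Subtype.ext
      show a⁻¹ * a' = 1
      rw [e, inv_mul_cancel]
    · convert Subgroup.mem_zpowers zm
      apply Subtype.ext
      show a⁻¹ * a' = z
      rw [e, ctx.inv_eq ha.1]
  have hord : ∃ i : ℕ, orderOf (am : M ⧸ N) = 2 ^ i := by
    have : orderOf (am : M ⧸ N) ∣ 2 ^ 1 := orderOf_dvd_of_pow_eq_one (by
      rw [pow_one, pow_two, ← QuotientGroup.mk_mul, show am * am = 1 from Subtype.ext ha2, QuotientGroup.mk_one])
    obtain ⟨i, -, hi⟩ := (Nat.dvd_prime_pow Nat.prime_two).1 this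
    exact ⟨i, hi⟩
  -- the odd core lies in the stabiliser
  have hsev : Cfsg.oddCore M ≤ (stab ctx hd).subgroupOf M := by
    obtain ⟨l, hal, hbl, hodd, hl1, hlnb, hlc, -⟩ := exists_seven ctx ha.1 hb
    have hlM : ∀ y ∈ l, y ∈ M := fun y hy => mem_cent.2 ((hlc y hy a hal).mul_right (hlc y hy b hbl))
    let lM : List M := l.pmap (fun y h => ⟨y, h⟩) hlM
    set A : Subgroup M := Subgroup.closure {y | y ∈ lM}
    have hmem : ∀ y : M, y ∈ lM → (y : G) ∈ l := fun y hy => by
      obtain ⟨w, hw, rfl⟩ := List.mem_pmap.1 hy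
      exact hw
    have hDm : ∀ y : M, y ∈ lM → (y : G) ∈ comp D d := fun y hy => by
      rcases hlnb _ (hmem y hy) with e | e
      · rwa [e]
      · exact nb_subset ctx hd ha e
    have hcA : ∀ y ∈ {y : M | y ∈ lM}, ∀ w ∈ {y : M | y ∈ lM}, y * w = w * y := fun y hy w hw =>
      Subtype.ext (hlc _ (hmem y hy) _ (hmem w hw)).eq
    have hA : Cfsg.IsElementaryAbelian 2 A := by
      have hcc : IsMulCommutative A := Subgroup.isMulCommutative_closure hcA
      refine ⟨hcc, fun y hy => ?_⟩
      induction hy using Subgroup.closure_induction with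
      | mem y hy => exact Subtype.ext (by rw [Subgroup.coe_pow, pow_two]; exact ctx.sq (hDm y hy).1)
      | one => exact one_pow 2
      | mul y w hy hw e1 e2 =>
        have hc : y * w = w * y := congrArg Subtype.val (hcc.1.1 ⟨y, hy⟩ ⟨w, hw⟩)
        rw [Commute.mul_pow hc, e1, e2, one_mul]
      | inv y _ e => rw [inv_pow, e, inv_one]
    haveI := ZStar.oddCore_normal (G := M)
    refine (Components.Signalizer.le_iSup_centralizer_hyperplanes hA le_rfl
      (Nat.two_dvd_ne_zero.2 (Nat.odd_iff.1 ZStar.odd_card_oddCore) |> fun h => h)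
      (le_top.trans (Subgroup.normalizer_eq_top_iff.2 inferInstance).ge)).trans (iSup_le fun ⟨H, hHA, hH⟩ => ?_)
    obtain ⟨y, hy, hyH⟩ : ∃ y ∈ lM, y ∈ H := by
      by_contra hno
      push Not at hno
      have hAm : ∀ y : M, y ∈ lM → y ∈ A := fun y hy => Subgroup.subset_closure hy
      have hne : lM ≠ [] := by
        intro e
        have := congrArg List.length e
        rw [List.length_pmap, List.length_nil] at this
        rw [this] at hodd
        exact absurd hodd (by decide)
      obtain ⟨s, hs⟩ := List.exists_mem_of_ne_nil lM hne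
      have hidx : (H.subgroupOf A).index = 2 := by
        show H.relIndex A = 2
        have h0 : H.relIndex A ≠ 0 := Subgroup.index_ne_zero_of_finite
        have h1 : H.relIndex A ≠ 1 := fun h => hno s hs (Subgroup.relIndex_eq_one.1 h (hAm s hs))
        omega
      have key := (mem_of_odd_prod H s (Subtype.ext (ctx.sq (hDm s hs).1)) lM fun y hy =>
        ⟨Subtype.ext (ctx.sq (hDm y hy).1), (Subgroup.mul_mem_iff_of_index_two hidx
          (a := ⟨s, hAm s hs⟩) (b := ⟨y, hAm y hy⟩)).2
          (iff_of_false (hno s hs) (hno y hy))⟩).2 (by rwa [List.length_pmap])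
      refine hno s hs ?_
      have hp : lM.prod = 1 := Subtype.ext (by
        rw [Subgroup.coe_one, ← hl1, ← Subgroup.coe_subtype, map_list_prod, List.map_pmap]
        simp)
      rwa [hp, mul_one] at key
    intro k hk
    exact Subgroup.mem_subgroupOf.2 (centralizer_le ctx hd (hDm y hy)
      ((congrArg Subtype.val (Subgroup.mem_centralizer_iff.1 hk.2 y hyH)).symm : (k : G) * y = y * k))
  -- conclude
  haveI := ZStar.oddCore_normal (G := M)
  let O := Cfsg.oddCore M
  have hzO : zm ∉ O := fun h => hz1 (by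
    have h2 : orderOf zm ∣ 2 := orderOf_dvd_of_pow_eq_one (by rw [pow_two]; exact Subtype.ext hz2)
    have h3 := Subgroup.orderOf_dvd_natCard _ h
    have h4 : orderOf zm = 1 := Nat.eq_one_of_dvd_coprimes
      (Nat.coprime_two_left.2 ZStar.odd_card_oddCore) h2 h3
    exact congrArg Subtype.val (orderOf_eq_one_iff.1 h4))
  let w : M ⧸ O := QuotientGroup.mk zm
  have hw : orderOf w = 2 := orderOf_eq_prime (by
    rw [pow_two, ← QuotientGroup.mk_mul, show zm * zm = 1 from Subtype.ext hz2, QuotientGroup.mk_one])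
    fun e => hzO ((QuotientGroup.eq_one_iff _).1 e)
  have hwc : w ∈ Subgroup.center (M ⧸ O) := Subgroup.mem_center_iff.2 fun q => by
    obtain ⟨k, rfl⟩ := QuotientGroup.mk_surjective q
    rw [← QuotientGroup.mk_mul, ← QuotientGroup.mk_mul, Subgroup.mem_center_iff.1 hzc k]
  haveI hWn : (Subgroup.zpowers w).Normal := ⟨fun n hn k => by
    have hc : n ∈ Subgroup.center (M ⧸ O) := Subgroup.zpowers_le.2 hwc hn
    rwa [Subgroup.mem_center_iff.1 hc k, mul_inv_cancel_right]⟩
  have hbot := ZStar.oddCore_quotient_central (G := M ⧸ O) ZStar.oddCore_quotient hw hwc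
  let f : M ⧸ N →* (M ⧸ O) ⧸ Subgroup.zpowers w :=
    QuotientGroup.lift N ((QuotientGroup.mk' _).comp (QuotientGroup.mk' O)) (Subgroup.zpowers_le.2 (by
      rw [MonoidHom.mem_ker, MonoidHom.comp_apply, QuotientGroup.mk'_apply, QuotientGroup.mk'_apply,
        QuotientGroup.eq_one_iff]
      exact Subgroup.mem_zpowers w))
  have hfs : Function.Surjective f := fun r => by
    obtain ⟨q, rfl⟩ := QuotientGroup.mk_surjective r
    obtain ⟨k, rfl⟩ := QuotientGroup.mk_surjective q
    exact ⟨QuotientGroup.mk k, rfl⟩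
  let km : M := ⟨g, mem_cent.2 hg⟩
  have hc := LocalEvenB.SharedCentralizer.comm_mem_oddCore hord hiso (km : M ⧸ N)
  have hf1 : f ((km * am * km⁻¹ * am⁻¹ : M) : M ⧸ N) = 1 := by
    haveI : Fact (Nat.Prime 2) := ⟨Nat.prime_two⟩
    have h1 : f ((km * am * km⁻¹ * am⁻¹ : M) : M ⧸ N) ∈ (Cfsg.oddCore (M ⧸ N)).map f :=
      Subgroup.mem_map_of_mem f (by simpa using hc)
    have h2 := Components.pPrimeCore_map_le 2 f hfs h1
    exact Subgroup.mem_bot.1 (hbot ▸ h2)
  have hmem : (km * am * km⁻¹ * am⁻¹ : M) ∈ (stab ctx hd).subgroupOf M := by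
    have h1 : ((km * am * km⁻¹ * am⁻¹ : M) : M ⧸ O) ∈ Subgroup.zpowers w :=
      (QuotientGroup.eq_one_iff _).1 hf1
    obtain ⟨i, hi⟩ := Subgroup.mem_zpowers_iff.1 h1
    have h2 : zm ^ i ∈ (stab ctx hd).subgroupOf M := by
      refine zpow_mem (Subgroup.mem_subgroupOf.2 ?_) i
      exact centralizer_le ctx hd ha haz.symm
    have h3 : (zm ^ i)⁻¹ * (km * am * km⁻¹ * am⁻¹) ∈ O :=
      QuotientGroup.eq.1 (by rw [← hi, QuotientGroup.mk_zpow])
    have := mul_mem h2 (hsev h3)
    rwa [mul_inv_cancel_left] at this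
  rw [Subgroup.mem_subgroupOf] at hmem
  change g * a * g⁻¹ * a⁻¹ ∈ stab ctx hd at hmem
  have := mul_mem hmem (comp_le_stab ctx hd ha)
  rw [inv_mul_cancel_right] at this
  exact mem_stab_of_move ctx hd ha (mem_comp_of_stab ctx hd (ctx.conj g a ha.1) this)

end CfsgLib.Sporadic.U62Centralizer
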