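import Cfsg.Agent.Lib.Sporadic.U62Centralizer.Classes

/-!
# The conjugates of an involution with centraliser `2·PSU₆(2)` commuting with it

If the centraliser of the involution `d` is a copy of the centraliser of a transposition of Fi22 and
another conjugate of `d` commutes with it, then these conjugates are exactly the transpositions.
-/

set_option autoImplicit false
set_option linter.unusedSectionVars false
set_option maxRecDepth 100000

open Cfsg.Spor

namespace CfsgLib.Sporadic.U62Centralizer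

open CfsgLib.Sporadic.CosetCert CfsgLib.Sporadic.CosetCert.FiP CfsgLib.Sporadic.CosetCert.FiP.OutFi22
open CfsgLib.Sporadic.FiTransfer CfsgLib.Sporadic.FiTransfer.PLocal
open CfsgLib.Sporadic.CosetCert.FiData (table)

attribute [local irreducible] PTab.img CfsgLib.Sporadic.FiTransfer.PLocal.tap

variable {G : Type*} [Group G]

/-- An identification of the centraliser of `d` with that of a transposition of Fi22. -/
structure Model (d : G) where
  /-- The isomorphism. -/
  iso : Subgroup.centralizer ({d} : Set G) ≃* grpH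
  /-- The involution goes to the transposition. -/
  map_self : ∀ h, (iso ⟨d, h⟩ : Fi22) = tr

theorem mem_cent {d y : G} : y ∈ Subgroup.centralizer ({d} : Set G) ↔ Commute y d :=
  Subgroup.mem_centralizer_singleton_iff.trans Iff.rfl

namespace Model

variable {d : G} (M : Model d)

/-- The image of an element commuting with `d`. -/
noncomputable def mo (y : G) : Fi22 :=
  @dite _ (Commute y d) (_root_.Classical.propDecidable _) (fun h => (M.iso ⟨y, mem_cent.2 h⟩ : Fi22)) fun _ => 1

theorem mo_eq {y : G} (h : Commute y d) : M.mo y = (M.iso ⟨y, mem_cent.2 h⟩ : Fi22) := by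
  unfold mo
  exact @dif_pos (Commute y d) (_root_.Classical.propDecidable _) h _ _ _

theorem mo_mem {y : G} (h : Commute y d) : M.mo y ∈ grpH := by rw [M.mo_eq h]; exact (M.iso _).2

theorem mo_self : M.mo d = tr := by rw [M.mo_eq (Commute.refl d), M.map_self]

theorem mo_mul {y z : G} (hy : Commute y d) (hz : Commute z d) : M.mo (y * z) = M.mo y * M.mo z := by
  rw [M.mo_eq (hy.mul_left hz), M.mo_eq hy, M.mo_eq hz, ← Subgroup.coe_mul, ← map_mul]
  rfl

theorem mo_one : M.mo 1 = 1 := by
  rw [M.mo_eq (Commute.one_left d)]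
  exact congrArg Subtype.val (map_one M.iso)

theorem mo_inv {y : G} (hy : Commute y d) : M.mo y⁻¹ = (M.mo y)⁻¹ := by
  rw [M.mo_eq hy.inv_left, M.mo_eq hy, ← Subgroup.coe_inv, ← map_inv]
  rfl

theorem mo_conj {y k : G} (hy : Commute y d) (hk : Commute k d) :
    M.mo (k * y * k⁻¹) = M.mo k * M.mo y * (M.mo k)⁻¹ := by
  rw [M.mo_mul (hk.mul_left hy) hk.inv_left, M.mo_mul hk hy, M.mo_inv hk]

theorem mo_inj {y z : G} (hy : Commute y d) (hz : Commute z d) (h : M.mo y = M.mo z) : y = z := by
  rw [M.mo_eq hy, M.mo_eq hz] at h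
  exact congrArg Subtype.val (M.iso.injective (Subtype.ext h))

theorem exists_mo {a : Fi22} (ha : a ∈ grpH) : ∃ y, Commute y d ∧ M.mo y = a := by
  refine ⟨(M.iso.symm ⟨a, ha⟩ : G), mem_cent.1 (M.iso.symm ⟨a, ha⟩).2, ?_⟩
  rw [M.mo_eq (mem_cent.1 (M.iso.symm ⟨a, ha⟩).2), Subtype.coe_eta, MulEquiv.apply_symm_apply]

theorem mo_commute {y z : G} (hy : Commute y d) (hz : Commute z d) : Commute (M.mo y) (M.mo z) ↔ Commute y z := by
  refine ⟨fun h => M.mo_inj (hy.mul_left hz) (hz.mul_left hy) ?_, fun h => ?_⟩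
  · rw [M.mo_mul hy hz, M.mo_mul hz hy, h.eq]
  · show M.mo y * M.mo z = M.mo z * M.mo y
    rw [← M.mo_mul hy hz, ← M.mo_mul hz hy, h.eq]

include M in
theorem sq_self : d * d = 1 :=
  M.mo_inj ((Commute.refl d).mul_left (Commute.refl d)) (Commute.one_left d)
    (by rw [M.mo_mul (Commute.refl d) (Commute.refl d), M.mo_self, tr_mul_self, M.mo_one])

theorem cj_pull {y z : G} (hy : Commute y d) (hz : Commute z d) (h : Cj (M.mo y) (M.mo z)) :
    ∃ k, Commute k d ∧ k * y * k⁻¹ = z := by
  obtain ⟨a, ha, e⟩ := h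
  obtain ⟨k, hk, rfl⟩ := M.exists_mo ha
  exact ⟨k, hk, M.mo_inj ((hk.mul_left hy).mul_left hk.inv_left) hz (by rw [M.mo_conj hy hk, e])⟩

/-- A transposition of the centraliser. -/
def EType (y : G) : Prop := Commute y d ∧ ∃ e, IsE e ∧ M.mo y = dp e

/-- An exceptional involution of the centraliser. -/
def ThreeType (y : G) : Prop := Commute y d ∧ InThree (M.mo y)

include M in
theorem no_root {y : G} (hy : Commute y d) (h : y * y = d) : False :=
  tr_not_square (h := ⟨M.mo y, M.mo_mem hy⟩) (by rw [← M.mo_mul hy hy, h, M.mo_self])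

theorem cases {y : G} (hy : Commute y d) (hy2 : y * y = 1) :
    y = 1 ∨ y = d ∨ M.EType y ∨ (∃ k, Commute k d ∧ k * k = y) ∨ M.ThreeType y := by
  rcases involution_kinds (y := ⟨M.mo y, M.mo_mem hy⟩)
    (Subtype.ext (by rw [Subgroup.coe_mul, ← M.mo_mul hy hy, hy2, M.mo_one]; rfl)) with h | h | h | h | h
  · exact Or.inl (M.mo_inj hy (Commute.one_left d) (h.trans M.mo_one.symm))
  · exact Or.inr (Or.inl (M.mo_inj hy (Commute.refl d) (h.trans M.mo_self.symm)))
  · exact Or.inr (Or.inr (Or.inl ⟨hy, h⟩))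
  · obtain ⟨a, ha, e⟩ := h
    obtain ⟨k, hk, rfl⟩ := M.exists_mo ha
    exact Or.inr (Or.inr (Or.inr (Or.inl ⟨k, hk, M.mo_inj (hk.mul_left hk) hy (by rw [M.mo_mul hk hk, e])⟩)))
  · exact Or.inr (Or.inr (Or.inr (Or.inr ⟨hy, h⟩)))

end Model

theorem exists_cj_154 {e : Pt} (he : IsE e) : Cj (dp e) (dp (pnt 154)) := by
  have h154 : isE 154 = true :=
    (Bool.and_eq_true_iff.1 (List.all_eq_true.1 fixed_isE 154 (by decide))).2
  obtain ⟨k, hk, e1, -⟩ := level_move level1 (by norm_num) h154 (fun f hf => absurd hf List.not_mem_nil) he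
    (fun f hf => absurd hf List.not_mem_nil) (fun f hf => absurd hf List.not_mem_nil)
  exact ⟨k, hk, by rw [conj_dp, e1]⟩

theorem twisted_root : rootF 10 3 = 3 := by decide +kernel

/-- A transposition times the central one is a square. -/
theorem tr_mul_square {e : Pt} (he : IsE e) : ∃ k ∈ grpH, k * k = tr * dp e := by
  obtain ⟨k, hk, e1⟩ := (exists_cj_154 he).symm
  obtain ⟨s, hs, es⟩ := square_of_root (m := 3) _ List.mem_cons_self
  refine ⟨k * s * k⁻¹, mul_mem (mul_mem hk hs) (inv_mem hk), ?_⟩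
  have h3 : cval basis 3 = tr * dp (pnt 154) := by
    rw [eq_cval (c := 2) (by norm_num) (by decide +kernel), ← cval_one, ← cval_xor fun x hx => hx]
    rfl
  rw [show k * s * k⁻¹ * (k * s * k⁻¹) = k * (s * s) * k⁻¹ by group, es, h3, ← e1,
    show k * (tr * dp (pnt 154)) * k⁻¹ = k * tr * dp (pnt 154) * k⁻¹ by group, (mem_grpH_iff.1 hk).eq]
  group

/-- Codes of exceptional involutions whose product with the exceptional one is a square. -/
def witnesses : List ℕ :=
  [22, 23, 26, 27, 28, 29, 42, 43, 44, 45, 50, 51, 52, 53, 62, 63, 70, 71, 74, 75, 76, 77]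

theorem witness_kinds : witnesses.all (fun m => Nat.beq (rootF 10 m) 14 &&
    (Nat.beq (rootF 10 (Nat.xor 14 m)) 6 || Nat.beq (rootF 10 (Nat.xor 14 m)) 7)) = true := by decide +kernel

theorem witness_distinct : witnesses.all (fun m => witnesses.all fun n => Nat.beq m n ||
    !agreeK (taps (selBits basis m)) (taps (selBits basis n))) = true := by decide +kernel

theorem three_fixed : countK (fun q => isE q && Nat.beq (taps (selBits basis 14) q) q) 3510 = 21 := by
  decide +kernel

theorem agree_of_eq {g : Fi22} {f f' : ℕ → ℕ} (hf : Img g f) (hf' : Img g f') : agreeK f f' = true := by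
  refine List.all_eq_true.2 fun v hv => ?_
  obtain ⟨i, hi, e⟩ := List.getElem_of_mem hv
  have hlt : v < table.N := by
    have := pts_lt i (lt_of_lt_of_eq hi (by decide))
    rwa [List.getD_eq_getElem _ _ hi, e] at this
  rw [← hf ⟨v, hlt⟩, ← hf' ⟨v, hlt⟩]
  exact Nat.beq_refl _

theorem cval_inj_on {m n : ℕ} (hm : m ∈ witnesses) (hn : n ∈ witnesses) (h : cval basis m = cval basis n) :
    m = n := by
  have h1 := List.all_eq_true.1 (List.all_eq_true.1 witness_distinct m hm) n hn
  have h2 : agreeK (taps (selBits basis m)) (taps (selBits basis n)) = true := by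
    have hb : ∀ k, ∀ x ∈ selBits basis k, x < 3510 := fun k x hx => basis_lt (selBits_sub hx)
    rw [cval_eq, cval_eq] at h
    exact agree_of_eq (img_dpProd _ (hb m)) (h ▸ img_dpProd _ (hb n))
  rw [h2, Bool.not_true, Bool.or_false] at h1
  exact Nat.eq_of_beq_eq_true h1

theorem self_distinct : witnesses.all (fun m =>
    !agreeK (taps (selBits basis m)) (taps (selBits basis 14))) = true := by decide +kernel

theorem witness_ne_self {m : ℕ} (hm : m ∈ witnesses) (h : cval basis m = kThree) : False := by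
  have h1 := List.all_eq_true.1 self_distinct m hm
  have hb : ∀ k, ∀ x ∈ selBits basis k, x < 3510 := fun k x hx => basis_lt (selBits_sub hx)
  rw [kThree, cval_eq, cval_eq] at h
  rw [agree_of_eq (img_dpProd _ (hb m)) (h ▸ img_dpProd _ (hb 14))] at h1
  exact Bool.noConfusion h1

theorem witness_spec {m : ℕ} (hm : m ∈ witnesses) :
    InThree (cval basis m) ∧ ∃ s ∈ grpH, s * s = kThree * cval basis m := by
  have h := List.all_eq_true.1 witness_kinds m hm
  simp only [Bool.and_eq_true, Bool.or_eq_true] at h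
  refine ⟨?_, ?_⟩
  · have e := Nat.eq_of_beq_eq_true h.1
    have := rootF_spec 10 m (by rw [e]; norm_num)
    rwa [e] at this
  · rw [kThree, ← cval_xor fun x hx => hx]
    obtain ⟨r, hr, w, hw⟩ : ∃ r, rootF 10 (14 ^^^ m) = r ∧ ∃ w, (r, w) ∈ roots := by
      rcases h.2 with h2 | h2
      · exact ⟨_, Nat.eq_of_beq_eq_true h2, _, List.mem_cons_of_mem _ List.mem_cons_self⟩
      · exact ⟨_, Nat.eq_of_beq_eq_true h2, _, List.mem_cons_of_mem _ (List.mem_cons_of_mem _ List.mem_cons_self)⟩
    have hne : rootF 10 (14 ^^^ m) ≠ 9999 := by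
      rw [hr]
      intro e
      subst e
      simp [roots] at hw
    obtain ⟨k, hk, e⟩ := rootF_spec 10 (14 ^^^ m) hne
    obtain ⟨s, hs, es⟩ := square_of_root w hw
    refine ⟨k * s * k⁻¹, mul_mem (mul_mem hk hs) (inv_mem hk), ?_⟩
    rw [← e, hr, ← es]
    group

theorem kThree_mem : kThree ∈ grpH := by
  rw [kThree, cval_eq]
  refine dpProd_mem fun x hx => ?_
  revert x
  decide +kernel

theorem three_fix_card : {e : Pt | IsE e ∧ hom kThree e = e}.ncard = 21 := by
  classical
  have himg : Img kThree (taps (selBits basis 14)) := by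
    rw [kThree, cval_eq]
    exact img_dpProd _ fun x hx => basis_lt (selBits_sub hx)
  rw [← three_fixed, countK_eq, ← Set.ncard_coe_finset]
  refine Set.ncard_congr (fun e _ => (e : ℕ)) (fun e he => ?_) (fun a b _ _ h => Fin.ext h) fun n hn => ?_
  · refine Finset.mem_coe.2 (Finset.mem_filter.2 ⟨Finset.mem_range.2 e.2, ?_⟩)
    rw [Bool.and_eq_true, (isE_iff e).2 he.1, Nat.beq_eq, ← himg e, he.2]
    exact ⟨rfl, rfl⟩
  · have hn' := Finset.mem_filter.1 (Finset.mem_coe.1 hn)
    rw [Bool.and_eq_true, Nat.beq_eq] at hn'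
    exact ⟨⟨n, Finset.mem_range.1 hn'.1⟩,
      ⟨(isE_iff _).1 hn'.2.1, Fin.ext ((himg _).trans hn'.2.2)⟩, rfl⟩

variable [Finite G] {d : G} (M : Model d)

theorem commute_conj_self {k : G} (hk : Commute k d) : k * d * k⁻¹ = d := by rw [hk.eq, mul_inv_cancel_right]

theorem isConj_conj {x : G} (g : G) (h : IsConj d x) : IsConj d (g * x * g⁻¹) :=
  h.trans (isConj_iff.2 ⟨g, rfl⟩)

include M in
/-- A conjugate of `d` commuting with it is not a square in the centraliser. -/
theorem not_square {x : G} (hx : IsConj d x) {k : G} (hk : Commute k d) (hkx : k * k = x) : False := by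
  obtain ⟨g, hg⟩ := isConj_iff.1 hx
  have h2 : Commute k x := hkx ▸ (Commute.refl k).mul_right (Commute.refl k)
  refine M.no_root (y := g⁻¹ * k * g) ?_ ?_
  rotate_left
  · rw [show g⁻¹ * k * g * (g⁻¹ * k * g) = g⁻¹ * (k * k) * g by group, hkx, ← hg]
    group
  have := h2
  rw [← hg] at this
  show g⁻¹ * k * g * d = d * (g⁻¹ * k * g)
  have e := congrArg (fun t => g⁻¹ * t * g) this.eq
  simpa [mul_assoc] using e

theorem types_of_conj {x : G} (hx : IsConj d x) (hc : Commute x d) (hne : x ≠ d) :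
    M.EType x ∨ M.ThreeType x := by
  have hx2 : x * x = 1 := by
    obtain ⟨g, rfl⟩ := isConj_iff.1 hx
    rw [show g * d * g⁻¹ * (g * d * g⁻¹) = g * (d * d) * g⁻¹ by group, M.sq_self, mul_one, mul_inv_cancel]
  rcases M.cases hc hx2 with h | h | h | ⟨k, hk, e⟩ | h
  · subst h
    obtain ⟨g, hg⟩ := isConj_iff.1 hx
    exact absurd (conj_eq_one_iff.1 hg).symm (fun e => hne e)
  · exact absurd h hne
  · exact Or.inl h
  · exact (not_square M hx hk e).elim
  · exact Or.inr h

theorem eType_mul_square {y : G} (h : M.EType y) : ∃ k, Commute k d ∧ k * k = d * y := by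
  obtain ⟨hy, e, he, hye⟩ := h
  obtain ⟨a, ha, ea⟩ := tr_mul_square he
  obtain ⟨k, hk, rfl⟩ := M.exists_mo ha
  exact ⟨k, hk, M.mo_inj (hk.mul_left hk) ((Commute.refl d).mul_left hy)
    (by rw [M.mo_mul hk hk, ea, M.mo_mul (Commute.refl d) hy, M.mo_self, hye])⟩

/-- A conjugate of `d` commuting with it is a transposition of the centraliser. -/
theorem eType_of_conj {x : G} (hx : IsConj d x) (hc : Commute x d) (hne : x ≠ d) : M.EType x := by
  rcases types_of_conj M hx hc hne with h | ⟨-, hx3⟩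
  · exact h
  exfalso
  have hd2 := M.sq_self
  have hdx : IsConj d (d * x) := by
    obtain ⟨k, hk, e⟩ := M.cj_pull hc ((Commute.refl d).mul_left hc)
      (hx3.symm.trans (by rw [M.mo_mul (Commute.refl d) hc, M.mo_self]; exact hx3.mul_tr))
    exact e ▸ isConj_conj k hx
  obtain ⟨g₀, hg₀⟩ := isConj_iff.1 hx
  -- an element exchanging the two
  obtain ⟨g, hgx, hgd⟩ : ∃ g : G, g * x * g⁻¹ = d ∧ g * d * g⁻¹ = x := by
    set g := g₀⁻¹ with hg
    have hgx : g * x * g⁻¹ = d := by simp only [hg, ← hg₀]; group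
    set y := g * d * g⁻¹ with hy
    have hyd : Commute y d := by
      have h := (Commute.conj_iff g).2 hc.symm
      rwa [hgx] at h
    have hyc : IsConj d y := isConj_conj g (IsConj.refl d)
    have hyne : y ≠ d := fun e => hne (mul_left_cancel (mul_right_cancel (e.trans hgx.symm)) : d = x).symm
    rcases types_of_conj M hyc hyd hyne with hE | h3
    · exfalso
      obtain ⟨k, hk, e⟩ := eType_mul_square M hE
      refine not_square M ?_ hk e
      have : d * y = g * (x * d) * g⁻¹ := by rw [hy, ← hgx]; group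
      rw [this, hc.eq]
      exact isConj_conj g hdx
    · obtain ⟨c, hcc, ec⟩ := M.cj_pull hyd hc (h3.2.symm.trans hx3)
      refine ⟨c * g, ?_, ?_⟩
      · rw [show c * g * x * (c * g)⁻¹ = c * (g * x * g⁻¹) * c⁻¹ by group, hgx, commute_conj_self hcc]
      · rw [show c * g * d * (c * g)⁻¹ = c * (g * d * g⁻¹) * c⁻¹ by group, ← hy, ec]
  -- the witnesses
  obtain ⟨k, hk, ek⟩ := hx3
  have hw : ∀ m ∈ witnesses, ∃ z, Commute z d ∧ Commute z x ∧ M.mo z = k * cval basis m * k⁻¹ ∧
      M.ThreeType z ∧ ∃ s, Commute s d ∧ s * s = x * z := by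
    intro m hm
    obtain ⟨h3, s, hs, es⟩ := witness_spec hm
    have hmem : cval basis m ∈ grpH := by
      obtain ⟨a, ha, e⟩ := h3
      exact e ▸ mul_mem (mul_mem ha kThree_mem) (inv_mem ha)
    obtain ⟨z, hz, ez⟩ := M.exists_mo (mul_mem (mul_mem hk hmem) (inv_mem hk))
    obtain ⟨u, hu, eu⟩ := M.exists_mo (mul_mem (mul_mem hk hs) (inv_mem hk))
    refine ⟨z, hz, (M.mo_commute hz hc).1 ?_, ez, ⟨hz, h3.trans ⟨k, hk, ez.symm⟩⟩, u, hu, ?_⟩
    · rw [ez, ← ek, Commute.conj_iff]
      show cval basis m * cval basis 14 = cval basis 14 * cval basis m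
      rw [← cval_xor fun x hx => hx, ← cval_xor fun x hx => hx, Nat.xor_comm]
    · refine M.mo_inj (hu.mul_left hu) (hc.mul_left hz) ?_
      rw [M.mo_mul hu hu, M.mo_mul hc hz, eu, ez, ← ek,
        show k * s * k⁻¹ * (k * s * k⁻¹) = k * (s * s) * k⁻¹ by group, es]
      group
  choose! z hzd hzx hzm hz3 hzs using hw
  have hzD : ∀ m ∈ witnesses, IsConj d (z m) := by
    intro m hm
    obtain ⟨c, -, ec⟩ := M.cj_pull hc (hzd m hm) ((Cj.symm (x := kThree) (y := M.mo x) ⟨k, hk, ek⟩).trans (hz3 m hm).2)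
    exact ec ▸ isConj_conj c hx
  -- their images under the exchange
  have himg : ∀ m ∈ witnesses, ∃ e, IsE e ∧ hom (M.mo x) e = e ∧ M.mo (g * z m * g⁻¹) = dp e ∧
      Commute (g * z m * g⁻¹) d := by
    intro m hm
    have h1 : Commute (g * z m * g⁻¹) x := by rw [← hgd]; exact (Commute.conj_iff g).2 (hzd m hm)
    have h2 : Commute (g * z m * g⁻¹) d := by rw [← hgx]; exact (Commute.conj_iff g).2 (hzx m hm)
    have hnd : g * z m * g⁻¹ ≠ d := by
      intro e
      have ezx : z m = x := mul_left_cancel (mul_right_cancel (e.trans hgx.symm))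
      have := hzm m hm
      rw [ezx, ← ek, mul_left_inj, mul_right_inj] at this
      exact witness_ne_self hm this.symm
    rcases types_of_conj M (isConj_conj g (hzD m hm)) h2 hnd with hE | h3
    · obtain ⟨hc', e, he, hee⟩ := hE
      exact ⟨e, he, (commute_dp_iff _ e).1 (hee ▸ ((M.mo_commute h2 hc).2 h1).symm), hee, h2⟩
    · exfalso
      obtain ⟨c, -, ec⟩ := M.cj_pull h2 ((Commute.refl d).mul_left h2)
        (h3.2.symm.trans (by rw [M.mo_mul (Commute.refl d) h2, M.mo_self]; exact h3.2.mul_tr))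
      obtain ⟨s, hs, es⟩ := hzs m hm
      refine not_square M ?_ hs es
      have hh : x * z m = g⁻¹ * (d * (g * z m * g⁻¹)) * (g⁻¹)⁻¹ := by rw [← hgx]; group
      rw [hh, ← ec]
      exact isConj_conj _ (isConj_conj _ (isConj_conj g (hzD m hm)))
  haveI : Nonempty Pt := ⟨pt⟩
  choose! w hwE hwx hwm hwd using himg
  have hsub : (↑witnesses.toFinset : Set ℕ).ncard ≤ {e : Pt | IsE e ∧ hom (M.mo x) e = e}.ncard := by
    refine Set.ncard_le_ncard_of_injOn w (fun m hm => ?_) (fun m hm n hn h => ?_) (Set.toFinite _)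
    · have hm' : m ∈ witnesses := List.mem_toFinset.1 (Finset.mem_coe.1 hm)
      exact ⟨hwE m hm', hwx m hm'⟩
    · have hm' : m ∈ witnesses := List.mem_toFinset.1 (Finset.mem_coe.1 hm)
      have hn' : n ∈ witnesses := List.mem_toFinset.1 (Finset.mem_coe.1 hn)
      have e1 : g * z m * g⁻¹ = g * z n * g⁻¹ := M.mo_inj (hwd m hm') (hwd n hn') (by rw [hwm m hm', hwm n hn', h])
      have e2 : z m = z n := mul_left_cancel (mul_right_cancel e1)
      refine cval_inj_on hm' hn' ?_
      have e3 := hzm m hm'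
      rw [e2, hzm n hn', mul_left_inj, mul_right_inj] at e3
      exact e3.symm
  have hcard : {e : Pt | IsE e ∧ hom (M.mo x) e = e}.ncard = 21 := by
    rw [← three_fix_card, ← ek]
    have : {e : Pt | IsE e ∧ hom (k * kThree * k⁻¹) e = e} = hom k '' {e : Pt | IsE e ∧ hom kThree e = e} := by
      ext e
      constructor
      · rintro ⟨he, hfix⟩
        refine ⟨hom k⁻¹ e, ⟨he.map (inv_mem hk), ?_⟩, ?_⟩
        · have := congrArg (hom k⁻¹) hfix
          rw [← Equiv.Perm.mul_apply, ← map_mul] at this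
          rw [← Equiv.Perm.mul_apply, ← map_mul]
          rwa [show k⁻¹ * (k * kThree * k⁻¹) = kThree * k⁻¹ by group] at this
        · rw [← Equiv.Perm.mul_apply, ← map_mul, mul_inv_cancel, map_one, Equiv.Perm.one_apply]
      · rintro ⟨f, ⟨hf, hfix⟩, rfl⟩
        refine ⟨hf.map hk, ?_⟩
        rw [← Equiv.Perm.mul_apply, ← map_mul, inv_mul_cancel_right, map_mul, Equiv.Perm.mul_apply, hfix]
    rw [this, Set.ncard_image_of_injective _ (hom k).injective]
  rw [hcard, Set.ncard_coe_finset, show witnesses.toFinset.card = 22 by decide] at hsub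
  omega

end CfsgLib.Sporadic.U62Centralizer
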