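import Cfsg.Agent.Lib.Sporadic.U62Centralizer.Connected
import Cfsg.Agent.Lib.Sporadic.FischerPrimitive
import Cfsg.Agent.Lib.Schur.PSUSixTwo.Main

/-!
# The group of the class

The class generates the group, the group is perfect with trivial centre and no solvable normal
subgroup, and it acts primitively on the class.
-/

set_option autoImplicit false
set_option linter.unusedSectionVars false
set_option maxRecDepth 100000

namespace CfsgLib.Sporadic.U62Centralizer

open CfsgLib.Sporadic.FischerTransitivity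
open CfsgLib.Sporadic.MTwentyTwo (P TP)
open scoped commutatorElement

variable {G : Type*} [Group G] [Finite G] {D : Set G} (ctx : Ctx D)
include ctx

theorem mem_closure_nb {d g : G} (hd : d ∈ D) (hg : Commute g d) : g ∈ Subgroup.closure (Nb D d) := by
  obtain ⟨π, C⟩ := ctx.exists_chart hd
  set H := Subgroup.closure (Nb D d)
  have hHc : ∀ h ∈ H, Commute h d := fun h hh => Subgroup.mem_centralizer_singleton_iff.1 <|
    (Subgroup.closure_le (K := Subgroup.centralizer ({d} : Set G))).2 (fun y hy =>
      Subgroup.mem_centralizer_singleton_iff.2 hy.2.2.symm.eq) hh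
  let S : Subgroup P :=
    { carrier := {q | ∃ h ∈ H, π h = q}
      one_mem' := ⟨1, one_mem H, C.map_one⟩
      mul_mem' := by
        rintro _ _ ⟨a, ha, rfl⟩ ⟨b, hb, rfl⟩
        exact ⟨a * b, mul_mem ha hb, C.mul (hHc a ha) (hHc b hb)⟩
      inv_mem' := by
        rintro _ ⟨a, ha, rfl⟩
        exact ⟨a⁻¹, inv_mem ha, C.map_inv (hHc a ha)⟩ }
  have hS : S = ⊤ := by
    rw [eq_top_iff, ← MTwentyTwo.TP_gen, Subgroup.closure_le]
    intro q hq
    obtain ⟨y, hy, rfl⟩ := C.surj hq
    exact ⟨y, Subgroup.subset_closure hy, rfl⟩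
  obtain ⟨h, hh, e⟩ : π g ∈ S := hS ▸ Subgroup.mem_top _
  obtain ⟨a, ha⟩ := exists_nb ctx hd
  obtain ⟨l, -, -, -, hl1, -, -, t, rfl, ht⟩ := exists_seven ctx hd ha
  have hdH : d ∈ H := by
    rw [List.prod_cons, mul_eq_one_iff_eq_inv] at hl1
    exact hl1 ▸ inv_mem (list_prod_mem fun y hy => Subgroup.subset_closure (ht y hy))
  have hk : π (g * h⁻¹) = 1 := by rw [C.mul hg (hHc h hh).inv_left, C.map_inv (hHc h hh), e, mul_inv_cancel]
  rcases (C.ker (hg.mul_left (hHc h hh).inv_left)).1 hk with h1 | h1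
  · rw [mul_inv_eq_one.1 h1]; exact hh
  · rw [mul_inv_eq_iff_eq_mul.1 h1]; exact mul_mem hdH hh

theorem mem_of_commute {d g : G} (hd : d ∈ D) (hg : Commute g d) : g ∈ Subgroup.closure D :=
  Subgroup.closure_mono (fun _ hy => hy.1) (mem_closure_nb ctx hd hg)

theorem move_same {c a b : G} (hc : c ∈ D) (ha : a ∈ Nb D c) (hb : b ∈ Nb D c) :
    ∃ k ∈ Subgroup.closure D, k * a * k⁻¹ = b := by
  obtain ⟨π, C⟩ := ctx.exists_chart hc
  obtain ⟨q, hq⟩ := MTwentyTwo.TP_class _ (C.mem ha) _ (C.mem hb)
  obtain ⟨k, hk, rfl⟩ := C.onto q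
  refine ⟨k, mem_of_commute ctx hc hk, C.inj ⟨ctx.conj k a ha.1, fun e => ha.2.1 ?_, ?_⟩ hb
    (by rw [C.map_conj hk ha.2.2.symm, hq])⟩
  · exact mul_left_cancel (mul_right_cancel (e.trans (show c = k * c * k⁻¹ by rw [hk.eq, mul_inv_cancel_right])))
  · have := (Commute.conj_iff k).2 ha.2.2
    rwa [hk.eq, mul_inv_cancel_right] at this

theorem gen_top {d : G} (hd : d ∈ D) : Subgroup.closure D = ⊤ := by
  rw [eq_top_iff]
  intro g _
  set e := g * d * g⁻¹ with he
  have heD : e ∈ D := ctx.conj g d hd
  obtain ⟨k, hk, hke⟩ : ∃ k ∈ Subgroup.closure D, k * d * k⁻¹ = e := by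
    by_cases hde : Commute d e
    · by_cases h : e = d
      · exact ⟨1, one_mem _, by rw [h]; group⟩
      obtain ⟨π, C⟩ := ctx.exists_chart hd
      have hen : e ∈ Nb D d := ⟨heD, h, hde⟩
      obtain ⟨c, hcd, hce⟩ : ∃ c, c ∈ Nb D d ∧ c ≠ e ∧ Commute e c := by
        by_contra hno
        push Not at hno
        have h1 := C.card_comm hen
        have : {y | y ∈ Nb D d ∧ Commute e y} = {e} := by
          ext y
          exact ⟨fun hy => by_contra fun hne => hno y hy.1 hne hy.2, fun hy => by rw [Set.mem_singleton_iff] at hy; subst hy; exact ⟨hen, Commute.refl _⟩⟩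
        rw [this, Set.ncard_singleton] at h1
        norm_num at h1
      exact move_same ctx hcd.1 (ctx.nb_symm hd hcd) ⟨heD, hce.1.symm, hce.2.symm⟩
    · obtain ⟨a, had, hae⟩ :=
        ((near_all ctx hd heD).resolve_left fun h => hde (h ▸ Commute.refl d)).resolve_left hde
      exact move_same ctx had.1 (ctx.nb_symm hd had) (ctx.nb_symm heD hae)
  have hc : Commute (k⁻¹ * g) d := by
    show k⁻¹ * g * d = d * (k⁻¹ * g)
    have h : g * d = k * d * k⁻¹ * g := by rw [hke, he]; group
    rw [mul_assoc, h]; group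
  have := mul_mem hk (mem_of_commute ctx hd hc)
  rwa [mul_inv_cancel_left] at this

theorem isGroup {d : G} (hd : d ∈ D) : Cfsg.IsThreeTranspositionGroup D :=
  ⟨threeTransposition ctx, ctx.conj, gen_top ctx hd⟩

theorem center_eq {d : G} (hd : d ∈ D) : Subgroup.center G = ⊥ := by
  refine le_bot_iff.1 fun z hz => Subgroup.mem_bot.2 ?_
  have hc : ∀ g, Commute z g := fun g => (Subgroup.mem_center_iff.1 hz g).symm
  obtain ⟨π, C⟩ := ctx.exists_chart hd
  have : π z = 1 := by
    have hcen : π z ∈ Subgroup.center P := Subgroup.mem_center_iff.2 fun q => by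
      obtain ⟨k, hk, rfl⟩ := C.onto q
      rw [← C.mul hk (hc d), ← C.mul (hc d) hk, (hc k).eq]
    have := MTwentyTwo.simple_P
    rcases (Subgroup.center P).normal_of_characteristic.eq_bot_or_eq_top with e | e
    · rw [e] at hcen; exact Subgroup.mem_bot.1 hcen
    · exact absurd ⟨⟨fun a b => Subgroup.mem_center_iff.1 (e ▸ Subgroup.mem_top b : b ∈ Subgroup.center P) a⟩⟩
        MTwentyTwo.P_noncomm
  rcases (C.ker (hc d)).1 this with h | h
  · exact h
  · exfalso
    obtain ⟨a, ha⟩ := exists_nb ctx hd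
    obtain ⟨g, hg⟩ := ctx.cls d hd a ha.1
    exact ha.2.1 (by rw [← hg, ← h, ← (hc g).eq, mul_inv_cancel_right])

theorem perfect {d : G} (hd : d ∈ D) : commutator G = ⊤ := by
  rw [eq_top_iff, ← gen_top ctx hd, Subgroup.closure_le]
  have hd' : d ∈ commutator G := by
    obtain ⟨M, -⟩ := ctx.nb d hd
    have e : (⁅Subgroup.centralizer ({d} : Set G), Subgroup.centralizer ({d} : Set G)⁆ : Subgroup G) =
        Subgroup.centralizer ({d} : Set G) := by
      have h : commutator (Subgroup.centralizer ({d} : Set G)) = ⊤ := by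
        have := congrArg (Subgroup.map M.iso.symm.toMonoidHom) Schur.PSUSixTwo.commutator_grpH
        rwa [_root_.commutator_def, Subgroup.map_commutator, Subgroup.map_top_of_surjective _ M.iso.symm.surjective,
          ← _root_.commutator_def] at this
      have h2 := congrArg (Subgroup.map (Subgroup.centralizer ({d} : Set G)).subtype) h
      rwa [_root_.commutator_def, Subgroup.map_commutator, ← MonoidHom.range_eq_map, Subgroup.range_subtype] at h2
    have hm : d ∈ Subgroup.centralizer ({d} : Set G) := Subgroup.mem_centralizer_singleton_iff.2 rfl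
    rw [← e] at hm
    exact Subgroup.commutator_mono le_top le_top hm
  intro x hx
  obtain ⟨g, rfl⟩ := ctx.cls d hd x hx
  exact (inferInstance : (commutator G).Normal).conj_mem d hd' g

theorem solvable_eq_bot {d : G} (hd : d ∈ D) {N : Subgroup G} (hN : N.Normal) (hs : Group.IsSolvable N) :
    N = ⊥ := by
  haveI := hs
  have key : ∀ x ∈ D, ∀ n ∈ N, Commute n x → n = 1 ∨ n = x := by
    intro x hx n hn hc
    obtain ⟨π, C⟩ := ctx.exists_chart hx
    let B : Subgroup G := N ⊓ Subgroup.centralizer ({x} : Set G)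
    have hB : ∀ b ∈ B, Commute b x := fun b hb => Subgroup.mem_centralizer_singleton_iff.1 hb.2
    let f : B →* P := MonoidHom.mk' (fun b => π b) fun a b => C.mul (hB a a.2) (hB b b.2)
    haveI hsB : Group.IsSolvable B := Group.isSolvable_of_isSolvable_injective (f := Subgroup.inclusion (inf_le_left : B ≤ N))
      (Subgroup.inclusion_injective _)
    haveI : Group.IsSolvable f.range := Group.isSolvable_of_surjective (f := f.rangeRestrict) f.rangeRestrict_surjective
    have hnorm : f.range.Normal := ⟨fun y hy q => by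
      obtain ⟨b, rfl⟩ := hy
      obtain ⟨k, hk, rfl⟩ := C.onto q
      exact ⟨⟨k * b * k⁻¹, hN.conj_mem _ b.2.1 k, Subgroup.mem_centralizer_singleton_iff.2
        ((hk.mul_left (hB b b.2)).mul_left hk.inv_left).eq⟩, C.map_conj hk (hB b b.2)⟩⟩
    have hle := MTwentyTwo.P_sol f.range hnorm inferInstance (by
      have := MTwentyTwo.simple_P
      rcases (inferInstance : (commutator P).Normal).eq_bot_or_eq_top with e | e
      · exact absurd ⟨⟨fun a b => commutatorElement_eq_one_iff_mul_comm.1 (Subgroup.mem_bot.1 (e ▸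
          Subgroup.commutator_mem_commutator (Subgroup.mem_top a) (Subgroup.mem_top b)))⟩⟩ MTwentyTwo.P_noncomm
      · exact e ▸ le_top)
    have hnB : n ∈ B := ⟨hn, Subgroup.mem_centralizer_singleton_iff.2 hc⟩
    have h1 : π n ∈ Subgroup.center P := hle ⟨⟨n, hnB⟩, rfl⟩
    have := MTwentyTwo.simple_P
    rcases (Subgroup.center P).normal_of_characteristic.eq_bot_or_eq_top with e | e
    · rw [e] at h1
      exact (C.ker hc).1 (Subgroup.mem_bot.1 h1)
    · exact absurd ⟨⟨fun a b => Subgroup.mem_center_iff.1 (e ▸ Subgroup.mem_top b : b ∈ Subgroup.center P) a⟩⟩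
        MTwentyTwo.P_noncomm
  have hnd : ∀ x ∈ D, x ∉ N := by
    intro x hx hxN
    obtain ⟨a, ha⟩ := exists_nb ctx hx
    have haN : a ∈ N := by
      obtain ⟨g, hg⟩ := ctx.cls x hx a ha.1
      exact hg ▸ hN.conj_mem x hxN g
    rcases key x hx a haN ha.2.2.symm with h | h
    · exact ctx.ne_one ha.1 h
    · exact ha.2.1 h
  have hfree : ∀ x ∈ D, ∀ n ∈ N, Commute n x → n = 1 := fun x hx n hn hc =>
    (key x hx n hn hc).resolve_right fun h => hnd x hx (h ▸ hn)
  have hinv : ∀ x ∈ D, ∀ n ∈ N, x * n * x = n⁻¹ := by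
    intro x hx n hn
    let φ : N →* N :=
      { toFun := fun m => ⟨x * m * x, by
          have := hN.conj_mem m m.2 x
          rwa [ctx.inv_eq hx] at this⟩
        map_one' := Subtype.ext (by simp [ctx.sq hx])
        map_mul' := fun a b => Subtype.ext (show x * (a * b : G) * x = x * a * x * (x * b * x) by
          rw [show x * (a : G) * x * (x * b * x) = x * a * (x * x) * b * x by group, ctx.sq hx, mul_one]; group) }
    have hfp : MonoidHom.FixedPointFree φ := fun m hm => Subtype.ext (hfree x hx m m.2 (by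
      have e : x * (m : G) * x = m := congrArg Subtype.val hm
      show (m : G) * x = x * m
      calc (m : G) * x = x * m * x * x := by rw [e]
        _ = x * m * (x * x) := by group
        _ = _ := by rw [ctx.sq hx, mul_one]))
    have h2 : Function.Involutive φ := fun m => Subtype.ext (show x * (x * (m : G) * x) * x = m by
      rw [show x * (x * (m : G) * x) * x = (x * x) * m * (x * x) by group, ctx.sq hx, one_mul, mul_one])
    exact congrArg Subtype.val (congrFun (hfp.coe_eq_inv_of_involutive h2) ⟨n, hn⟩)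
  refine le_bot_iff.1 fun n hn => Subgroup.mem_bot.2 ?_
  obtain ⟨a, ha⟩ := exists_nb ctx hd
  obtain ⟨g, hg⟩ := ctx.cls d hd a ha.1
  -- every element centralises the subgroup
  have hcen : ∀ k : G, k ∈ Subgroup.centralizer (N : Set G) := by
    intro k
    have hk : k ∈ commutator G := perfect ctx hd ▸ Subgroup.mem_top k
    refine (show commutator G ≤ Subgroup.centralizer (N : Set G) from ?_) hk
    rw [_root_.commutator_def, Subgroup.commutator_le]
    intro y _ z _
    have hclo : ∀ w : G, ∀ m ∈ N, w * m * w⁻¹ = m ∨ w * m * w⁻¹ = m⁻¹ := by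
      intro w
      have hw : w ∈ Subgroup.closure D := gen_top ctx hd ▸ Subgroup.mem_top w
      have hsign : (∀ m ∈ N, w * m * w⁻¹ = m) ∨ ∀ m ∈ N, w * m * w⁻¹ = m⁻¹ := by
        induction hw using Subgroup.closure_induction with
        | mem x hx => exact Or.inr fun m hm => by rw [ctx.inv_eq hx]; exact hinv x hx m hm
        | one => exact Or.inl fun m _ => by group
        | mul u v _ _ hu hv =>
          have e : ∀ m, u * v * m * (u * v)⁻¹ = u * (v * m * v⁻¹) * u⁻¹ := fun m => by group
          rcases hu with hu | hu <;> rcases hv with hv | hv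
          · exact Or.inl fun m hm => by rw [e, hv m hm, hu m hm]
          · exact Or.inr fun m hm => by rw [e, hv m hm, hu _ (inv_mem hm)]
          · exact Or.inr fun m hm => by rw [e, hv m hm, hu m hm]
          · exact Or.inl fun m hm => by rw [e, hv m hm, hu _ (inv_mem hm), inv_inv]
        | inv u _ hu =>
          rcases hu with hu | hu
          · exact Or.inl fun m hm => by
              have := hu m hm
              calc u⁻¹ * m * u⁻¹⁻¹ = u⁻¹ * (u * m * u⁻¹) * u := by rw [this, inv_inv]
                _ = m := by group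
          · exact Or.inr fun m hm => by
              have := hu _ (inv_mem hm)
              rw [inv_inv] at this
              calc u⁻¹ * m * u⁻¹⁻¹ = u⁻¹ * (u * m⁻¹ * u⁻¹) * u := by rw [this, inv_inv]
                _ = m⁻¹ := by group
      exact fun m hm => hsign.imp (fun h => h m hm) fun h => h m hm
    rw [Subgroup.mem_centralizer_iff]
    intro m hm
    have e : ⁅y, z⁆ * m * ⁅y, z⁆⁻¹ = y * (z * (y⁻¹ * (z⁻¹ * m * z) * y) * z⁻¹) * y⁻¹ := by
      rw [commutatorElement_def]; group
    have hcm : ⁅y, z⁆ * m * ⁅y, z⁆⁻¹ = m := by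
      rw [e]
      have comm : ∀ u v : G, ∀ m ∈ N, u * (v * m * v⁻¹) * u⁻¹ = v * (u * m * u⁻¹) * v⁻¹ := fun u v m hm => by
        rcases hclo v m hm with h | h <;> rcases hclo u m hm with h' | h'
        · rw [h, h', h]
        · rw [h, h', ← conj_inv, h]
        · rw [h', h, ← conj_inv, h']
        · rw [h', h, ← conj_inv, ← conj_inv, h', h]
      have hm1 : y⁻¹ * (z⁻¹ * m * z) * y ∈ N := by
        have := hN.conj_mem _ (hN.conj_mem m hm z⁻¹) y⁻¹
        simpa using this
      rw [comm y z _ hm1]
      group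
    rw [mul_inv_eq_iff_eq_mul] at hcm
    exact hcm.symm
  exact hfree d hd n hn (Subgroup.mem_centralizer_iff.1 (hcen d) n hn)

theorem hsol {d : G} (hd : d ∈ D) : ∀ N : Subgroup G, N.Normal → Group.IsSolvable ↥N → N ≤ commutator G →
    N ≤ Subgroup.center G := fun _ hN hs _ => (solvable_eq_bot ctx hd hN hs).le.trans bot_le

theorem hperf {d : G} (hd : d ∈ D) : ⁅commutator G, commutator G⁆ = commutator G := by
  rw [perfect ctx hd, ← _root_.commutator_def, perfect ctx hd]

theorem isPrimitive {d : G} (hd : d ∈ D) : Cfsg.IsPrimitiveUnderConj D := by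
  obtain ⟨a, ha⟩ := exists_nb ctx hd
  exact FischerPrimitive.primitive (isGroup ctx hd) ctx.cls ⟨d, hd, a, ha.1, ha.2.1.symm⟩ (hperf ctx hd)
    (hsol ctx hd)

end CfsgLib.Sporadic.U62Centralizer
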