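import Cfsg.Agent.Lib.Sporadic.U62Centralizer.Component
import Cfsg.Agent.Lib.Sporadic.U62Centralizer.Codes
import Cfsg.Agent.Lib.Sporadic.U62Centralizer.TripleData

/-!
# Products of two and of three commuting members
-/

set_option autoImplicit false
set_option linter.unusedSectionVars false
set_option maxRecDepth 100000

namespace CfsgLib.Sporadic.U62Centralizer

open Matrix CfsgLib.Sporadic.FischerTransitivity
open CfsgLib.Sporadic.MTwentyTwo (P Vec K pts tp TP orth SU)
open CfsgLib.Sporadic.U62Lift (hf mat)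

/-- Transvections of orthogonal points add up. -/
theorem hf_shift {x q r : Vec} (h : hf r q = 0) (c : K) : hf (x + c • r) q = hf x q := by
  rw [U62Lift.hf_add_left, U62Lift.hf_smul_left, h, mul_zero, add_zero]

theorem scalar_one {x p y : Vec} (hxp : hf x p ≠ 0) (hyp : hf y p = 0) {c : K} (h : x + y = c • x) : c = 1 ∧ y = 0 := by
  have e : (c - 1) * hf x p = 0 := by
    have := congrArg (hf · p) h
    simp only [U62Lift.hf_add_left, U62Lift.hf_smul_left, hyp, add_zero] at this
    linear_combination -this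
  have hc : c = 1 := sub_eq_zero.1 ((mul_eq_zero.1 e).resolve_right hxp)
  refine ⟨hc, ?_⟩
  rw [hc, one_smul] at h
  exact add_left_cancel (h.trans (add_zero x).symm)

theorem exists_scalar {x : Vec} (hx : x ∈ pts) (g : SU)
    (h : (QuotientGroup.mk g : P) * tp x * (QuotientGroup.mk g : P)⁻¹ = tp x) : ∃ c : K, mat g *ᵥ x = c • x := by
  have h1 := MTwentyTwo.tp_inj (MTwentyTwo.mk_conj g hx).1 hx ((MTwentyTwo.mk_conj g hx).2.symm.trans h)
  have h0 : mat g *ᵥ x ≠ 0 := fun e0 => MTwentyTwo.ne_zero_of_mem hx (by rw [← h1, e0, MTwentyTwo.nz_eq, smul_zero])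
  exact ⟨MTwentyTwo.sp (mat g *ᵥ x), by
    conv_rhs => arg 2; rw [← h1, MTwentyTwo.nz_eq]
    rw [smul_inv_smul₀ (MTwentyTwo.sp_ne h0)]⟩

theorem conj_of_commute {a x : P} (h : Commute a x) : a * x * a⁻¹ = x := by rw [h.eq, mul_inv_cancel_right]

/-- A member commuting with the product of two commuting transvections commutes with both. -/
theorem fix_two {p q x : P} (hp : p ∈ TP) (hq : q ∈ TP) (hx : x ∈ TP) (hpq : Commute p q) (hne : p ≠ q)
    (hxp : ¬ Commute x p) (h : Commute (p * q) x) : False := by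
  obtain ⟨a, ha, rfl⟩ := hp
  obtain ⟨b, hb, rfl⟩ := hq
  obtain ⟨v, hv, rfl⟩ := hx
  have hK := MTwentyTwo.hK
  have hab := MTwentyTwo.orth_iff.1 ((MTwentyTwo.tp_commute_iff ha hb).1 hpq)
  have hva : hf v a ≠ 0 := fun h0 => hxp ((MTwentyTwo.tp_commute_iff hv ha).2 (MTwentyTwo.orth_iff.2 h0))
  obtain ⟨c, hc⟩ := exists_scalar hv (U62Lift.tr hK a * U62Lift.tr hK b)
    (by rw [QuotientGroup.mk_mul]; exact conj_of_commute h)
  have hba := U62Lift.hf_eq_zero_symm hK hab
  rw [U62Lift.mat_mul, U62Lift.mat_tr hK (MTwentyTwo.iso_of_mem hb), U62Lift.mat_tr hK (MTwentyTwo.iso_of_mem ha),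
    hf_shift hba, add_assoc] at hc
  obtain ⟨-, h0⟩ := scalar_one hva (by
    rw [U62Lift.hf_add_left, U62Lift.hf_smul_left, U62Lift.hf_smul_left, hba, MTwentyTwo.iso_of_mem ha,
      mul_zero, mul_zero, add_zero]) hc
  by_cases hvb : hf v b = 0
  · rw [hvb, zero_smul, zero_add] at h0
    exact MTwentyTwo.ne_zero_of_mem ha ((smul_eq_zero.1 h0).resolve_left hva)
  · refine hne (congrArg tp ?_)
    have e : a = (-((hf v a)⁻¹ * hf v b)) • b := by
      rw [neg_smul, mul_smul, eq_neg_iff_add_eq_zero]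
      calc a + (hf v a)⁻¹ • hf v b • b = (hf v a)⁻¹ • (hf v a • a) + (hf v a)⁻¹ • hf v b • b := by
            rw [inv_smul_smul₀ hva]
        _ = 0 := by rw [← smul_add, add_comm, h0, smul_zero]
    rw [← MTwentyTwo.nz_self ha, e, MTwentyTwo.nz_smul (neg_ne_zero.2 (mul_ne_zero (inv_ne_zero hva) hvb)),
      MTwentyTwo.nz_self hb]

/-- A member fixed by a product of three commuting transvections commutes with one of them. -/
theorem fix_three {p q r x : P} (hp : p ∈ TP) (hq : q ∈ TP) (hr : r ∈ TP) (hx : x ∈ TP) (hpq : Commute p q)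
    (hpr : Commute p r) (hqr : Commute q r) (hxp : ¬ Commute x p) (hxq : ¬ Commute x q) (hxr : ¬ Commute x r)
    (h : Commute (p * q * r) x) : False := by
  obtain ⟨a, ha, rfl⟩ := hp
  obtain ⟨b, hb, rfl⟩ := hq
  obtain ⟨d, hd, rfl⟩ := hr
  obtain ⟨v, hv, rfl⟩ := hx
  have hK := MTwentyTwo.hK
  have hab := MTwentyTwo.orth_iff.1 ((MTwentyTwo.tp_commute_iff ha hb).1 hpq)
  have had := MTwentyTwo.orth_iff.1 ((MTwentyTwo.tp_commute_iff ha hd).1 hpr)
  have hbd := MTwentyTwo.orth_iff.1 ((MTwentyTwo.tp_commute_iff hb hd).1 hqr)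
  have hne : ∀ {w : Vec}, w ∈ pts → ¬ Commute (tp v) (tp w) → hf v w ≠ 0 := fun hw hn h0 =>
    hn ((MTwentyTwo.tp_commute_iff hv hw).2 (MTwentyTwo.orth_iff.2 h0))
  have ha0 := hne ha hxp
  have hb0 := hne hb hxq
  have hd0 := hne hd hxr
  obtain ⟨c, hc⟩ := exists_scalar hv (U62Lift.tr hK a * U62Lift.tr hK b * U62Lift.tr hK d)
    (by rw [QuotientGroup.mk_mul, QuotientGroup.mk_mul]; exact conj_of_commute h)
  have hba := U62Lift.hf_eq_zero_symm hK hab
  have hda := U62Lift.hf_eq_zero_symm hK had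
  have hdb := U62Lift.hf_eq_zero_symm hK hbd
  rw [U62Lift.mat_mul, U62Lift.mat_mul, U62Lift.mat_tr hK (MTwentyTwo.iso_of_mem hd),
    U62Lift.mat_tr hK (MTwentyTwo.iso_of_mem hb), hf_shift hdb, U62Lift.mat_tr hK (MTwentyTwo.iso_of_mem ha),
    hf_shift hba, hf_shift hda, add_assoc, add_assoc] at hc
  obtain ⟨-, h0⟩ := scalar_one ha0 (by
    simp only [U62Lift.hf_add_left, U62Lift.hf_smul_left, hba, hda, MTwentyTwo.iso_of_mem ha, mul_zero, add_zero]) hc
  have h1 := congrArg (hf v ·) h0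
  simp only [U62Lift.hf_add_right hK, U62Lift.hf_smul_right] at h1
  have hcube : ∀ {t : K}, t ≠ 0 → t ^ 2 * t = 1 := fun {t} ht =>
    mul_left_cancel₀ ht (by rw [mul_one]; linear_combination U62Lift.pow_four hK t)
  rw [hcube ha0, hcube hb0, hcube hd0, show hf v 0 = 0 by simp [hf, Cfsg.hermForm]] at h1
  exact one_ne_zero (α := K) (by linear_combination h1 - U62Lift.two_zero hK)

variable {G : Type*} [Group G] [Finite G] {D : Set G} (ctx : Ctx D)
include ctx

/-- A member of the component commuting with the product of a pair commutes with both. -/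
theorem pair_commute {d a b u : G} (hd : d ∈ D) (ha : a ∈ comp D d) (hb : b ∈ Nb D a) (hu : u ∈ comp D d)
    (h : Commute u (a * b)) : Commute u a ∧ Commute u b := by
  have hab : Commute a b := hb.2.2
  have hua : Commute u a := by
    by_contra hua
    have hub : ¬ Commute u b := fun hub => hua (by
      have := h.mul_right hub.inv_right
      rwa [mul_inv_cancel_right] at this)
    have hne : u ≠ a := fun e => hua (e ▸ Commute.refl u)
    obtain ⟨s₀, hs₀u, hs₀a⟩ := ((near_trans ctx hu.1 hd ha.1 (near_symm ctx hu.2) ha.2).resolve_left hne).resolve_left hua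
    obtain ⟨s, hsu, hsa, hsb⟩ : ∃ s, s ∈ Nb D u ∧ s ∈ Nb D a ∧ Commute s b := by
      by_cases hc : Commute s₀ b
      · exact ⟨s₀, hs₀u, hs₀a, hc⟩
      · obtain ⟨s, h1, h2, -, h4⟩ := nb_step ctx hu.1 ha.1 hua hs₀u hs₀a hb hc
        exact ⟨s, h1, h2, h4⟩
    have hsb' : s ≠ b := fun e => hub (e ▸ hsu.2.2)
    obtain ⟨π, C⟩ := ctx.exists_chart hsu.1
    have hau : a ∈ Nb D s := ctx.nb_symm ha.1 hsa
    have huu : u ∈ Nb D s := ctx.nb_symm hu.1 hsu
    have hbb : b ∈ Nb D s := ⟨hb.1, Ne.symm hsb', hsb⟩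
    refine fix_two (C.mem hau) (C.mem hbb) (C.mem huu) ((C.comm hau hbb).2 hab)
      (fun e => hb.2.1 (C.inj hau hbb e).symm) (fun h => hua ((C.comm huu hau).1 h)) ?_
    have hc := hau.2.2.symm
    have hc' := hbb.2.2.symm
    show π a * π b * π u = π u * (π a * π b)
    rw [← C.mul hc hc', ← C.mul (hc.mul_left hc') huu.2.2.symm, ← C.mul huu.2.2.symm (hc.mul_left hc'), h.eq]
  refine ⟨hua, ?_⟩
  have := hua.inv_right.mul_right h
  rwa [inv_mul_cancel_left] at this

omit ctx in
theorem four_ok : CosetCert.allBelow (fun i => CosetCert.allBelow (fun j => CosetCert.allBelow (fun k =>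
    Nat.beq i j || Nat.beq i k || Nat.beq j k || !((List.range 22).any fun l =>
      !(Nat.beq l i || Nat.beq l j || Nat.beq l k) &&
        Nat.beq (Nat.xor (code i) (Nat.xor (code j) (code k))) (code l))) 22) 22) 22 = true := by decide +kernel

omit ctx in
/-- Four distinct members of the clique are independent. -/
theorem four_ne {i j k l : ℕ} (hi : i < 22) (hj : j < 22) (hk : k < 22) (hl : l < 22) (hij : i ≠ j) (hik : i ≠ k)
    (hjk : j ≠ k) (hli : l ≠ i) (hlj : l ≠ j) (hlk : l ≠ k) : code i ^^^ (code j ^^^ code k) ≠ code l := by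
  intro e
  have h := CosetCert.of_allBelow (CosetCert.of_allBelow (CosetCert.of_allBelow four_ok i hi) j hj) k hk
  have hb : ∀ {a b : ℕ}, a ≠ b → Nat.beq a b = false := fun {a b} hab =>
    Bool.eq_false_iff.2 fun h => hab (Nat.eq_of_beq_eq_true h)
  rw [hb hij, hb hik, hb hjk, Bool.false_or, Bool.false_or, Bool.false_or, Bool.not_eq_true', List.any_eq_false] at h
  refine h l (List.mem_range.2 hl) ?_
  rw [hb hli, hb hlj, hb hlk]
  simp only [Bool.or_self, Bool.not_false, Bool.true_and]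
  exact Nat.beq_eq.mpr e

/-- The product of a pair determines it. -/
theorem pair_unique {d a b u u' : G} (hd : d ∈ D) (ha : a ∈ comp D d) (hb : b ∈ Nb D a) (hu : u ∈ comp D d)
    (hu' : u' ∈ Nb D u) (h : a * b = u * u') : (u = a ∧ u' = b) ∨ (u = b ∧ u' = a) := by
  have hu'd : u' ∈ comp D d := nb_subset ctx hd hu hu'
  have c1 : Commute u (a * b) := h ▸ (Commute.refl u).mul_right hu'.2.2
  have c2 : Commute u' (a * b) := h ▸ hu'.2.2.symm.mul_right (Commute.refl u')
  obtain ⟨hua, hub⟩ := pair_commute ctx hd ha hb hu c1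
  obtain ⟨hu'a, hu'b⟩ := pair_commute ctx hd ha hb hu'd c2
  by_cases e1 : u = a
  · exact Or.inl ⟨e1, (mul_left_cancel (e1 ▸ h : a * b = a * u')).symm⟩
  by_cases e2 : u = b
  · refine Or.inr ⟨e2, ?_⟩
    rw [e2, hb.2.2.eq] at h
    exact (mul_left_cancel h).symm
  exfalso
  have e3 : u' ≠ a := fun e => e2 (by
    rw [e, hua.eq] at h
    exact (mul_left_cancel h).symm)
  have e4 : u' ≠ b := fun e => e1 (by
    rw [e] at h
    exact (mul_right_cancel h).symm)
  have hU : ∀ y ∈ ({b, u, u'} : Set G), y = a ∨ y ∈ Nb D a := by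
    rintro y (rfl | rfl | rfl)
    · exact Or.inr hb
    · exact Or.inr ⟨hu.1, e1, hua.symm⟩
    · exact Or.inr ⟨hu'.1, e3, hu'a.symm⟩
  obtain ⟨κ, -, hκ, hinj, hprod⟩ := exists_numbering ctx ha.1 hU (by
    rintro y (rfl | rfl | rfl) z (rfl | rfl | rfl)
    exacts [Commute.refl _, hub.symm, hu'b.symm, hub, Commute.refl _, hu'.2.2, hu'b, hu'.2.2.symm, Commute.refl _])
  have mA : a ∈ insert a ({b, u, u'} : Set G) := Or.inl rfl
  have mB : b ∈ insert a ({b, u, u'} : Set G) := Or.inr (Or.inl rfl)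
  have mU : u ∈ insert a ({b, u, u'} : Set G) := Or.inr (Or.inr (Or.inl rfl))
  have mV : u' ∈ insert a ({b, u, u'} : Set G) := Or.inr (Or.inr (Or.inr rfl))
  have h0 := (hprod [a, b, u, u'] (by
    intro y hy
    simp only [List.mem_cons, List.not_mem_nil, or_false] at hy
    rcases hy with rfl | rfl | rfl | rfl <;> assumption)).1 (by
    simp only [List.prod_cons, List.prod_nil, mul_one]
    rw [← mul_assoc, ← mul_assoc, mul_assoc, ← h]
    calc a * b * (a * b) = a * (b * a) * b := by group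
      _ = a * (a * b) * b := by rw [hb.2.2.eq]
      _ = (a * a) * (b * b) := by group
      _ = 1 := by rw [ctx.sq ha.1, ctx.sq hb.1, one_mul])
  simp only [List.map_cons, List.map_nil, codeSum, List.foldr_cons, List.foldr_nil] at h0
  refine four_ne (hκ a mA) (hκ b mB) (hκ u mU) (hκ u' mV)
    (fun e => hb.2.1 (hinj mA mB e).symm) (fun e => e1 (hinj mA mU e).symm) (fun e => e2 (hinj mB mU e).symm)
    (fun e => e3 (hinj mV mA e)) (fun e => e4 (hinj mV mB e)) (fun e => hu'.2.1 (hinj mV mU e)) ?_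
  change code (κ a) ^^^ (code (κ b) ^^^ (code (κ u) ^^^ (code (κ u') ^^^ 0))) = 0 at h0
  rw [Nat.xor_zero] at h0
  rw [← Nat.xor_eq_zero_iff, ← h0]
  simp only [Nat.xor_assoc]

/-- The bits of a row of the table of triples. -/
def tripleMask (T : ℕ) : ℕ := (tripleMasks >>> (22 * T)) % 4194304

omit ctx in
theorem triple_ok : CosetCert.allBelow (fun k => CosetCert.allBelow (fun l => CosetCert.allBelow (fun m =>
    !(Nat.blt k l && Nat.blt l m) ||
      (Nat.testBit (tripleMask (Nat.xor (code k) (Nat.xor (code l) (code m)))) k &&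
       Nat.testBit (tripleMask (Nat.xor (code k) (Nat.xor (code l) (code m)))) l &&
       Nat.testBit (tripleMask (Nat.xor (code k) (Nat.xor (code l) (code m)))) m)) 22) 22) 22 = true := by
  decide +kernel

omit ctx in
theorem triple_count : CosetCert.allBelow (fun T =>
    Nat.ble ((List.range 22).filter fun k => Nat.testBit (tripleMask T) k).length 6) 1024 = true := by
  decide +kernel

omit ctx in
theorem triple_mem {k l m : ℕ} (hk : k < 22) (hl : l < 22) (hm : m < 22) (hkl : k ≠ l) (hkm : k ≠ m) (hlm : l ≠ m) :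
    Nat.testBit (tripleMask (code k ^^^ (code l ^^^ code m))) k = true := by
  have key : ∀ a b c : ℕ, a < b → b < c → c < 22 →
      Nat.testBit (tripleMask (code a ^^^ (code b ^^^ code c))) a = true ∧
      Nat.testBit (tripleMask (code a ^^^ (code b ^^^ code c))) b = true ∧
      Nat.testBit (tripleMask (code a ^^^ (code b ^^^ code c))) c = true := by
    intro a b c hab hbc hc
    have h := CosetCert.of_allBelow (CosetCert.of_allBelow (CosetCert.of_allBelow triple_ok a (by omega)) b (by omega)) c hc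
    simp only [show Nat.blt a b = true from Nat.blt_eq.mpr hab, show Nat.blt b c = true from Nat.blt_eq.mpr hbc,
      Bool.and_self, Bool.not_true, Bool.false_or, Bool.and_eq_true] at h
    exact ⟨h.1.1, h.1.2, h.2⟩
  wlog h : l < m generalizing l m
  · rw [Nat.xor_comm (code l)]
    exact this hm hl hkm hkl hlm.symm (by omega)
  rcases Nat.lt_or_ge k l with h1 | h1
  · exact (key k l m h1 h hm).1
  rcases Nat.lt_or_ge k m with h2 | h2
  · rw [Nat.xor_left_comm]
    exact (key l k m (by omega) h2 hm).2.1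
  · rw [Nat.xor_comm]
    rw [Nat.xor_assoc]
    exact (key l m k h (by omega) hk).2.2

end CfsgLib.Sporadic.U62Centralizer
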