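import Mathlib.Data.Nat.Notation

/-!
# The certificate that a closed set meeting every line through a point meets a given hyperplane
-/

set_option autoImplicit false

namespace CfsgLib.Sporadic.U62Centralizer

/-- A search tree: at a node one of three points of a line is in the set; at a leaf products of
members found so far reach the hyperplane. -/
inductive SearchTree where
  | leaf (steps : List (ℕ × ℕ))
  | node (start : ℕ) (options : List ℕ) (t₁ t₂ t₃ : SearchTree)

/-- The tree. -/
def searchTree : SearchTree :=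
  (.node 80 [80, 165, 245]
    (.node 101 [101, 181, 208]
    (.leaf [(1, 0)])
    (.node 272 [272, 549, 821]
    (.leaf [(2, 0)])
    (.leaf [(1, 0), (3, 2)])
    (.leaf [(2, 1)]))
    (.node 272 [272, 549, 821]
    (.leaf [(2, 0)])
    (.leaf [(1, 0), (2, 0), (4, 3)])
    (.leaf [(2, 0), (3, 1)])))
    (.node 101 [101, 181, 208]
    (.node 272 [272, 549, 821]
    (.leaf [(2, 0), (3, 1)])
    (.leaf [(2, 0)])
    (.leaf [(1, 0), (2, 0), (4, 3)]))
    (.leaf [(1, 0)])
    (.node 272 [272, 549, 821]
    (.leaf [(2, 1)])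
    (.leaf [(2, 0)])
    (.leaf [(1, 0), (3, 2)])))
    (.node 101 [101, 181, 208]
    (.node 272 [272, 549, 821]
    (.leaf [(1, 0), (3, 2)])
    (.leaf [(2, 1)])
    (.leaf [(2, 0)]))
    (.node 272 [272, 549, 821]
    (.leaf [(1, 0), (2, 0), (4, 3)])
    (.leaf [(2, 0), (3, 1)])
    (.leaf [(2, 0)]))
    (.leaf [(1, 0)])))

end CfsgLib.Sporadic.U62Centralizer
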