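import Cfsg.Agent.Lib.Sporadic.U62Centralizer.Connected
import Cfsg.Agent.Lib.Sporadic.FiTransfer.SylowTwo.Statement

/-!
# The Thompson subgroup of the centraliser of a transposition

It is the elementary abelian group generated by twenty-two commuting transpositions, which its
normaliser permutes transitively.
-/

set_option autoImplicit false
set_option linter.unusedSectionVars false
set_option maxRecDepth 100000

open Cfsg.Spor

namespace CfsgLib.Sporadic.U62Centralizer

open CfsgLib.Sporadic.CosetCert CfsgLib.Sporadic.CosetCert.FiP CfsgLib.Sporadic.CosetCert.FiP.OutFi22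
open CfsgLib.Sporadic.FiTransfer
open CfsgLib.Sporadic.FischerTransitivity (Nb)
open CfsgLib.Sporadic.CosetCert.FiData (table)

attribute [local irreducible] PTab.img CfsgLib.Sporadic.FiTransfer.PLocal.tap SylowTwo.actV SylowTwo.mulAt
  SylowTwo.permAt

variable {G : Type*} [Group G] [Finite G] {D : Set G} (ctx : Ctx D)
include ctx

/-- At most twenty-two members commute pairwise. -/
theorem clique_le {y : G} (hy : y ∈ D) {K : Set G} (hK : ∀ z ∈ K, z = y ∨ z ∈ Nb D y)
    (hKK : ∀ z ∈ K, ∀ w ∈ K, Commute z w) : K.ncard ≤ 22 := by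
  obtain ⟨κ, -, hlt, hinj, -⟩ := exists_numbering ctx hy hK hKK
  have h := Set.ncard_le_ncard_of_injOn (t := Set.Iio 22) κ
    (fun z hz => hlt z (Set.mem_insert_of_mem _ hz)) (hinj.mono (Set.subset_insert _ _)) (Set.finite_Iio _)
  simpa using h

/-- Two sets of twenty-two pairwise commuting members with a common member are conjugate under its
centraliser. -/
theorem clique_move {y : G} (hy : y ∈ D) {K K' : Set G} (hK : ∀ z ∈ K, z = y ∨ z ∈ Nb D y)
    (hKK : ∀ z ∈ K, ∀ w ∈ K, Commute z w) (hyK : y ∈ K) (hn : K.ncard = 22)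
    (hK' : ∀ z ∈ K', z = y ∨ z ∈ Nb D y) (hKK' : ∀ z ∈ K', ∀ w ∈ K', Commute z w) (hyK' : y ∈ K')
    (hn' : K'.ncard = 22) : ∃ k, Commute k y ∧ (fun z => k * z * k⁻¹) '' K = K' := by
  classical
  obtain ⟨M, hM⟩ := ctx.nb y hy
  set Q := {z : G | Commute z y ∧ ∃ e : Pt, IsE e ∧ (e : ℕ) ∈ clique ∧ M.mo z = dp e}
  have hQ : Q.ncard ≤ 21 := by
    have h0 : ∀ z ∈ Q, ∃ e : Pt, IsE e ∧ (e : ℕ) ∈ clique ∧ M.mo z = dp e := fun z hz => hz.2
    haveI : Nonempty Pt := ⟨pt⟩
    choose! f hf1 hf2 hf3 using h0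
    have h := Set.ncard_le_ncard_of_injOn (t := ↑(clique.toFinset.erase 0)) (fun z => (f z : ℕ))
      (fun z hz => by
        rw [Finset.mem_coe, Finset.mem_erase]
        refine ⟨fun e0 => ?_, List.mem_toFinset.2 (hf2 z hz)⟩
        have := (isE_iff _).2 (hf1 z hz)
        rw [isE, show (f z : ℕ) = 0 from e0] at this
        simp at this)
      (fun z (hz : z ∈ Q) w (hw : w ∈ Q) e => M.mo_inj hz.1 hw.1 (by rw [hf3 z hz, hf3 w hw, Fin.ext e]))
      (Set.toFinite _)
    rw [Set.ncard_coe_finset] at h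
    exact h.trans (le_of_eq (by decide))
  have key : ∀ L : Set G, (∀ z ∈ L, z = y ∨ z ∈ Nb D y) → (∀ z ∈ L, ∀ w ∈ L, Commute z w) → y ∈ L →
      L.ncard = 22 → ∃ k, Commute k y ∧ (fun z => k * z * k⁻¹) '' L = insert y Q := by
    intro L hL hLL hyL hnL
    let V : Finset G := (Set.toFinite (L \ {y})).toFinset
    have hV : ∀ {z : G}, z ∈ V.toList ↔ z ∈ L ∧ z ≠ y := fun {z} => by
      rw [Finset.mem_toList, Set.Finite.mem_toFinset, Set.mem_sdiff, Set.mem_singleton_iff]
    have hpt : ∀ z ∈ V.toList, ∃ e : Pt, IsE e ∧ M.mo z = dp e := fun z hz => by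
      obtain ⟨h1, h2⟩ := hV.1 hz
      obtain ⟨-, e, he, h⟩ := (hM z).1 ((hL z h1).resolve_left h2)
      exact ⟨e, he, h⟩
    haveI : Nonempty Pt := ⟨pt⟩
    choose! pf hp1 hp2 using hpt
    have hc : ∀ z ∈ L, Commute z y := fun z hz => hLL z hz y hyL
    obtain ⟨a, ha, hin⟩ := exists_into (V.toList.map pf) (fun e he => by
        obtain ⟨z, hz, rfl⟩ := List.mem_map.1 he
        exact hp1 z hz) (fun u hu v hv => by
        obtain ⟨z, hz, rfl⟩ := List.mem_map.1 hu
        obtain ⟨w, hw, rfl⟩ := List.mem_map.1 hv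
        rw [rel_iff_commute, ← hp2 z hz, ← hp2 w hw, M.mo_commute (hc z (hV.1 hz).1) (hc w (hV.1 hw).1)]
        exact hLL z (hV.1 hz).1 w (hV.1 hw).1)
    obtain ⟨k, hk, rfl⟩ := M.exists_mo ha
    refine ⟨k, hk, ?_⟩
    refine Set.eq_of_subset_of_ncard_le ?_ ?_ (Set.toFinite _)
    · rintro _ ⟨z, hz, rfl⟩
      by_cases hzy : z = y
      · left
        show k * z * k⁻¹ = y
        rw [hzy, hk.eq, mul_inv_cancel_right]
      · right
        have hzV : z ∈ V.toList := hV.2 ⟨hz, hzy⟩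
        exact ⟨(hk.mul_left (hc z hz)).mul_left hk.inv_left, hom (M.mo k) (pf z), (hp1 z hzV).map (M.mo_mem hk),
          hin _ (List.mem_map_of_mem hzV), by rw [M.mo_conj (hc z hz) hk, hp2 z hzV, conj_dp]⟩
    · rw [Set.ncard_image_of_injective _ (fun u v e => mul_left_cancel (mul_right_cancel e)), hnL]
      exact (Set.ncard_insert_le _ _).trans (by omega)
  obtain ⟨k, hk, e⟩ := key K hK hKK hyK hn
  obtain ⟨k', hk', e'⟩ := key K' hK' hKK' hyK' hn'
  refine ⟨k'⁻¹ * k, hk'.inv_left.mul_left hk, ?_⟩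
  calc (fun z => k'⁻¹ * k * z * (k'⁻¹ * k)⁻¹) '' K
      = (fun z => k'⁻¹ * z * k') '' ((fun z => k * z * k⁻¹) '' K) := by
        rw [Set.image_image]
        exact Set.image_congr fun z _ => by group
    _ = (fun z => k'⁻¹ * z * k') '' ((fun z => k' * z * k'⁻¹) '' K') := by rw [e, e']
    _ = K' := by
        rw [Set.image_image]
        exact (Set.image_congr fun z _ => by group).trans (Set.image_id' K')

/-- The Thompson subgroup of a Sylow 2-subgroup of the centraliser of a member. -/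
theorem thompson_centralizer (h : ModelIso G D) {d : G} (hd : d ∈ D)
    (S : Sylow 2 ↥(Subgroup.centralizer ({d} : Set G))) (A : Subgroup G)
    (hA : A = (Cfsg.thompsonSubgroupOf 2 (S : Subgroup ↥(Subgroup.centralizer ({d} : Set G)))).map
      (Subgroup.centralizer ({d} : Set G)).subtype) :
    Cfsg.IsElementaryAbelian 2 A ∧ Nat.card A = 2 ^ 10 ∧ {x : G | x ∈ A ∧ x ∈ D}.ncard = 22 ∧
      ∀ x ∈ A, ∀ y ∈ A, x ∈ D → y ∈ D → ∃ n ∈ Subgroup.normalizer (A : Set G), n * x * n⁻¹ = y := by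
  classical
  let C := Subgroup.centralizer ({d} : Set G)
  have hD := threeTransposition ctx
  obtain ⟨e₀, he₀⟩ := h
  have := SylowTwo.finite'
  have : Fact (Nat.Prime 2) := ⟨Nat.prime_two⟩
  obtain ⟨T, hST⟩ := (S.2.map C.subtype).exists_le_sylow
  obtain ⟨g, hg⟩ := MulAction.exists_smul_eq Fi22
    (Sylow.mapSurjective (f := e₀.toMonoidHom) e₀.surjective T : Sylow 2 Fi22) SylowTwo.sylT
  have hg' : ((T : Subgroup G).map e₀.toMonoidHom).map (MulAut.conj g).toMonoidHom = SylowTwo.syl :=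
    congrArg (fun S : Sylow 2 Fi22 => (S : Subgroup Fi22)) hg
  let f : G ≃* Fi22 := e₀.trans (MulAut.conj g)
  have hT : ∀ x, x ∈ (T : Subgroup G) ↔ f x ∈ SylowTwo.syl := fun x => by
    rw [← hg']
    constructor
    · exact fun hx => Subgroup.mem_map_of_mem _ (Subgroup.mem_map_of_mem _ hx)
    · rintro ⟨_, ⟨y, hy, rfl⟩, hy'⟩
      rwa [← f.injective (show f y = f x from hy')]
  have hD' : ∀ x, x ∈ D ↔ f x ∈ classTr := fun x => by
    rw [mem_iff_of_image e₀ he₀]
    refine ⟨fun hx => classTr_conj hx, fun hx => ?_⟩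
    have := classTr_conj (g := g⁻¹) hx
    simpa [f, mul_assoc] using this
  -- transpositions of the Sylow subgroup commute
  have hcomm : ∀ x ∈ D, x ∈ (T : Subgroup G) → ∀ y ∈ D, y ∈ (T : Subgroup G) → Commute x y := by
    intro x hx hxT y hy hyT
    have hx2 : x * x = 1 := ctx.sq hx
    have hy2 : y * y = 1 := ctx.sq hy
    have h1 : (x * y) ^ 2 = 1 := by
      rcases hD.2 x hx y hy with h2 | h3
      · exact h2
      · obtain ⟨k, hk⟩ := T.2 ⟨x * y, mul_mem hxT hyT⟩
        have hk' : (x * y) ^ 2 ^ k = 1 := congrArg Subtype.val hk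
        have h1 : (x * y) ^ Nat.gcd 3 (2 ^ k) = 1 := pow_gcd_eq_one.2 ⟨h3, hk'⟩
        rw [(Nat.Coprime.pow_right k (by norm_num : Nat.Coprime 3 2)).gcd_eq_one, pow_one] at h1
        rw [h1, one_pow]
    show x * y = y * x
    calc x * y = x * y * (x * y * (x * y))⁻¹ := by rw [← pow_two, h1, inv_one, mul_one]
      _ = y⁻¹ * x⁻¹ := by group
      _ = _ := by rw [inv_eq_of_mul_eq_one_right hx2, inv_eq_of_mul_eq_one_right hy2]
  -- `d` lies in the Sylow subgroup
  let d₀ : C := ⟨d, mem_cent.2 (Commute.refl d)⟩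
  have hd₀ : d₀ ∈ (S : Subgroup C) := by
    have hN : (Subgroup.zpowers d₀).Normal := by
      refine ⟨fun z hz c => ?_⟩
      obtain ⟨i, rfl⟩ := hz
      have hcd : Commute c d₀ := Subtype.ext (mem_cent.1 c.2).eq
      show c * d₀ ^ i * c⁻¹ ∈ _
      rw [(hcd.zpow_right i).eq, mul_inv_cancel_right]
      exact Subgroup.zpow_mem_zpowers _ _
    have hp : IsPGroup 2 (Subgroup.zpowers d₀) := IsPGroup.of_card (n := 1) (by
      rw [Nat.card_zpowers, pow_one]
      exact orderOf_eq_prime (by rw [pow_two]; exact Subtype.ext (ctx.sq hd))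
        fun e => ctx.ne_one hd (congrArg Subtype.val e))
    have hsup := S.3 (IsPGroup.to_sup_of_normal_right S.2 hp) le_sup_left
    exact hsup ▸ (le_sup_right : Subgroup.zpowers d₀ ≤ _) (Subgroup.mem_zpowers d₀)
  have hdT : d ∈ (T : Subgroup G) := hST ⟨d₀, hd₀, rfl⟩
  let E : Subgroup G := SylowTwo.eSub.comap f.toMonoidHom
  have hET : E ≤ T := fun x hx => (hT x).2 (SylowTwo.eSub_le hx)
  have hTD : ∀ x ∈ D, x ∈ (T : Subgroup G) → x ∈ E := by
    intro x hx hxT
    refine SylowTwo.mem_eSub_of_commute ((hT x).1 hxT) fun i hi => ?_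
    have hs := f.apply_symm_apply (SylowTwo.d i)
    have h2 := hcomm x hx hxT (f.symm (SylowTwo.d i)) ((hD' _).2 (hs.symm ▸ SylowTwo.d_mem_class hi))
      ((hT _).2 (hs.symm ▸ SylowTwo.eSub_le (SylowTwo.d_mem_eSub hi)))
    have h3 := h2.map f.toMonoidHom
    rwa [MulEquiv.coe_toMonoidHom, hs] at h3
  have hEA : Cfsg.IsElementaryAbelian 2 E := by
    refine ⟨⟨⟨?_⟩⟩, fun x hx => f.injective ?_⟩
    · rintro ⟨x, hx⟩ ⟨y, hy⟩
      obtain ⟨⟨hc⟩⟩ := SylowTwo.eSub_elementary.1
      refine Subtype.ext (f.injective ?_)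
      have := congrArg Subtype.val (hc ⟨f x, hx⟩ ⟨f y, hy⟩)
      show f (x * y) = f (y * x)
      rw [map_mul, map_mul]
      exact this
    · rw [map_pow, map_one]
      exact SylowTwo.eSub_elementary.2 _ hx
  have hEc' : ∀ x ∈ E, ∀ y ∈ E, Commute x y := fun x hx y hy => by
    obtain ⟨⟨hc⟩⟩ := hEA.1
    exact congrArg Subtype.val (hc ⟨x, hx⟩ ⟨y, hy⟩)
  have hdE : d ∈ E := hTD d hd hdT
  have hEC : E ≤ C := fun x hx => mem_cent.2 (hEc' x hx d hdE)
  have hTS : (T : Subgroup G).subgroupOf C = S := by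
    refine S.3 (T.2.comap_of_injective C.subtype C.subtype_injective) fun x hx => ?_
    exact hST ⟨x, hx, rfl⟩
  have hES : E.subgroupOf C ≤ S := fun x hx => hTS ▸ hET hx
  have hEcard : Nat.card E = 1024 := by
    rw [← Subgroup.card_map_of_injective (f := f.toMonoidHom) f.injective,
      Subgroup.map_comap_eq_self_of_surjective f.surjective, SylowTwo.card_eSub]
  -- the elementary subgroups of largest order
  set E' := E.subgroupOf C
  have hE'map : E'.map C.subtype = E := Subgroup.map_subgroupOf_eq_of_le hEC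
  have key : ∀ B : Subgroup ↥(S : Subgroup C), Cfsg.IsElementaryAbelian 2 B →
      Nat.card B ≤ 1024 ∧ (Nat.card B = 1024 → B = E'.subgroupOf S) := by
    intro B hB
    set B' := (B.map (S : Subgroup C).subtype).map C.subtype with hB'
    have hB'T : B' ≤ T := fun x ⟨y, hy, e⟩ => hST ⟨y, Subgroup.map_subtype_le B hy, e⟩
    have hle : B'.map f.toMonoidHom ≤ SylowTwo.syl := by
      rintro _ ⟨x, hx, rfl⟩
      exact (hT x).1 (hB'T hx)
    obtain ⟨h1, h2⟩ := SylowTwo.card_le hle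
      (Fusion.Thompson.isEA_map _ (Fusion.Thompson.isEA_map _ (Fusion.Thompson.isEA_map _ hB)))
    have hcard : Nat.card (B'.map f.toMonoidHom) = Nat.card B := by
      rw [Subgroup.card_map_of_injective (f := f.toMonoidHom) f.injective, hB',
        Subgroup.card_map_of_injective C.subtype_injective,
        Subgroup.card_map_of_injective (S : Subgroup C).subtype_injective]
    rw [hcard] at h1 h2
    refine ⟨by simpa using h1, fun hc => ?_⟩
    have h3 : B' = E := by
      show B' = SylowTwo.eSub.comap f.toMonoidHom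
      rw [← h2 (by simpa using hc), Subgroup.comap_map_eq_self_of_injective (f := f.toMonoidHom) f.injective]
    have h4 : B.map (S : Subgroup C).subtype = E' := by
      rw [show E' = E.comap C.subtype from rfl, ← h3, hB',
        Subgroup.comap_map_eq_self_of_injective C.subtype_injective]
    rw [← h4, Subgroup.subgroupOf, Subgroup.comap_map_eq_self_of_injective (S : Subgroup C).subtype_injective]
  have hE'EA : Cfsg.IsElementaryAbelian 2 (E'.subgroupOf (S : Subgroup C)) := by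
    refine ⟨⟨⟨fun x y => ?_⟩⟩, fun x hx => Subtype.ext (Subtype.ext (hEA.2 _ hx))⟩
    exact Subtype.ext (Subtype.ext (Subtype.ext (hEc' _ x.2 _ y.2).eq))
  have hE'c : Nat.card (E'.subgroupOf (S : Subgroup C)) = 1024 := by
    rw [Nat.card_congr (Subgroup.subgroupOfEquivOfLe hES).toEquiv,
      Nat.card_congr (Subgroup.subgroupOfEquivOfLe hEC).toEquiv, hEcard]
  have hmax : Cfsg.maxElementaryAbelianSubgroups 2 (S : Subgroup C) = {E'.subgroupOf S} := by
    ext B
    constructor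
    · rintro ⟨hB, hBmax⟩
      refine (key B hB).2 (le_antisymm (key B hB).1 ?_)
      rw [← hE'c]
      exact hBmax _ hE'EA
    · rintro rfl
      exact ⟨hE'EA, fun B hB => hE'c ▸ (key B hB).1⟩
  have hAE : A = E := by
    rw [hA, Cfsg.thompsonSubgroupOf, Cfsg.thompsonSubgroup, hmax, sSup_singleton,
      Subgroup.map_subgroupOf_eq_of_le hES, hE'map]
  -- the members inside
  have hKset : ∀ x, x ∈ A ∧ x ∈ D ↔ x ∈ E ∧ x ∈ D := fun x => by rw [hAE]
  set Km := {x : G | x ∈ A ∧ x ∈ D}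
  have hKE : ∀ x ∈ Km, x ∈ E ∧ x ∈ D := fun x hx => (hKset x).1 hx
  have hnb : ∀ y ∈ Km, ∀ z ∈ Km, z = y ∨ z ∈ Nb D y := fun y hy z hz => by
    by_cases e : z = y
    · exact Or.inl e
    · exact Or.inr ⟨(hKE z hz).2, e, hEc' _ (hKE y hy).1 _ (hKE z hz).1⟩
  have hKK : ∀ z ∈ Km, ∀ w ∈ Km, Commute z w := fun z hz w hw => hEc' _ (hKE z hz).1 _ (hKE w hw).1
  have hdK : d ∈ Km := (hKset d).2 ⟨hdE, hd⟩
  have hK22 : Km.ncard = 22 := by
    refine le_antisymm (clique_le ctx hd (hnb d hdK) hKK) ?_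
    have hsub : ∀ i ∈ Set.Iio 22, f.symm (SylowTwo.d i) ∈ Km := fun i hi => by
      refine (hKset _).2 ⟨?_, ?_⟩
      · show f (f.symm (SylowTwo.d i)) ∈ SylowTwo.eSub
        rw [f.apply_symm_apply]
        exact SylowTwo.d_mem_eSub hi
      · rw [hD', f.apply_symm_apply]
        exact SylowTwo.d_mem_class hi
    have h := Set.ncard_le_ncard_of_injOn (s := Set.Iio 22) (t := Km) (fun i => f.symm (SylowTwo.d i)) hsub
      (fun i hi j hj e => by
        have e' := f.symm.injective e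
        rw [SylowTwo.d_eq hi, SylowTwo.d_eq hj] at e'
        exact SylowTwo.fpt_inj hi hj (dp_injective e')) (Set.toFinite _)
    simpa using h
  have hgen : E ≤ Subgroup.closure Km := by
    intro x hx
    have hcl := SylowTwo.eSub_le_closure (show f x ∈ SylowTwo.eSub from hx)
    have hle : Subgroup.closure {x | x ∈ classTr ∧ x ∈ SylowTwo.syl} ≤ (Subgroup.closure Km).map f.toMonoidHom := by
      rw [Subgroup.closure_le]
      rintro u ⟨hu, huT⟩
      refine ⟨f.symm u, Subgroup.subset_closure ?_, f.apply_symm_apply u⟩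
      have h1 : f.symm u ∈ D := by rw [hD', f.apply_symm_apply]; exact hu
      exact (hKset _).2 ⟨hTD _ h1 (by rw [hT, f.apply_symm_apply]; exact huT), h1⟩
    obtain ⟨y, hy, e⟩ := hle hcl
    rwa [← f.injective (show f y = f x from e)]
  refine ⟨hAE ▸ hEA, by rw [hAE, hEcard]; norm_num, hK22, fun x hx y hy hxD hyD => ?_⟩
  obtain ⟨a, ha⟩ := ctx.cls x hxD y hyD
  have hinj : Function.Injective fun z => a * z * a⁻¹ := fun u v e => mul_left_cancel (mul_right_cancel e)
  have hxK : x ∈ Km := ⟨hx, hxD⟩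
  have hyK : y ∈ Km := ⟨hy, hyD⟩
  obtain ⟨k, hk, hkK⟩ := clique_move ctx hyD (K := (fun z => a * z * a⁻¹) '' Km) (K' := Km)
    (by
      rintro _ ⟨z, hz, rfl⟩
      rcases hnb x hxK z hz with e | ⟨h1, h2, h3⟩
      · left; rw [e]; exact ha
      · right
        refine ⟨ctx.conj a z h1, fun e => h2 (hinj (e.trans ha.symm)), ?_⟩
        rw [← ha]
        exact (Commute.conj_iff a).2 h3)
    (by rintro _ ⟨z, hz, rfl⟩ _ ⟨w, hw, rfl⟩; exact (Commute.conj_iff a).2 (hKK z hz w hw))
    ⟨x, hxK, ha⟩ (by rw [Set.ncard_image_of_injective _ hinj, hK22]) (hnb y hyK) hKK hyK hK22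
  rw [Set.image_image] at hkK
  refine ⟨k * a, ?_, by rw [show k * a * x * (k * a)⁻¹ = k * (a * x * a⁻¹) * k⁻¹ by group, ha, hk.eq,
    mul_inv_cancel_right]⟩
  have hmap : A.map (MulAut.conj (k * a)).toMonoidHom = A := by
    have hAK : A = Subgroup.closure Km := le_antisymm (hAE ▸ hgen) ((Subgroup.closure_le _).2 fun z hz => hz.1)
    rw [hAK, MonoidHom.map_closure]
    congr 1
    conv_rhs => rw [← hkK]
    exact Set.image_congr fun z _ => by
      show k * a * z * (k * a)⁻¹ = k * (a * z * a⁻¹) * k⁻¹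
      group
  rw [Subgroup.mem_normalizer_iff]
  intro z
  constructor
  · intro hz
    rw [← hmap]
    exact ⟨z, hz, rfl⟩
  · intro hz
    rw [← hmap] at hz
    obtain ⟨w, hw, e⟩ := hz
    rwa [← mul_left_cancel (mul_right_cancel (show k * a * w * (k * a)⁻¹ = k * a * z * (k * a)⁻¹ from e))]

end CfsgLib.Sporadic.U62Centralizer
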